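import Cfsg.Agent.AutPOm.Radical

/-!
Every automorphism of `POmega` comes from a semisimilarity (outside dimension eight of plus type).
-/

set_option autoImplicit false
set_option linter.style.haveILetI false

namespace CfsgLib.AutPOm

open QuadraticMap CfsgLib.Forms CfsgLib.Quad

variable {F V : Type*} [Field F] [AddCommGroup V] [Module F V] {Q : QuadraticForm F V}
  [FiniteDimensional F V] [Finite F] (hQ : Big Q)
include hQ

variable (p : ℕ) [Fact p.Prime] [CharP F p]

theorem lineMap_eq_of_mem (γ : PG Q ≃* PG Q) {L M : Ln Q} {x : PG Q} (hx : x ∈ rootImg Q L.1)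
    (hx1 : x ≠ 1) (h : γ x ∈ rootImg Q M.1) : lineMap hQ p γ L = M :=
  line_eq_of_img_mem hQ p (lineMap_mem hQ p γ L hx) h
    fun e => hx1 ((map_eq_one_iff γ γ.injective).mp e)

/-- The effect on lines of composing with a semisimilarity. -/
theorem semi_point (γ : PG Q ≃* PG Q) (S : Semi Q) (N : Ln Q) {r : V}
    (hr : r ∈ (lineMap hQ p γ N).1) (hr0 : r ≠ 0) :
    S.T r ∈ (lineMap hQ p (γ.trans S.pgAut) N).1 := by
  obtain ⟨b, hMe, hbr, hQb, hrb⟩ := exists_second hr hr0
  have hQr : Q r = 0 := (lineMap hQ p γ N).2.sing r hr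
  have hli : LinearIndependent F ![S.T r, S.T b] := by
    refine LinearIndependent.pair_iff.mpr fun s t h => ?_
    have h1 : S.σ.symm s • r + S.σ.symm t • b = 0 := S.T.injective (by
      rw [map_add, S.smul, S.smul, RingEquiv.apply_symm_apply, RingEquiv.apply_symm_apply, h,
        map_zero])
    obtain ⟨h2, h3⟩ := LinearIndependent.pair_iff.mp (linearIndependent_pair_of hr0 hbr) _ _ h1
    exact ⟨(map_eq_zero_iff S.σ.symm S.σ.symm.injective).mp h2,
      (map_eq_zero_iff S.σ.symm S.σ.symm.injective).mp h3⟩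
  have hq : Q (S.T r) = 0 := by rw [S.quad, hQr, map_zero, mul_zero]
  let M' : Ln Q := ⟨_, isLine_span hli hq (by rw [S.quad, hQb, map_zero, mul_zero])
    (by rw [S.polar_map, hrb, map_zero, mul_zero])⟩
  obtain ⟨x, hx, hx1⟩ := exists_ne_one_img hQ p N
  obtain ⟨g, hg, hge⟩ := lineMap_mem hQ p γ N hx
  obtain ⟨t, ht⟩ := (mem_rootGrp_pair hQr hQb hrb).mp (hMe ▸ Subgroup.mem_subgroupOf.mp hg)
  have h2 : (γ.trans S.pgAut) x ∈ rootImg Q M'.1 := by
    refine ⟨S.omEquiv g, Subgroup.mem_subgroupOf.mpr ?_, ?_⟩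
    · rw [S.omEquiv_coe, ht, S.oEquiv_siegel hQr (by rw [polar_smul_right, hrb, smul_zero]),
        S.smul, smul_smul]
      exact siegel_mem_rootGrp (left_mem_pair _ _) (Submodule.smul_mem _ _ (right_mem_pair _ _))
    · rw [MulEquiv.trans_apply, ← hge]
      rfl
  rw [lineMap_eq_of_mem hQ p _ hx hx1 h2]
  exact left_mem_pair _ _

/-- An automorphism fixing a point and centralising its Siegel group, fixing an opposite point,
is trivial. -/
theorem eq_one_of_fix (hs : Shape Q) (γ : PG Q ≃* PG Q) {e f : V} (H : HPair Q e f)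
    (hrad : ∀ a, polar Q e a = 0 → γ (toPG Q (omS Q e a)) = toPG Q (omS Q e a))
    (hf : ∀ N : Ln Q, f ∈ N.1 → f ∈ (lineMap hQ p γ N).1) (x : PG Q) : γ x = x := by
  have hlineE : ∀ N : Ln Q, e ∈ N.1 → lineMap hQ p γ N = N := by
    intro N hN
    obtain ⟨v, hNe, hve, hQv, hev⟩ := exists_second hN H.ne_zero
    have hm : toPG Q (omS Q e v) ∈ rootImg Q N.1 := ⟨_, Subgroup.mem_subgroupOf.mpr (by
      rw [omS_coe hQ H.ee hev, hNe]
      exact siegel_mem_rootGrp (left_mem_pair e v) (right_mem_pair e v)), rfl⟩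
    refine lineMap_eq_of_mem hQ p γ hm (fun h1 => ?_) (by rw [hrad v hev]; exact hm)
    have h2 := toPG_inj_omGrp hQ p N.2 N.2 (g := omS Q e v) (h := 1) (Subgroup.mem_subgroupOf.mpr (by
      rw [omS_coe hQ H.ee hev, hNe]
      exact siegel_mem_rootGrp (left_mem_pair e v) (right_mem_pair e v))) (one_mem _)
      (h1.trans (map_one _).symm)
    refine root_ne_one hQ.nd (linearIndependent_pair_of H.ne_zero hve) H.ee hQv hev one_ne_zero ?_
    rw [one_smul, ← omS_coe hQ H.ee hev, h2]
    rfl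
  have hact : ∀ (g : ↥(Om Q)), γ (toPG Q g) = toPG Q g → ∀ q : V,
      (∀ N : Ln Q, q ∈ N.1 → q ∈ (lineMap hQ p γ N).1) →
      ∀ N : Ln Q, g.1.1 q ∈ N.1 → g.1.1 q ∈ (lineMap hQ p γ N).1 := by
    intro g hg q hq N hN
    have hN' : N = actLn g.1 (actLn g.1⁻¹ N) := Subtype.ext (Submodule.ext fun y => by
      constructor
      · intro hy
        exact ⟨g.1.1.symm y, ⟨y, hy, rfl⟩, g.1.1.apply_symm_apply y⟩
      · rintro ⟨_, ⟨z, hz, rfl⟩, rfl⟩
        change g.1.1 (g.1.1.symm z) ∈ N.1
        rwa [LinearEquiv.apply_symm_apply])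
    rw [hN'] at hN ⊢
    rw [mem_actLn] at hN
    rw [lineMap_act hQ p γ g g hg, mem_actLn]
    exact hq _ hN
  have hopp : ∀ a, InW Q e f a → ∀ N : Ln Q,
      (siegel Q e a).1 f ∈ N.1 → (siegel Q e a).1 f ∈ (lineMap hQ p γ N).1 := by
    intro a ha N hN
    have h := hact (omS Q e a) (hrad a ha.1) f hf N
    rw [omS_coe hQ H.ee ha.1] at h
    exact h hN
  have hpoint : ∀ q : V, Q q = 0 → q ≠ 0 → ∀ N : Ln Q, q ∈ N.1 →
      q ∈ (lineMap hQ p γ N).1 := by
    intro q hq hq0 N hN
    by_cases hqe : q ∈ Submodule.span F {e}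
    · obtain ⟨t, rfl⟩ := Submodule.mem_span_singleton.mp hqe
      rw [hlineE N (mem_of_smul (fun h => hq0 (by rw [h, zero_smul])) hN)]
      exact hN
    by_cases hb : polar Q q e = 0
    · let L₀ : Ln Q := ⟨_, isLine_span (linearIndependent_pair_of H.ne_zero hqe) H.ee hq
        (by rw [polar_comm, hb])⟩
      obtain ⟨r, hQr, hr0, hr⟩ := exists_point_image hQ p γ hs hq hq0
      have hrL : r ∈ L₀.1 := by
        rw [← hlineE L₀ (left_mem_pair e q)]
        exact (hr L₀).mp (right_mem_pair e q)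
      set w := projW Q e f q with hw
      have hwW : InW Q e f w := inW_projW H q
      have hqd : q = polar Q q f • e + w := by
        conv_lhs => rw [decomp (Q := Q) (e := e) (f := f) q, hb, zero_smul, add_zero]
      have hw0 : w ≠ 0 := fun h => hqe (by
        rw [h, add_zero] at hqd
        exact Submodule.mem_span_singleton.mpr ⟨_, hqd.symm⟩)
      obtain ⟨y, hy, hwy⟩ : ∃ y, InW Q e f y ∧ polar Q w y ≠ 0 := by
        by_contra h
        push Not at h
        exact hw0 (eq_zero_of_inW_perp hQ H hwW h)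
      obtain ⟨a, ha⟩ : ∃ a, a = (-(polar Q q f) / polar Q w y) • y := ⟨_, rfl⟩
      have haW : InW Q e f a := ha ▸ hy.smul _
      set f' := (siegel Q e a).1 f with hf'
      have hQf' : Q f' = 0 := by rw [hf', (siegel Q e a).2, H.ff]
      have hef' : polar Q e f' = 1 := by
        rw [hf', siegel_apply_opp H haW.1, polar_sub_right, polar_add_right, polar_smul_right,
          polar_self_zero H.ee, H.ef, haW.1, smul_zero, add_zero, sub_zero]
      have hwa : polar Q w a = -polar Q q f := by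
        rw [ha, polar_smul_right, smul_eq_mul, div_mul_cancel₀ _ hwy]
      have hqa : polar Q q a = polar Q w a := by
        rw [polar_comm (⇑Q) q a, polar_comm (⇑Q) w a, hw, polar_projW haW]
      have hqf' : polar Q q f' = 0 := by
        rw [hf', siegel_apply_opp H haW.1, polar_sub_right, polar_add_right, polar_smul_right, hb,
          smul_zero, sub_zero, hqa, hwa, add_neg_cancel]
      have hne : f' ∉ Submodule.span F {q} := fun h => by
        obtain ⟨t, ht⟩ := Submodule.mem_span_singleton.mp h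
        rw [← ht, polar_smul_right, polar_comm, hb, smul_zero] at hef'
        exact zero_ne_one hef'
      obtain ⟨K, hqK, hfK⟩ := collin_of_polar hq hQf' hqf' hq0 hne
      have hrf : polar Q r f' = 0 := (lineMap hQ p γ K).2.perp ((hr K).mp hqK) (hopp a haW K hfK)
      obtain ⟨α, β, hrab⟩ := Submodule.mem_span_pair.mp hrL
      rw [← hrab, polar_add_left, polar_smul_left, polar_smul_left, hef', hqf', smul_zero,
        add_zero, smul_eq_mul, mul_one] at hrf
      rw [hrf, zero_smul, zero_add] at hrab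
      have hβ : β ≠ 0 := fun h => hr0 (by rw [← hrab, h, zero_smul])
      exact mem_of_smul hβ (hrab ▸ (hr N).mp hN)
    · set β := polar Q q e with hβ
      set q' := β⁻¹ • q with hq'
      have hQq' : Q q' = 0 := by rw [hq', quad_smul, hq, mul_zero]
      have hq'e : polar Q q' e = 1 := by
        rw [hq', polar_smul_left, smul_eq_mul, inv_mul_cancel₀ hb]
      set a := projW Q e f q' with ha
      have haW : InW Q e f a := inW_projW H q'
      have hfix : (siegel Q e a).1 f = q' := by
        obtain ⟨α, hα⟩ : ∃ α, α = polar Q q' f := ⟨_, rfl⟩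
        have hd : q' = α • e + f + a := by
          conv_lhs => rw [decomp (Q := Q) (e := e) (f := f) q', hq'e, one_smul, ← hα]
        have hα' : α = -Q a := by
          have h := hQq'
          rw [hd] at h
          simp only [quad_add, quad_smul, H.ee, H.ff, polar_smul_left, H.ef, polar_add_left,
            haW.1, haW.2, smul_eq_mul, mul_zero, mul_one, zero_add, add_zero] at h
          linear_combination h
        rw [siegel_apply_opp H haW.1, haW.2, zero_add, hd, hα', neg_smul]
        abel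
      have h := hopp a haW N
      rw [hfix] at h
      exact mem_of_smul (inv_ne_zero hb) (h (N.1.smul_mem _ hN))
  have hline : ∀ N : Ln Q, lineMap hQ p γ N = N := by
    intro N
    obtain ⟨u, v, hli, hNe, hu, hv, -⟩ := N.2.exists_pair
    refine (Subtype.ext (N.2.eq_of_le (lineMap hQ p γ N).2 ?_)).symm
    have h1 := hpoint u hu (hli.ne_zero 0) N (hNe ▸ left_mem_pair u v)
    have h2 := hpoint v hv (hli.ne_zero 1) N (hNe ▸ right_mem_pair u v)
    rw [hNe]
    exact Submodule.span_le.mpr (Set.insert_subset h1 (Set.singleton_subset_iff.mpr h2))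
  obtain ⟨g, rfl⟩ := QuotientGroup.mk'_surjective _ x
  obtain ⟨h, hh⟩ := QuotientGroup.mk'_surjective _ (γ (toPG Q g))
  have hgh : ∀ L : Ln Q, actLn g.1 L = actLn h.1 L := fun L => by
    have h1 := lineMap_act hQ p γ g h hh.symm L
    rw [hline L, hline (actLn g.1 L)] at h1
    exact h1
  change γ (toPG Q g) = toPG Q g
  rw [← hh]
  refine QuotientGroup.eq.mpr ((center_iff hQ.nd hQ.five _).mpr
    (eq_scalar_of_fix hQ.nd hQ.five fun q hq => ?_))
  rcases eq_or_ne q 0 with rfl | hq0
  · exact ⟨0, by rw [map_zero, zero_smul]⟩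
  obtain ⟨L, M, hL, hM, -, hne⟩ := exists_star_pair hQ hq hq0
  have key : ∀ X : Ln Q, q ∈ X.1 → (h⁻¹ * g).1.1 q ∈ X.1 := by
    intro X hX
    have h1 : g.1.1 q ∈ (actLn h.1 X).1 := hgh X ▸ (mem_actLn g.1 X).mpr hX
    obtain ⟨z, hz, he⟩ := h1
    change h.1.1.symm (g.1.1 q) ∈ X.1
    rw [← he]
    exact (h.1.1.symm_apply_apply z).symm ▸ hz
  obtain ⟨t, ht⟩ := Submodule.mem_span_singleton.mp
    (L.2.inter_eq M.2 (fun e => hne (Subtype.ext e)) hL hM hq0 (key L hL) (key M hM))
  exact ⟨t, ht.symm⟩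

include p in
/-- Every automorphism is induced by a semisimilarity. -/
theorem exists_semi_eq (hs : Shape Q) (γ : PG Q ≃* PG Q) :
    ∃ S : Semi Q, ∀ x, γ x = S.pgAut x := by
  obtain ⟨e, -, he0, hee⟩ := exists_singular_of_three (Q := Q) (⊤ : Submodule F V)
    (by rw [finrank_top]; have := hQ.dim; omega)
  obtain ⟨f, H⟩ := exists_pair_of_singular hQ he0 hee
  have hf0 : f ≠ 0 := H.symm.ne_zero
  obtain ⟨e', hQe', he'0, he'⟩ := exists_point_image hQ p γ hs hee he0
  obtain ⟨f', hQf', hf'0, hf'⟩ := exists_point_image hQ p γ hs H.ff hf0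
  have hfe : f ∉ Submodule.span F {e} := fun h => by
    obtain ⟨t, rfl⟩ := Submodule.mem_span_singleton.mp h
    have := H.ef
    rw [polar_smul_right, polar_self_zero hee, smul_zero] at this
    exact zero_ne_one this
  have hβ : polar Q e' f' ≠ 0 := by
    intro hzero
    by_cases hin : f' ∈ Submodule.span F {e'}
    · obtain ⟨t, rfl⟩ := Submodule.mem_span_singleton.mp hin
      exact hfe (point_unique hQ hee he0 fun N hN =>
        (hf' N).mpr (Submodule.smul_mem _ t ((he' N).mp hN)))
    · obtain ⟨K, hK1, hK2⟩ := collin_of_polar hQe' hQf' hzero he'0 hin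
      obtain ⟨K, rfl⟩ := lineMap_surjective hQ p γ K
      exact one_ne_zero (H.ef ▸ K.2.perp ((he' K).mpr hK1) ((hf' K).mpr hK2))
  set f'' := (polar Q e' f')⁻¹ • f' with hf''
  have hQf'' : Q f'' = 0 := by rw [hf'', quad_smul, hQf', mul_zero]
  have hef'' : polar Q e' f'' = 1 := by
    rw [hf'', polar_smul_right, smul_eq_mul, inv_mul_cancel₀ hβ]
  have hli' : LinearIndependent F ![e', f''] := linearIndependent_pair_of he'0 fun h => by
    obtain ⟨t, ht⟩ := Submodule.mem_span_singleton.mp h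
    rw [← ht, polar_smul_right, polar_self_zero hQe', smul_zero] at hef''
    exact zero_ne_one hef''
  obtain ⟨g₀, hg₀, hmap⟩ := quad_exists_map_family hQ.nd ![e', f''] ![e, f] hli'
    (linearIndependent_pair_of he0 hfe)
    (fun i => by fin_cases i <;> simp [hQe', hQf'', hee, H.ff])
    (fun i j => by
      fin_cases i <;> fin_cases j <;>
        simp [polar_self_zero, polar_comm (⇑Q) f'' e', polar_comm (⇑Q) f e, hQe', hQf'', hee,
          H.ff, hef'', H.ef])
  let S₀ : Semi Q := Semi.ofIso ⟨g₀, hg₀⟩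
  set γ₁ := γ.trans S₀.pgAut with hγ₁
  have he₁ : ∀ N : Ln Q, e ∈ N.1 → e ∈ (lineMap hQ p γ₁ N).1 := fun N hN => by
    have := semi_point hQ p γ S₀ N ((he' N).mp hN) he'0
    rwa [show S₀.T e' = e from hmap 0] at this
  have hf₁ : ∀ N : Ln Q, f ∈ N.1 → f ∈ (lineMap hQ p γ₁ N).1 := fun N hN => by
    have hm : f'' ∈ (lineMap hQ p γ N).1 := Submodule.smul_mem _ _ ((hf' N).mp hN)
    have := semi_point hQ p γ S₀ N hm (hli'.ne_zero 1)
    rwa [show S₀.T f'' = f from hmap 1] at this
  have he₁' : ∀ N : Ln Q, e ∈ N.1 ↔ e ∈ (lineMap hQ p γ₁ N).1 := by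
    intro N
    refine ⟨he₁ N, fun h => ?_⟩
    obtain ⟨r, hQr, hr0, hr⟩ := exists_point_image hQ p γ₁ hs hee he0
    refine (hr N).mpr ?_
    obtain ⟨L, M, hL, hM, -, hne⟩ := exists_star_pair hQ hee he0
    obtain ⟨t, rfl⟩ := Submodule.mem_span_singleton.mp
      ((lineMap hQ p γ₁ L).2.inter_eq (lineMap hQ p γ₁ M).2
        (fun he => hne (lineMap_injective hQ p γ₁ (Subtype.ext he))) (he₁ L hL) (he₁ M hM) he0
        ((hr L).mp hL) ((hr M).mp hM))
    exact Submodule.smul_mem _ t h
  obtain ⟨σ, c, hsmul, hquad⟩ := psi_similitude hQ p γ₁ H he₁'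
  set ψ := psi hQ p γ₁ H he₁'
  let Tf : V → V := fun x =>
    ((c : F) * σ (polar Q x f)) • e + σ (polar Q x e) • f + ψ (projW Q e f x)
  have hTadd : ∀ x y, Tf (x + y) = Tf x + Tf y := fun x y => by
    simp only [Tf, ψ, polar_add_left, map_add, mul_add, projW_add,
      psi_add hQ p γ₁ H he₁' (inW_projW H x) (inW_projW H y)]
    module
  have hTsmul : ∀ (t : F) x, Tf (t • x) = σ t • Tf x := fun t x => by
    simp only [Tf, polar_smul_left, smul_eq_mul, map_mul, projW_smul, hsmul _ (inW_projW H x)]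
    module
  have hTquad : ∀ x, Q (Tf x) = (c : F) * σ (Q x) := fun x => by
    have hW := inW_projW H x
    have hψW : InW Q e f (ψ (projW Q e f x)) := psi_inW hQ p γ₁ H he₁' hW
    conv_rhs => rw [decomp (Q := Q) (e := e) (f := f) x]
    simp only [Tf, quad_add, quad_smul, hee, H.ff, polar_add_left, polar_smul_left,
      polar_smul_right, H.ef, hψW.1, hψW.2, hW.1, hW.2, hquad _ hW, smul_eq_mul, map_add, map_mul,
      map_zero, map_one]
    ring
  let Th : V →+ V := AddMonoidHom.mk' Tf hTadd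
  have hinj : Function.Injective Th := (injective_iff_map_eq_zero Th).mpr fun x hx => by
    refine hQ.nd.1 x fun y => ?_
    have h1 : polar Q (Tf x) (Tf y) = (c : F) * σ (polar Q x y) := by
      simp only [polar, ← hTadd, hTquad, map_sub, mul_sub]
    rw [show Tf x = 0 from hx, polar_zero_left, eq_comm, mul_eq_zero] at h1
    exact (map_eq_zero_iff σ σ.injective).mp (h1.resolve_left c.ne_zero)
  haveI : Finite V := Module.finite_of_finite F
  let S₁ : Semi Q :=
    { σ := σ
      T := AddEquiv.ofBijective Th (Finite.injective_iff_bijective.mp hinj)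
      c := c
      smul := hTsmul
      quad := hTquad }
  have hTe : S₁.T e = (c : F) • e := by
    change Tf e = _
    simp only [Tf, projW, H.ef, polar_self_zero hee, zero_smul, sub_zero, one_smul, sub_self,
      map_one, map_zero, mul_one, add_zero, ψ, psi_zero]
  have hTf : S₁.T f = f := by
    change Tf f = _
    simp only [Tf, projW, H.fe, polar_self_zero H.ff, zero_smul, sub_zero, one_smul, sub_self,
      map_one, map_zero, mul_zero, zero_add, add_zero, ψ, psi_zero]
  have hTW : ∀ w, InW Q e f w → S₁.T w = ψ w := fun w hw => by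
    change Tf w = _
    simp only [Tf, projW_of_inW hw, polar_comm (⇑Q) w, hw.1, hw.2, map_zero, mul_zero, zero_smul,
      zero_add]
  set γ₂ := γ₁.trans S₁.symm.pgAut with hγ₂
  have hrad : ∀ a, polar Q e a = 0 → γ₂ (toPG Q (omS Q e a)) = toPG Q (omS Q e a) := by
    intro a ha
    have hproj : omS Q e a = omS Q e (projW Q e f a) := Subtype.ext (by
      rw [omS_coe hQ hee ha, omS_coe hQ hee (inW_projW H a).1, ← siegel_proj H ha])
    rw [hproj]
    have hW := inW_projW H a
    have hS : S₁.omEquiv (omS Q e (projW Q e f a)) = omS Q e (ψ (projW Q e f a)) := by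
      refine Subtype.ext ?_
      have hψW : InW Q e f (ψ (projW Q e f a)) := psi_inW hQ p γ₁ H he₁' hW
      rw [S₁.omEquiv_coe, omS_coe hQ hee hW.1, omS_coe hQ hee hψW.1, S₁.oEquiv_siegel hee hW.1,
        hTe, hTW _ hW, siegel_smul hee (by rw [polar_smul_right, hψW.1, smul_zero]), smul_smul,
        show (S₁.c : Fˣ) = c from rfl, Units.mul_inv, one_smul]
    rw [hγ₂, MulEquiv.trans_apply, psi_spec hQ p γ₁ H he₁' hW, ← hS, ← S₁.pgAut_mk, S₁.pgAut_symm]
  have hf₂ : ∀ N : Ln Q, f ∈ N.1 → f ∈ (lineMap hQ p γ₂ N).1 := fun N hN => by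
    have := semi_point hQ p γ₁ S₁.symm N (hf₁ N hN) hf0
    rwa [show S₁.symm.T f = f from S₁.T.symm_apply_eq.mpr hTf.symm] at this
  refine ⟨S₁.trans S₀.symm, fun x => ?_⟩
  have h2 : γ₂ x = x := eq_one_of_fix hQ p hs γ₂ H hrad hf₂ x
  rw [hγ₂, MulEquiv.trans_apply] at h2
  have h1 : γ₁ x = S₁.pgAut x := by
    apply S₁.symm.pgAut.injective
    rw [h2, S₁.pgAut_symm]
  rw [Semi.pgAut_trans, ← h1, hγ₁, MulEquiv.trans_apply, S₀.pgAut_symm]

end CfsgLib.AutPOm
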