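import Cfsg.Prelude.Def_LieTypeDatum
import Cfsg.Agent.AutPOm.Main
import Cfsg.Agent.Quad.Concrete

/-!
The semisimilarity group exhausts the automorphisms of the matrix `POmega`.
-/

set_option autoImplicit false
set_option linter.style.haveILetI false

namespace CfsgLib.AutPOm

open QuadraticMap CfsgLib.Forms CfsgLib.Quad Matrix

variable {F : Type*} [Field F]

section bridge

variable {ι : Type} [Fintype ι] [DecidableEq ι] {Q : QuadraticForm F (ι → F)}

/-- The linear part of a semisimilarity. -/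
def Semi.linPart (S : Semi Q) : (ι → F) ≃ₗ[F] (ι → F) where
  toFun v := S.T fun i => S.σ.symm (v i)
  map_add' u v := by
    rw [← map_add]
    congr 1
    funext i
    simp
  map_smul' a v := by
    have h : (fun i => S.σ.symm ((a • v) i)) = S.σ.symm a • fun i => S.σ.symm (v i) := by
      funext i
      simp
    rw [h, S.smul, RingEquiv.apply_symm_apply, RingHom.id_apply]
  invFun x i := S.σ (S.T.symm x i)
  left_inv v := by
    funext i
    simp
  right_inv x := by simp

/-- The matrix of a semisimilarity. -/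
noncomputable def Semi.mat (S : Semi Q) : GL ι F :=
  Matrix.GeneralLinearGroup.toLin.symm
    ((LinearMap.GeneralLinearGroup.generalLinearEquiv F _).symm S.linPart)

theorem Semi.mat_mulVec (S : Semi Q) (v : ι → F) :
    (S.mat : Matrix ι ι F) *ᵥ v = S.T fun i => S.σ.symm (v i) := by
  change LinearMap.toMatrix' S.linPart.toLinearMap *ᵥ v = _
  rw [LinearMap.toMatrix'_mulVec]
  rfl

theorem Semi.isSemisimilarityPair (S : Semi Q) : Cfsg.IsSemisimilarityPair ⇑Q S.mat S.σ := by
  refine ⟨S.c, fun v => ?_⟩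
  rw [S.mat_mulVec]
  simp only [RingEquiv.symm_apply_apply]
  exact S.quad v

theorem omegaEquiv_coe (s : ↥(Cfsg.Omega F ⇑Q)) :
    ((omegaEquiv Q) s).1 = isoGroupEquiv Q s.1 := rfl

theorem pOmegaEquiv_mk (s : ↥(Cfsg.Omega F ⇑Q)) :
    pOmegaEquiv Q (QuotientGroup.mk s) = toPG Q (omegaEquiv Q s) := rfl

theorem map_mulVec' (σ : F ≃+* F) (M : Matrix ι ι F) (u : ι → F) :
    M.map σ *ᵥ u = fun i => σ ((M *ᵥ fun j => σ.symm (u j)) i) := by
  funext i
  simp [Matrix.mulVec, dotProduct, map_sum]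

/-- The automorphism of the matrix group attached to a semisimilarity. -/
noncomputable def Semi.pomAut (S : Semi Q) : MulAut (Cfsg.POmega F ⇑Q) :=
  ((pOmegaEquiv Q).trans S.pgAut).trans (pOmegaEquiv Q).symm

theorem Semi.pomAut_induced (S : Semi Q) :
    Cfsg.IsInducedBySemilinearPOmega ⇑Q S.mat S.σ S.pomAut := by
  intro s s' h
  apply (pOmegaEquiv Q).injective
  rw [Semi.pomAut, MulEquiv.trans_apply, MulEquiv.trans_apply, MulEquiv.apply_symm_apply,
    pOmegaEquiv_mk, pOmegaEquiv_mk, S.pgAut_mk]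
  congr 1
  refine Subtype.ext (Subtype.ext (LinearEquiv.ext fun x => ?_))
  rw [S.omEquiv_coe, S.oEquiv_apply, omegaEquiv_coe, omegaEquiv_coe, isoGroupEquiv_apply,
    isoGroupEquiv_apply, h, ← Matrix.mulVec_mulVec, ← Matrix.mulVec_mulVec, map_mulVec',
    S.mat_mulVec]
  simp only [RingEquiv.symm_apply_apply]
  congr 2
  have h2 : ((S.mat⁻¹ : GL ι F) : Matrix ι ι F) *ᵥ x = fun i => S.σ (S.T.symm x i) := by
    have h3 : (S.mat : Matrix ι ι F) *ᵥ (fun i => S.σ (S.T.symm x i)) = x := by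
      rw [S.mat_mulVec]
      simp
    conv_lhs => rw [← h3, Matrix.mulVec_mulVec, ← Units.val_mul, inv_mul_cancel, Units.val_one,
      Matrix.one_mulVec]
  rw [h2]
  simp

variable [Finite F]

theorem exists_semi_pomAut (hQ : Big Q) (hs : Shape Q) (β : MulAut (Cfsg.POmega F ⇑Q)) :
    ∃ S : Semi Q, β = S.pomAut := by
  obtain ⟨p, hp⟩ := CharP.exists F
  haveI : Fact p.Prime := ⟨CharP.char_is_prime F p⟩
  obtain ⟨S, hS⟩ := exists_semi_eq hQ p hs (((pOmegaEquiv Q).symm.trans β).trans (pOmegaEquiv Q))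
  refine ⟨S, MulEquiv.ext fun x => (pOmegaEquiv Q).injective ?_⟩
  rw [Semi.pomAut, MulEquiv.trans_apply, MulEquiv.trans_apply, MulEquiv.apply_symm_apply,
    ← hS (pOmegaEquiv Q x), MulEquiv.trans_apply, MulEquiv.trans_apply, MulEquiv.symm_apply_apply]

theorem gammaPOmega_eq_top (hQ : Big Q) (hs : Shape Q) : Cfsg.gammaPOmega F ⇑Q = ⊤ := by
  refine eq_top_iff.mpr fun β _ => ?_
  obtain ⟨S, rfl⟩ := exists_semi_pomAut hQ hs β
  exact Subgroup.subset_closure ⟨S.mat, S.σ, S.isSemisimilarityPair, S.pomAut_induced⟩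

end bridge

theorem ts_bound_hypSum {V : Type*} [AddCommGroup V] [Module F V] [FiniteDimensional F V]
    {Q : QuadraticForm F V} {k : ℕ}
    (h : ∀ T : Submodule F V, (∀ x ∈ T, Q x = 0) → Module.finrank F T ≤ k)
    (T : Submodule F ((F × F) × V)) (hT : ∀ x ∈ T, hypSum Q x = 0) :
    Module.finrank F T ≤ k + 1 := by
  let φ : ((F × F) × V) →ₗ[F] F := (LinearMap.snd F F F).comp (LinearMap.fst F (F × F) V)
  have hrn : Module.finrank F (LinearMap.range φ) + Module.finrank F (LinearMap.ker φ) =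
      Module.finrank F ((F × F) × V) := φ.finrank_range_add_finrank_ker
  have hr : Module.finrank F (LinearMap.range φ) ≤ 1 :=
    (Submodule.finrank_le _).trans (Module.finrank_self F).le
  have hsum := Submodule.finrank_sup_add_finrank_inf_eq T (LinearMap.ker φ)
  have hsup := Submodule.finrank_le (T ⊔ LinearMap.ker φ)
  set T' := T ⊓ LinearMap.ker φ with hT'
  let π : T' →ₗ[F] V := (LinearMap.snd F (F × F) V).comp T'.subtype
  have hts : ∀ x ∈ LinearMap.range π, Q x = 0 := by
    rintro _ ⟨⟨x, hx, hφ⟩, rfl⟩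
    have h1 := hT x hx
    rw [hypSum_apply, show x.1.2 = 0 from hφ, mul_zero, zero_add] at h1
    exact h1
  have h2 := h _ hts
  have hrn' : Module.finrank F (LinearMap.range π) + Module.finrank F (LinearMap.ker π) =
      Module.finrank F T' := π.finrank_range_add_finrank_ker
  by_cases he : (((1, 0), 0) : (F × F) × V) ∈ T
  · have hle : T ≤ T' := fun x hx => by
      refine ⟨hx, ?_⟩
      have h1 := hT _ (T.add_mem he hx)
      have h3 := hT x hx
      rw [hypSum_apply] at h1 h3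
      simp only [Prod.fst_add, Prod.snd_add, zero_add] at h1
      rw [SetLike.mem_coe, LinearMap.mem_ker]
      change x.1.2 = 0
      linear_combination h1 - h3
    have hle' := Submodule.finrank_mono hle
    have hk1 : Module.finrank F (LinearMap.ker π) ≤ 1 := by
      refine le_trans (Submodule.finrank_mono (t := Submodule.span F {(⟨_, hle he⟩ : T')}) ?_)
        ((finrank_span_le_card _).trans (by simp))
      rintro ⟨x, hx, hφ⟩ hπ
      refine Submodule.mem_span_singleton.mpr ⟨x.1.1, Subtype.ext ?_⟩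
      have h3 : x.2 = 0 := hπ
      have h4 : x.1.2 = 0 := hφ
      ext <;> simp [h3, h4]
    omega
  · have hk0 : LinearMap.ker π = ⊥ := by
      refine (Submodule.eq_bot_iff _).mpr ?_
      rintro ⟨x, hx, hφ⟩ hπ
      have h3 : x.2 = 0 := hπ
      have h4 : x.1.2 = 0 := hφ
      by_cases h5 : x.1.1 = 0
      · refine Subtype.ext ?_
        ext <;> simp [h3, h4, h5]
      · exfalso
        refine he ?_
        have h6 := T.smul_mem x.1.1⁻¹ hx
        have h7 : x.1.1⁻¹ • x = (((1, 0), 0) : (F × F) × V) := by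
          ext <;> simp [h3, h4, h5]
        rwa [h7] at h6
    rw [hk0, finrank_bot] at hrn'
    omega

theorem ts_bound_minusQ {a b : F}
    (hab : ∀ z₁ z₂ : F, z₁ ^ 2 + a * z₁ * z₂ + b * z₂ ^ 2 = 0 → z₁ = 0 ∧ z₂ = 0) :
    ∀ (m : ℕ) (T : Submodule F ((Fin m ⊕ Fin m) ⊕ Fin 2 → F)),
      (∀ x ∈ T, minusQ m a b x = 0) → Module.finrank F T ≤ m
  | 0 => fun T hT => by
    rw [Nat.le_zero, Submodule.finrank_eq_zero, Submodule.eq_bot_iff]
    intro x hx
    have h := hT x hx
    rw [minusQ_coe] at h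
    obtain ⟨h1, h2⟩ := hab (x (.inr 0)) (x (.inr 1)) (by simpa [Cfsg.quadFormMinus] using h)
    funext i
    rcases i with (i | i) | i
    · exact i.elim0
    · exact i.elim0
    · fin_cases i <;> assumption
  | m + 1 => fun T hT => by
    have h := ts_bound_hypSum (ts_bound_minusQ hab m) (T.map (minusSplit m).toLinearMap) (by
      rintro _ ⟨x, hx, rfl⟩
      exact (minusSplit_apply m a b x).trans (hT x hx))
    rwa [LinearEquiv.finrank_map_eq] at h

theorem big_oddQ (hodd : (2 : F) ≠ 0) {m : ℕ} (hm : 3 ≤ m) :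
    Big (oddQ (F := F) m) ∧ Shape (oddQ (F := F) m) := by
  refine ⟨⟨oddQ_nondeg hodd m, ?_⟩, Or.inl ?_⟩ <;>
    simp [Module.finrank_fintype_fun_eq_card] <;> omega

theorem big_plusQ {m : ℕ} (hm : 5 ≤ m) : Big (plusQ (F := F) m) ∧ Shape (plusQ (F := F) m) := by
  refine ⟨⟨plusQ_nondeg m, ?_⟩, Or.inl ?_⟩ <;>
    simp [Module.finrank_fintype_fun_eq_card] <;> omega

theorem big_minusQ [Finite F] {a b : F}
    (hab : ∀ z₁ z₂ : F, z₁ ^ 2 + a * z₁ * z₂ + b * z₂ ^ 2 = 0 → z₁ = 0 ∧ z₂ = 0) {m : ℕ}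
    (hm : 3 ≤ m) : Big (minusQ m a b) ∧ Shape (minusQ m a b) := by
  refine ⟨⟨minusQ_nondeg hab m, by simp [Module.finrank_fintype_fun_eq_card]; omega⟩, ?_⟩
  rcases eq_or_lt_of_le hm with rfl | hm'
  · exact Or.inr fun T hT => Nat.lt_succ_of_le (ts_bound_minusQ hab 3 T hT)
  · exact Or.inl (by simp [Module.finrank_fintype_fun_eq_card]; omega)

end CfsgLib.AutPOm
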