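import Cfsg.Agent.AutPOm.FieldClass
import Cfsg.Agent.QuadStd.Split
import Mathlib.FieldTheory.Finite.GaloisField

/-!
The standard forms over a subfield and the types of descended forms.
-/

set_option autoImplicit false
set_option linter.style.haveILetI false

namespace CfsgLib.AutPOm

open QuadraticMap CfsgLib.Forms CfsgLib.Quad Matrix

variable {K F : Type*} [Field K] [Field F]

theorem isBase_oddQ (f : K →+* F) (m : ℕ) : IsBase f (oddQ m) (oddQ (F := F) m) := fun z => by
  simp [oddQ_coe, Cfsg.quadFormOdd, extVec]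

theorem isBase_plusQ (f : K →+* F) (m : ℕ) : IsBase f (plusQ m) (plusQ (F := F) m) := fun z => by
  simp [plusQ_coe, Cfsg.quadFormPlus, extVec]

theorem isBase_minusQ (f : K →+* F) (m : ℕ) (a b : K) :
    IsBase f (minusQ m a b) (minusQ (F := F) m (f a) (f b)) := fun z => by
  simp [minusQ_coe, Cfsg.quadFormMinus, extVec]

/-- The first coordinates of the hyperbolic form. -/
def plusHalf (K : Type*) [Field K] (m : ℕ) : Submodule K (Fin m ⊕ Fin m → K) :=
  LinearMap.ker (LinearMap.funLeft K K Sum.inr)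

theorem finrank_plusHalf (m : ℕ) : Module.finrank K (plusHalf K m) = m := by
  have h := (LinearMap.funLeft K K (Sum.inr : Fin m → Fin m ⊕ Fin m)).finrank_range_add_finrank_ker
  rw [LinearMap.range_eq_top.mpr (LinearMap.funLeft_surjective_of_injective K K _ Sum.inr_injective),
    finrank_top, Module.finrank_fintype_fun_eq_card, Module.finrank_fintype_fun_eq_card] at h
  simp only [Fintype.card_sum, Fintype.card_fin] at h
  exact Nat.add_left_cancel h

theorem hypSpace_plusQ {m : ℕ} (hm : 3 ≤ m) : HypSpace (plusQ (F := K) m) m (plusHalf K m) := by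
  refine ⟨plusQ_nondeg m, by simp [Module.finrank_fintype_fun_eq_card]; ring, by omega,
    fun x hx => ?_, finrank_plusHalf m⟩
  have hx' : ∀ i, x (Sum.inr i) = 0 := fun i => congrFun (LinearMap.mem_ker.mp hx) i
  simp [plusQ_coe, Cfsg.quadFormPlus, hx']

variable [Finite K]

theorem exists_aniso_pair (K : Type*) [Field K] [Finite K] :
    ∃ a b : K, ∀ z₁ z₂ : K, z₁ ^ 2 + a * z₁ * z₂ + b * z₂ ^ 2 = 0 → z₁ = 0 ∧ z₂ = 0 := by
  obtain ⟨c, hc⟩ : ∃ c : K, ∀ t : K, t * t + t ≠ c := by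
    by_contra h
    push Not at h
    have hinj := Finite.injective_iff_surjective.mpr (fun c => h c : Function.Surjective fun t : K => t * t + t)
    exact one_ne_zero (neg_eq_zero.mp (hinj (a₁ := -1) (a₂ := 0) (by simp)))
  refine ⟨1, -c, CfsgLib.QuadStd.plane_aniso fun t ht => hc t (by linear_combination ht)⟩

/-- All anisotropic binary coefficients give isometric minus forms. -/
theorem minusQ_isometric {a b a' b' : K} (m : ℕ)
    (hab : ∀ z₁ z₂ : K, z₁ ^ 2 + a * z₁ * z₂ + b * z₂ ^ 2 = 0 → z₁ = 0 ∧ z₂ = 0)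
    (hab' : ∀ z₁ z₂ : K, z₁ ^ 2 + a' * z₁ * z₂ + b' * z₂ ^ 2 = 0 → z₁ = 0 ∧ z₂ = 0) :
    ∃ φ : ((Fin m ⊕ Fin m) ⊕ Fin 2 → K) ≃ₗ[K] ((Fin m ⊕ Fin m) ⊕ Fin 2 → K),
      ∀ z, minusQ m a b (φ z) = minusQ m a' b' z := by
  obtain ⟨s, t, ht, h1, h2⟩ := exists_st hab hab'
  refine ⟨
    { toFun := fun z => Sum.elim (fun i => z (.inl i)) ![z (.inr 0) + s * z (.inr 1), t * z (.inr 1)]
      map_add' := fun u v => by
        funext i
        rcases i with i | i
        · rfl
        · fin_cases i <;> simp <;> ring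
      map_smul' := fun c v => by
        funext i
        rcases i with i | i
        · rfl
        · fin_cases i <;> simp <;> ring
      invFun := fun z => Sum.elim (fun i => z (.inl i))
        ![z (.inr 0) - s * (t⁻¹ * z (.inr 1)), t⁻¹ * z (.inr 1)]
      left_inv := fun z => by
        funext i
        rcases i with i | i
        · rfl
        · fin_cases i <;> simp [inv_mul_cancel_left₀ ht]
      right_inv := fun z => by
        funext i
        rcases i with i | i
        · rfl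
        · fin_cases i <;> simp [mul_inv_cancel_left₀ ht] }, fun z => ?_⟩
  simp only [minusQ_coe, Cfsg.quadFormMinus, LinearEquiv.coe_mk, LinearMap.coe_mk, AddHom.coe_mk,
    Sum.elim_inl, Sum.elim_inr, Matrix.cons_val_zero, Matrix.cons_val_one]
  linear_combination (z (.inr 0) * z (.inr 1)) * h1 + z (.inr 1) ^ 2 * h2

theorem similar_odd {ι : Type} [Fintype ι] [DecidableEq ι] {Q1 : QuadraticForm K (ι → K)}
    (hQ : (polarBilin Q1).Nondegenerate) {m : ℕ} (hι : Fintype.card ι = 2 * m + 1) :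
    ∃ (φ : (Unit ⊕ (Fin m ⊕ Fin m) → K) ≃ₗ[K] (ι → K)) (c : K), c ≠ 0 ∧
      ∀ z, Q1 (φ z) = c * oddQ m z := by
  obtain ⟨c, φ, hc, -, hφ⟩ := CfsgLib.QuadStd.classify_odd hQ
    (m := m) (by rw [Module.finrank_fintype_fun_eq_card, hι])
  refine ⟨(
    { toFun := fun z => Sum.elim (fun u => z (.inl u))
        (Sum.elim (fun i => c * z (.inr (.inl i))) fun i => z (.inr (.inr i)))
      map_add' := fun u v => by
        funext i
        rcases i with i | i | i <;> simp [mul_add]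
      map_smul' := fun a v => by
        funext i
        rcases i with i | i | i <;> simp [mul_left_comm]
      invFun := fun z => Sum.elim (fun u => z (.inl u))
        (Sum.elim (fun i => c⁻¹ * z (.inr (.inl i))) fun i => z (.inr (.inr i)))
      left_inv := fun z => by
        funext i
        rcases i with i | i | i <;> simp [inv_mul_cancel_left₀ hc]
      right_inv := fun z => by
        funext i
        rcases i with i | i | i <;> simp [mul_inv_cancel_left₀ hc] } :
      (Unit ⊕ (Fin m ⊕ Fin m) → K) ≃ₗ[K] (Unit ⊕ (Fin m ⊕ Fin m) → K)).trans φ.symm, c, hc, fun z => ?_⟩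
  rw [hφ, LinearEquiv.trans_apply, φ.apply_symm_apply, oddQ_coe]
  simp [Cfsg.quadFormOdd, Cfsg.quadFormPlus, Finset.mul_sum, mul_assoc, mul_add]

/-- Even-dimensional forms are plus or minus. -/
theorem similar_even {ι : Type} [Fintype ι] [DecidableEq ι] {Q1 : QuadraticForm K (ι → K)}
    (hQ : (polarBilin Q1).Nondegenerate) {k : ℕ} (hι : Fintype.card ι = 2 * (k + 1)) {a b : K}
    (hab : ∀ z₁ z₂ : K, z₁ ^ 2 + a * z₁ * z₂ + b * z₂ ^ 2 = 0 → z₁ = 0 ∧ z₂ = 0) :
    (∃ φ : (Fin (k + 1) ⊕ Fin (k + 1) → K) ≃ₗ[K] (ι → K), ∀ z, Q1 (φ z) = 1 * plusQ (k + 1) z) ∨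
    ∃ φ : ((Fin k ⊕ Fin k) ⊕ Fin 2 → K) ≃ₗ[K] (ι → K), ∀ z, Q1 (φ z) = 1 * minusQ k a b z := by
  rcases CfsgLib.QuadStd.classify_even hQ (m := k + 1)
      (by rw [Module.finrank_fintype_fun_eq_card, hι]) with ⟨φ, hφ⟩ | ⟨ζ, φ, -, hζ, hφ⟩
  · exact Or.inl ⟨φ.symm, fun z => by rw [hφ, φ.apply_symm_apply, one_mul]⟩
  · obtain ⟨ψ, hψ⟩ := minusQ_isometric k (CfsgLib.QuadStd.plane_aniso hζ) hab
    exact Or.inr ⟨ψ.trans φ.symm, fun z => by
      rw [hφ, LinearEquiv.trans_apply, φ.apply_symm_apply, one_mul]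
      exact hψ z⟩

variable [Finite F] {f : K →+* F} {σ : RingAut F} {r : ℕ} (hf : IsFixed f σ r)
  {ι : Type} [Fintype ι] [DecidableEq ι] {Q : QuadraticForm F (ι → F)}
include hf

theorem isHalf_map_similitude {κ : Type} {Qs : QuadraticForm F (κ → F)} [Fintype κ] {n : ℕ}
    {U : Submodule F (κ → F)} (hU : IsHalf Qs n U) (J : (κ → F) ≃ₗ[F] (ι → F)) {w : Fˣ}
    (hJ : ∀ u, Q (J u) = (w : F) * Qs u) : IsHalf Q n (U.map J.toLinearMap) := by
  refine ⟨?_, (LinearEquiv.finrank_map_eq J U).trans hU.rank⟩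
  rintro _ ⟨x, hx, rfl⟩
  exact (hJ x).trans (by rw [hU.zero x hx, mul_zero])

theorem transport_img {κ : Type} [Fintype κ] [DecidableEq κ] {Qs : QuadraticForm F (κ → F)}
    (J : (κ → F) ≃ₗ[F] (ι → F)) {w : Fˣ} (hJ : ∀ u, Q (J u) = (w : F) * Qs u) (S : Semi Qs)
    (U : Submodule F (κ → F)) :
    (transport J w hJ S).img (U.map J.toLinearMap) = (S.img U).map J.toLinearMap := by
  ext x
  constructor
  · rintro ⟨_, ⟨y, hy, rfl⟩, rfl⟩
    refine ⟨S.T y, ⟨y, hy, rfl⟩, ?_⟩
    rw [transport_T]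
    simp
  · rintro ⟨_, ⟨y, hy, rfl⟩, rfl⟩
    refine ⟨J y, ⟨y, hy, rfl⟩, ?_⟩
    rw [transport_T]
    simp

/-- A plus type model preserves the classes. -/
theorem cls_plus_model {n : ℕ} {U : Submodule F (ι → F)} (h : HypSpace Q n U)
    {J : (Fin n ⊕ Fin n → F) ≃ₗ[F] (ι → F)} {w : Fˣ}
    (hJ : ∀ u, Q (J u) = (w : F) * plusQ n u) :
    h.cls (transport J w hJ ((isBase_plusQ f n).coordT σ hf.fix)) = 1 := by
  rw [h.cls_eq_one_iff]
  have hU' : IsHalf (plusQ (F := F) n) n (plusHalf F n) :=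
    ⟨fun x hx => by
      have hx' : ∀ i, x (Sum.inr i) = 0 := fun i => congrFun (LinearMap.mem_ker.mp hx) i
      simp [plusQ_coe, Cfsg.quadFormPlus, hx'], finrank_plusHalf n⟩
  refine (h.even_defect_img_iff _ (isHalf_map_similitude hf hU' J hJ)).mp ?_
  have hsame : ((isBase_plusQ f n).coordT σ hf.fix).img (plusHalf F n) = plusHalf F n := by
    refine Submodule.eq_of_le_of_finrank_eq ?_ (Semi.finrank_img _ _)
    rintro _ ⟨x, hx, rfl⟩
    refine LinearMap.mem_ker.mpr (funext fun i => ?_)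
    change σ (x (Sum.inr i)) = 0
    rw [show x (Sum.inr i) = 0 from congrFun (LinearMap.mem_ker.mp hx) i, map_zero]
  rw [transport_img hf J hJ, hsame, defect, inf_idem, Nat.sub_self]
  exact Even.zero

/-- A minus type model in a hyperbolic space interchanges the classes. -/
theorem cls_minus_model {k : ℕ} {U : Submodule F (ι → F)} (h : HypSpace Q (k + 1) U) {a b : K}
    (hab : ∀ z₁ z₂ : K, z₁ ^ 2 + a * z₁ * z₂ + b * z₂ ^ 2 = 0 → z₁ = 0 ∧ z₂ = 0)
    {J : ((Fin k ⊕ Fin k) ⊕ Fin 2 → F) ≃ₗ[F] (ι → F)} {w : Fˣ}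
    (hJ : ∀ u, Q (J u) = (w : F) * minusQ k (f a) (f b) u) :
    h.cls (transport J w hJ ((isBase_minusQ f k a b).coordT σ hf.fix)) = -1 := by
  obtain ⟨θ, hθ⟩ : ∃ θ : F, θ ^ 2 + f a * θ + f b = 0 := by
    by_contra hc
    push Not at hc
    have haF : ∀ z₁ z₂ : F, z₁ ^ 2 + f a * z₁ * z₂ + f b * z₂ ^ 2 = 0 → z₁ = 0 ∧ z₂ = 0 := by
      intro z₁ z₂ hz
      by_cases hz2 : z₂ = 0
      · subst hz2; simpa using hz
      · exact absurd (by field_simp; linear_combination hz) (hc (z₁ / z₂))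
    have h1 := ts_bound_minusQ haF k (U.map J.symm.toLinearMap) (by
      rintro _ ⟨x, hx, rfl⟩
      change minusQ k (f a) (f b) (J.symm x) = 0
      rw [symm_hJ hJ, h.half.zero x hx, mul_zero])
    rw [LinearEquiv.finrank_map_eq, h.half.rank] at h1
    omega
  have hσθ : σ θ ≠ θ := by
    intro e
    obtain ⟨x, rfl⟩ := hf.surj θ e
    refine one_ne_zero (hab x 1 (f.injective ?_)).2
    simp only [map_add, map_mul, map_pow, map_one, map_zero]
    linear_combination hθ
  let φ : ((Fin k ⊕ Fin k) ⊕ Fin 2 → F) →ₗ[F] (Fin k → F) × F :=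
    (LinearMap.funLeft F F (Sum.inl ∘ Sum.inr)).prod
      (LinearMap.proj (Sum.inr 0) - θ • LinearMap.proj (Sum.inr 1))
  have hker : ∀ x, x ∈ LinearMap.ker φ ↔
      (∀ i, x (.inl (.inr i)) = 0) ∧ x (.inr 0) = θ * x (.inr 1) := by
    intro x
    simp [φ, Prod.ext_iff, funext_iff, LinearMap.funLeft_apply, sub_eq_zero]
  have hU' : IsHalf (minusQ (F := F) k (f a) (f b)) (k + 1) (LinearMap.ker φ) := by
    refine ⟨fun x hx => ?_, ?_⟩
    · obtain ⟨h1, h2⟩ := (hker x).mp hx
      simp only [minusQ_coe, Cfsg.quadFormMinus, h1, mul_zero, Finset.sum_const_zero, zero_add, h2]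
      linear_combination x (.inr 1) ^ 2 * hθ
    · have h1 := φ.finrank_range_add_finrank_ker
      rw [LinearMap.range_eq_top.mpr ?_, finrank_top, Module.finrank_prod, Module.finrank_self,
        Module.finrank_fintype_fun_eq_card, Module.finrank_fintype_fun_eq_card] at h1
      · simp only [Fintype.card_sum, Fintype.card_fin] at h1
        omega
      · rintro ⟨g, y⟩
        refine ⟨Sum.elim (Sum.elim 0 g) ![y, 0], ?_⟩
        simp [φ, Prod.ext_iff, funext_iff, LinearMap.funLeft_apply]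
  set T := transport J w hJ ((isBase_minusQ f k a b).coordT σ hf.fix)
  refine (Int.units_eq_one_or _).resolve_left fun e => ?_
  rw [h.cls_eq_one_iff] at e
  have h2 := (h.even_defect_img_iff T (isHalf_map_similitude hf hU' J hJ)).mpr e
  rw [transport_img hf J hJ, defect, ← Submodule.map_inf _ J.injective, LinearEquiv.finrank_map_eq,
    LinearEquiv.finrank_map_eq, hU'.rank] at h2
  let ψ : ((Fin k ⊕ Fin k) ⊕ Fin 2 → F) →ₗ[F] (Fin k → F) × (F × F) :=
    (LinearMap.funLeft F F (Sum.inl ∘ Sum.inr)).prod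
      ((LinearMap.proj (Sum.inr 0)).prod (LinearMap.proj (Sum.inr 1)))
  have hinf : LinearMap.ker φ ⊓ ((isBase_minusQ f k a b).coordT σ hf.fix).img (LinearMap.ker φ) =
      LinearMap.ker ψ := by
    ext x
    have hψ : x ∈ LinearMap.ker ψ ↔
        (∀ i, x (.inl (.inr i)) = 0) ∧ x (.inr 0) = 0 ∧ x (.inr 1) = 0 := by
      simp [ψ, Prod.ext_iff, funext_iff, LinearMap.funLeft_apply]
    rw [hψ, Submodule.mem_inf, hker]
    constructor
    · rintro ⟨⟨h1, h2⟩, ⟨y, hy, rfl⟩⟩
      obtain ⟨-, hy2⟩ := (hker y).mp hy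
      change σ (y (.inr 0)) = θ * σ (y (.inr 1)) at h2
      rw [hy2, map_mul] at h2
      have h3 : σ (y (.inr 1)) = 0 := by
        by_contra h4
        exact hσθ (mul_right_cancel₀ h4 h2)
      refine ⟨h1, ?_, h3⟩
      change σ (y (.inr 0)) = 0
      rw [hy2, map_mul, h3, mul_zero]
    · rintro ⟨h1, h2, h3⟩
      refine ⟨⟨h1, by rw [h2, h3, mul_zero]⟩, ⟨fun i => σ.symm (x i), (hker _).mpr
        ⟨fun i => by rw [h1, map_zero], by rw [h2, h3, map_zero, mul_zero]⟩,
        funext fun i => σ.apply_symm_apply (x i)⟩⟩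
  rw [hinf] at h2
  have h1 := ψ.finrank_range_add_finrank_ker
  rw [LinearMap.range_eq_top.mpr ?_, finrank_top, Module.finrank_prod, Module.finrank_prod,
    Module.finrank_self, Module.finrank_fintype_fun_eq_card, Module.finrank_fintype_fun_eq_card] at h1
  · simp only [Fintype.card_sum, Fintype.card_fin] at h1
    rw [show Module.finrank F (LinearMap.ker ψ) = k by omega, Nat.add_sub_cancel_left] at h2
    exact Nat.not_even_one h2
  · rintro ⟨g, y, z⟩
    refine ⟨Sum.elim (Sum.elim 0 g) ![y, z], ?_⟩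
    simp [ψ, Prod.ext_iff, funext_iff, LinearMap.funLeft_apply]

/-- The anisotropic binary form stays anisotropic only in odd degree. -/
theorem exists_root_of_even (hr : Even r) {a b : K}
    (hab : ∀ z₁ z₂ : K, z₁ ^ 2 + a * z₁ * z₂ + b * z₂ ^ 2 = 0 → z₁ = 0 ∧ z₂ = 0) :
    ∃ z₁ z₂ : F, z₁ ^ 2 + f a * z₁ * z₂ + f b * z₂ ^ 2 = 0 ∧ z₂ ≠ 0 := by
  set p : Polynomial K := Polynomial.X ^ 2 + Polynomial.C a * Polynomial.X + Polynomial.C b with hp
  have hdeg : p.natDegree = 2 := by rw [hp]; compute_degree!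
  haveI hirr : Fact (Irreducible p) := ⟨(Polynomial.irreducible_iff_roots_eq_zero_of_degree_le_three
    (by omega) (by omega)).mpr (Multiset.eq_zero_of_forall_notMem fun x hx => by
      have h := (Polynomial.mem_roots'.mp hx).2
      simp [hp] at h
      exact one_ne_zero (hab x 1 (by linear_combination h)).2)⟩
  have hp0 : p ≠ 0 := hirr.out.ne_zero
  letI := f.toAlgebra
  haveI : Module.Finite K (AdjoinRoot p) := (AdjoinRoot.powerBasis hp0).finite
  haveI : Finite (AdjoinRoot p) := Module.finite_of_finite K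
  haveI : Module.Finite K F := Module.Finite.of_finite
  have hfr : Module.finrank K (AdjoinRoot p) = 2 := by
    rw [(AdjoinRoot.powerBasis hp0).finrank, AdjoinRoot.powerBasis_dim, hdeg]
  have hFr : Module.finrank K F = r := by
    have h := Module.natCard_eq_pow_finrank (K := K) (V := F)
    have h1 := CfsgLib.AutPSL.card_fixField_pow σ hf.order
    have hK : Nat.card (CfsgLib.AutPSL.fixField σ) = Nat.card K := by
      refine (Nat.card_congr (Equiv.ofBijective (fun x => (⟨f x, (CfsgLib.AutPSL.mem_fixField σ).mpr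
        (hf.fix x)⟩ : CfsgLib.AutPSL.fixField σ)) ⟨fun x y e => f.injective (congrArg Subtype.val e),
          fun y => ?_⟩)).symm
      obtain ⟨x, hx⟩ := hf.surj _ ((CfsgLib.AutPSL.mem_fixField σ).mp y.2)
      exact ⟨x, Subtype.ext hx⟩
    rw [hK] at h1
    exact (Nat.pow_right_injective (Finite.one_lt_card (α := K)) (h1.trans h)).symm
  obtain ⟨φ⟩ := FiniteField.nonempty_algHom_of_finrank_dvd (F := K) (K := AdjoinRoot p) (L := F)
    (by rw [hfr, hFr]; exact even_iff_two_dvd.mp hr)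
  refine ⟨φ (AdjoinRoot.root p), 1, ?_, one_ne_zero⟩
  have h0 : Polynomial.aeval (AdjoinRoot.root p) p = 0 := by rw [AdjoinRoot.aeval_eq, AdjoinRoot.mk_self]
  have h := congrArg φ h0
  rw [← Polynomial.aeval_algHom_apply, map_zero] at h
  simpa [hp, RingHom.algebraMap_toAlgebra] using h

end CfsgLib.AutPOm
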