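import Cfsg.Agent.AutPOm.Bridge

/-!
Extending a quadratic space along a field embedding.
-/

set_option autoImplicit false
set_option linter.style.haveILetI false

namespace CfsgLib.AutPOm

open QuadraticMap CfsgLib.Forms CfsgLib.Quad Matrix

variable {K F : Type*} [Field K] [Field F] (f : K →+* F) {ι : Type} [Fintype ι] [DecidableEq ι]

/-- Entrywise extension of vectors. -/
def extVec (z : ι → K) : ι → F := fun i => f (z i)

omit [Fintype ι] [DecidableEq ι] in
theorem extVec_add (y z : ι → K) : extVec f (y + z) = extVec f y + extVec f z := by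
  funext i; simp [extVec]

omit [Fintype ι] [DecidableEq ι] in
theorem extVec_smul (a : K) (z : ι → K) : extVec f (a • z) = f a • extVec f z := by
  funext i; simp [extVec]

omit [Fintype ι] [DecidableEq ι] in
theorem extVec_zero : extVec f (0 : ι → K) = 0 := by
  funext i; simp [extVec]

omit [Fintype ι] in
theorem extVec_single (i : ι) : extVec f (Pi.single i (1 : K)) = Pi.single i 1 := by
  funext j
  rcases eq_or_ne j i with rfl | h <;> simp [extVec, *]

omit [Fintype ι] [DecidableEq ι] in
theorem extVec_injective : Function.Injective (extVec f (ι := ι)) := fun y z h => by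
  funext i
  exact f.injective (congrFun h i)

omit [DecidableEq ι] in
theorem map_mulVec_ext (M : Matrix ι ι K) (z : ι → K) :
    M.map f *ᵥ extVec f z = extVec f (M *ᵥ z) :=
  funext fun i => (RingHom.map_mulVec f M z i).symm

/-- A function with quadratic behaviour that vanishes on extended vectors vanishes. -/
theorem quad_vanish {A : Type*} [CommRing A] {D : (ι → F) → A} (τ : F → A)
    (hsq : ∀ a u, D (a • u) = τ a * τ a * D u)
    (hadd : ∀ u u' v, polar D (u + u') v = polar D u v + polar D u' v)
    (hsmul : ∀ a u v, polar D (a • u) v = τ a * polar D u v)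
    (h0 : ∀ z : ι → K, D (extVec f z) = 0) : ∀ u, D u = 0 := by
  have hp : ∀ i j, polar D (Pi.single i (1 : F)) (Pi.single j 1) = 0 := fun i j => by
    rw [← extVec_single f, ← extVec_single f, polar, ← extVec_add, h0, h0, h0]
    ring
  have hzero : ∀ v, polar D 0 v = 0 := fun v => by
    have := hadd 0 0 v
    rw [add_zero] at this
    linear_combination -this
  have hsum : ∀ (s : Finset ι) (u : ι → F) v, polar D (∑ i ∈ s, u i • Pi.single i (1 : F)) v =
      ∑ i ∈ s, τ (u i) * polar D (Pi.single i (1 : F)) v := by
    intro s u v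
    induction s using Finset.induction_on with
    | empty => rw [Finset.sum_empty, Finset.sum_empty, hzero]
    | insert k t hk ih => rw [Finset.sum_insert hk, Finset.sum_insert hk, hadd, hsmul, ih]
  have hrec : ∀ u : ι → F, u = ∑ i, u i • Pi.single i (1 : F) := fun u => by
    funext j
    simp [Finset.sum_apply, Pi.single_apply]
  have hpol : ∀ u v, polar D u v = 0 := by
    intro u v
    rw [hrec u, hsum]
    refine Finset.sum_eq_zero fun i _ => ?_
    rw [QuadraticMap.polar_comm, hrec v, hsum]
    simp [hp]
  have hD : ∀ u v, D (u + v) = D u + D v := fun u v => by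
    have h := hpol u v
    simp only [polar] at h
    linear_combination h
  intro u
  have h00 : D 0 = 0 := by rw [← extVec_zero f, h0]
  have : ∀ s : Finset ι, D (∑ i ∈ s, u i • Pi.single i (1 : F)) = 0 := by
    intro s
    induction s using Finset.induction_on with
    | empty => rw [Finset.sum_empty, h00]
    | insert k t hk ih =>
      rw [Finset.sum_insert hk, hD, ih, hsq, ← extVec_single f, h0, mul_zero, add_zero]
  rw [hrec u]
  exact this _

/-- `Qe` restricts to `Q0` along `f`. -/
def IsBase (Q0 : QuadraticForm K (ι → K)) (Qe : QuadraticForm F (ι → F)) : Prop :=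
  ∀ z, Qe (extVec f z) = f (Q0 z)

variable {f} {Q0 : QuadraticForm K (ι → K)} {Qe : QuadraticForm F (ι → F)}

omit [Fintype ι] [DecidableEq ι] in
theorem IsBase.polar (hb : IsBase f Q0 Qe) (y z : ι → K) :
    QuadraticMap.polar Qe (extVec f y) (extVec f z) = f (QuadraticMap.polar Q0 y z) := by
  simp only [QuadraticMap.polar, ← extVec_add, hb _, map_sub]

/-- Two forms with the same restriction are equal. -/
theorem IsBase.ext {Qe' : QuadraticForm F (ι → F)} (hb : IsBase f Q0 Qe) (hb' : IsBase f Q0 Qe') :
    Qe = Qe' := by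
  refine QuadraticMap.ext fun u => sub_eq_zero.mp ?_
  refine quad_vanish f (D := fun u => (Qe - Qe') u) id (fun a u => ?_) (fun u u' v => ?_)
    (fun a u v => ?_) (fun z => ?_) u
  · exact quad_smul _ a u
  · exact polar_add_left _ u u' v
  · exact polar_smul_left _ a u v
  · change Qe _ - Qe' _ = 0
    rw [hb, hb', sub_self]

/-- An equation of forms after a matrix substitution follows from the equation over the small field. -/
theorem IsBase.comp_eq {κ : Type} [Fintype κ] [DecidableEq κ] {P0 : QuadraticForm K (κ → K)}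
    {Pe : QuadraticForm F (κ → F)} (hb : IsBase f Q0 Qe) (hP : IsBase f P0 Pe) (M : Matrix ι κ K)
    (c : K) (h : ∀ z, Q0 (M *ᵥ z) = c * P0 z) (u : κ → F) : Qe (M.map f *ᵥ u) = f c * Pe u := by
  have h1 : IsBase f (c • P0) ((Qe).comp (Matrix.toLin' (M.map f))) := fun z => by
    rw [QuadraticMap.comp_apply, Matrix.toLin'_apply, show M.map f *ᵥ extVec f z = extVec f (M *ᵥ z)
      from funext fun i => (RingHom.map_mulVec f M z i).symm, hb, h]
    rfl
  have h2 : IsBase f (c • P0) (f c • Pe) := fun z => by
    rw [QuadraticMap.smul_apply, QuadraticMap.smul_apply, hP, smul_eq_mul, smul_eq_mul, map_mul]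
  exact DFunLike.congr_fun (h1.ext h2) u

/-- Field automorphisms fixing the small field act on the extended space. -/
theorem IsBase.coord (hb : IsBase f Q0 Qe) {σ : F ≃+* F} (hσ : ∀ x, σ (f x) = f x) (u : ι → F) :
    Qe (fun i => σ (u i)) = σ (Qe u) := by
  refine sub_eq_zero.mp (quad_vanish f (D := fun u => Qe (fun i => σ (u i)) - σ (Qe u)) σ
    (fun a u => ?_) (fun u u' v => ?_) (fun a u v => ?_) (fun z => ?_) u)
  · rw [show (fun i => σ ((a • u) i)) = σ a • fun i => σ (u i) from funext fun i => by simp,
      quad_smul, quad_smul, map_mul, map_mul]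
    ring
  · have e1 : ∀ x y : ι → F, QuadraticMap.polar (fun u => Qe (fun i => σ (u i)) - σ (Qe u)) x y =
        QuadraticMap.polar Qe (fun i => σ (x i)) (fun i => σ (y i)) -
          σ (QuadraticMap.polar Qe x y) := fun x y => by
      simp only [QuadraticMap.polar, map_sub, Pi.add_apply, map_add,
        show ((fun i => σ (x i)) + fun i => σ (y i)) = fun i => σ (x i) + σ (y i) from rfl]
      ring
    rw [e1, e1, e1, show (fun i => σ ((u + u') i)) = (fun i => σ (u i)) + fun i => σ (u' i) from
      funext fun i => by simp, polar_add_left, polar_add_left, map_add]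
    ring
  · have e1 : ∀ x y : ι → F, QuadraticMap.polar (fun u => Qe (fun i => σ (u i)) - σ (Qe u)) x y =
        QuadraticMap.polar Qe (fun i => σ (x i)) (fun i => σ (y i)) -
          σ (QuadraticMap.polar Qe x y) := fun x y => by
      simp only [QuadraticMap.polar, map_sub, Pi.add_apply, map_add,
        show ((fun i => σ (x i)) + fun i => σ (y i)) = fun i => σ (x i) + σ (y i) from rfl]
      ring
    rw [e1, e1, show (fun i => σ ((a • u) i)) = σ a • fun i => σ (u i) from funext fun i => by simp,
      polar_smul_left, polar_smul_left, smul_eq_mul, smul_eq_mul, map_mul]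
    ring
  · rw [show (fun i => σ (extVec f z i)) = extVec f z from funext fun i => hσ (z i), hb, hσ, sub_self]

variable (f) in
/-- The extension of a subspace. -/
def extSub (U : Submodule K (ι → K)) : Submodule F (ι → F) :=
  Submodule.span F (extVec f '' (U : Set (ι → K)))

omit [Fintype ι] [DecidableEq ι] in
theorem extVec_mem {U : Submodule K (ι → K)} {z : ι → K} (hz : z ∈ U) : extVec f z ∈ extSub f U :=
  Submodule.subset_span ⟨z, hz, rfl⟩

theorem linearIndependent_extVec {k : ℕ} {v : Fin k → ι → K} (hv : LinearIndependent K v) :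
    LinearIndependent F fun i => extVec f (v i) := by
  obtain ⟨g, hg⟩ := LinearMap.exists_leftInverse_of_injective
    (Fintype.linearCombination K v) (LinearMap.ker_eq_bot.mpr hv.fintypeLinearCombination_injective)
  rw [Fintype.linearIndependent_iff]
  intro a ha k
  set φ : (ι → K) →ₗ[K] K := (LinearMap.proj k).comp g with hφ
  have hφv : ∀ i, φ (v i) = if i = k then 1 else 0 := fun i => by
    have h := LinearMap.congr_fun hg (Pi.single i 1)
    rw [LinearMap.comp_apply, Fintype.linearCombination_apply_single, one_smul] at h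
    rw [hφ, LinearMap.comp_apply, LinearMap.proj_apply, h, LinearMap.id_apply, Pi.single_apply]
    simp only [eq_comm]
  let Φ : (ι → F) →ₗ[F] F := ∑ j, f (φ (Pi.single j 1)) • LinearMap.proj j
  have hΦ : ∀ z, Φ (extVec f z) = f (φ z) := fun z => by
    conv_rhs => rw [show z = ∑ j, z j • Pi.single j (1 : K) from funext fun i => by
      simp [Finset.sum_apply, Pi.single_apply]]
    simp [Φ, extVec, map_sum, map_mul, mul_comm]
  have := congrArg Φ ha
  rw [map_sum, map_zero] at this
  simpa [map_smul, hΦ, hφv] using this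

theorem finrank_extSub (U : Submodule K (ι → K)) :
    Module.finrank F (extSub f U) = Module.finrank K U := by
  let b := Module.finBasis K U
  have hspan : extSub f U = Submodule.span F (Set.range fun i => extVec f (b i : ι → K)) := by
    refine le_antisymm (Submodule.span_le.mpr ?_) (Submodule.span_mono ?_)
    · rintro _ ⟨z, hz, rfl⟩
      have hrec : z = ∑ i, b.repr ⟨z, hz⟩ i • (b i : ι → K) := by
        conv_lhs => rw [show z = ((⟨z, hz⟩ : U) : ι → K) from rfl, ← b.sum_repr ⟨z, hz⟩]
        rw [AddSubmonoidClass.coe_finsetSum]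
        rfl
      rw [hrec, SetLike.mem_coe, show extVec f (∑ i, b.repr ⟨z, hz⟩ i • (b i : ι → K)) =
        ∑ i, f (b.repr ⟨z, hz⟩ i) • extVec f (b i : ι → K) from funext fun j => by
          simp [extVec, Finset.sum_apply, map_sum]]
      exact Submodule.sum_mem _ fun i _ => Submodule.smul_mem _ _ (Submodule.subset_span ⟨i, rfl⟩)
    · rintro _ ⟨i, rfl⟩
      exact ⟨_, (b i).2, rfl⟩
  rw [hspan, finrank_span_eq_card (linearIndependent_extVec (f := f)
    (v := fun i => (b i : ι → K)) (b.linearIndependent.map' U.subtype U.ker_subtype)), Fintype.card_fin]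

omit [Fintype ι] [DecidableEq ι] in
theorem extSub_mono {U W : Submodule K (ι → K)} (h : U ≤ W) : extSub f U ≤ extSub f W :=
  Submodule.span_mono (Set.image_mono h)

omit [Fintype ι] [DecidableEq ι] in
theorem extSub_sup (U W : Submodule K (ι → K)) :
    extSub f (U ⊔ W) = extSub f U ⊔ extSub f W := by
  refine le_antisymm (Submodule.span_le.mpr ?_) (sup_le (extSub_mono le_sup_left) (extSub_mono le_sup_right))
  rintro _ ⟨z, hz, rfl⟩
  obtain ⟨a, ha, b, hb, rfl⟩ := Submodule.mem_sup.mp hz
  rw [extVec_add]
  exact Submodule.add_mem_sup (extVec_mem ha) (extVec_mem hb)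

theorem defect_extSub (U W : Submodule K (ι → K)) :
    defect (extSub f U) (extSub f W) = defect U W := by
  have h1 := Submodule.finrank_sup_add_finrank_inf_eq U W
  have h2 := Submodule.finrank_sup_add_finrank_inf_eq (extSub f U) (extSub f W)
  rw [← extSub_sup, finrank_extSub, finrank_extSub, finrank_extSub] at h2
  rw [defect, defect, finrank_extSub]
  omega

theorem IsBase.isHalf (hb : IsBase f Q0 Qe) {n : ℕ} {U : Submodule K (ι → K)}
    (hU : IsHalf Q0 n U) : IsHalf Qe n (extSub f U) := by
  refine ⟨fun x hx => ?_, (finrank_extSub U).trans hU.rank⟩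
  have key : ∀ x ∈ extSub f U, Qe x = 0 ∧ ∀ z ∈ U, QuadraticMap.polar Qe x (extVec f z) = 0 := by
    intro x hx
    induction hx using Submodule.span_induction with
    | mem x hx =>
      obtain ⟨z, hz, rfl⟩ := hx
      refine ⟨by rw [hb, hU.zero z hz, map_zero], fun w hw => ?_⟩
      rw [hb.polar, hU.polar hz hw, map_zero]
    | zero => exact ⟨QuadraticMap.map_zero _, fun z _ => polar_zero_left _ _⟩
    | add x y hx' hy ihx ihy =>
      refine ⟨?_, fun z hz => by rw [polar_add_left, ihx.2 z hz, ihy.2 z hz, add_zero]⟩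
      have hxy : QuadraticMap.polar Qe x y = 0 := by
        have hle : extSub f U ≤ LinearMap.ker (polarFun Qe x) := Submodule.span_le.mpr (by
          rintro _ ⟨z, hz, rfl⟩
          change QuadraticMap.polar Qe (extVec f z) x = 0
          rw [QuadraticMap.polar_comm]
          exact ihx.2 z hz)
        have h3 : QuadraticMap.polar Qe y x = 0 := hle hy
        rwa [QuadraticMap.polar_comm]
      rw [quad_add, ihx.1, ihy.1, hxy, add_zero, add_zero]
    | smul a x _ ih =>
      exact ⟨by rw [quad_smul, ih.1, mul_zero],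
        fun z hz => by rw [polar_smul_left, ih.2 z hz, smul_zero]⟩
  exact (key x hx).1

/-- The extension of a similarity. -/
theorem IsBase.exists_ext (hb : IsBase f Q0 Qe) {L : Semi Q0} (hL : L ∈ simGroup Q0) :
    ∃ S : Semi Qe, S ∈ simGroup Qe ∧ (S.mat : Matrix ι ι F) = (L.mat : Matrix ι ι K).map f ∧
      (S.c : F) = f L.c := by
  have hσ := mem_simGroup.mp hL
  have hq : ∀ u, Qe ((Matrix.GeneralLinearGroup.map f L.mat : Matrix ι ι F) *ᵥ u) = f L.c * Qe u :=
    hb.comp_eq hb (L.mat : Matrix ι ι K) (L.c : K) fun z => by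
      rw [← L.T_eq_mulVec_of_refl hσ, L.quad, hσ]; rfl
  obtain ⟨S, hSσ, hSmat⟩ := exists_semi_of_mem (Q := Qe) (g := Matrix.GeneralLinearGroup.map f L.mat)
    ⟨Units.map f.toMonoidHom L.c, hq⟩
  let S' : Semi Qe :=
    { σ := S.σ
      T := S.T
      c := Units.map f.toMonoidHom L.c
      smul := S.smul
      quad := fun v => by
        rw [S.T_eq_mulVec_of_refl hSσ, hSmat, hq, hSσ]
        rfl }
  refine ⟨S', mem_simGroup.mpr hSσ, ?_, rfl⟩
  rw [show S'.mat = Matrix.GeneralLinearGroup.map f L.mat from
    Semi.mat_eq fun v => (S.T_eq_mulVec v).trans (by rw [hSmat])]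
  rfl

end CfsgLib.AutPOm
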