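import Cfsg.Agent.AutPOm.Card

/-!
Determinants of semisimilarities.
-/

set_option autoImplicit false
set_option linter.style.haveILetI false

namespace CfsgLib.AutPOm

open QuadraticMap CfsgLib.Forms CfsgLib.Quad Matrix

variable {F : Type*} [Field F] {ι : Type} [Fintype ι] [DecidableEq ι] {Q : QuadraticForm F (ι → F)}

theorem Semi.mat_mul (S S' : Semi Q) :
    ((S * S').mat : Matrix ι ι F) = (S.mat : Matrix ι ι F) * (S'.mat : Matrix ι ι F).map S.σ := by
  refine Matrix.toLin'.injective (LinearMap.ext fun v => ?_)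
  rw [Matrix.toLin'_apply, Matrix.toLin'_apply, ← Matrix.mulVec_mulVec, Semi.mat_mulVec, map_mulVec',
    Semi.mat_mulVec, Semi.mat_mulVec, Semi.mul_T]
  simp only [RingEquiv.symm_apply_apply]
  rfl

theorem Semi.det_mul (S S' : Semi Q) :
    ((S * S').mat : Matrix ι ι F).det =
      (S.mat : Matrix ι ι F).det * S.σ (S'.mat : Matrix ι ι F).det := by
  rw [Semi.mat_mul, Matrix.det_mul]
  congr 1
  exact ((S.σ : F →+* F).map_det _).symm

theorem Semi.det_ne_zero (S : Semi Q) : (S.mat : Matrix ι ι F).det ≠ 0 :=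
  (Matrix.GeneralLinearGroup.det S.mat).ne_zero

theorem det_mat_isoHom (g : oGroup Q) :
    ((isoHom Q g).mat : Matrix ι ι F).det = (detO Q g : F) := by
  rw [detO_val, ← LinearMap.det_toMatrix']
  congr 1

theorem det_mat_scalarHom (u : Fˣ) :
    ((scalarHom Q u).mat : Matrix ι ι F).det = (u : F) ^ Fintype.card ι := by
  have h : ((scalarHom Q u).mat : Matrix ι ι F) = (u : F) • (1 : Matrix ι ι F) := by
    refine Matrix.toLin'.injective (LinearMap.ext fun v => ?_)
    rw [Matrix.toLin'_apply, Semi.mat_mulVec, Matrix.toLin'_apply, Matrix.smul_mulVec,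
      Matrix.one_mulVec]
    rfl
  rw [h, Matrix.det_smul, Matrix.det_one, mul_one]

/-- The determinant of a similarity squares to a power of its multiplier. -/
theorem Semi.det_sq (hQ : (polarBilin Q).Nondegenerate) (S : Semi Q) (hσ : S.σ = RingEquiv.refl F) :
    (S.mat : Matrix ι ι F).det ^ 2 = (S.c : F) ^ Fintype.card ι := by
  set A := (S.mat : Matrix ι ι F)
  set G := LinearMap.toMatrix₂' F (polarBilin Q)
  have hcomp : (polarBilin Q).compl₁₂ (Matrix.toLin' A) (Matrix.toLin' A) =
      (S.c : F) • polarBilin Q := by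
    refine LinearMap.ext fun u => LinearMap.ext fun v => ?_
    change polar Q (Matrix.toLin' A u) (Matrix.toLin' A v) = (S.c : F) * polar Q u v
    rw [Matrix.toLin'_apply, Matrix.toLin'_apply, S.mat_mulVec, S.mat_mulVec, S.polar_map, hσ]
    rfl
  have hG : A.transpose * G * A = (S.c : F) • G := by
    conv_lhs => rw [← LinearMap.toMatrix'_toLin' A]
    rw [← LinearMap.toMatrix₂'_compl₁₂, hcomp, map_smul]
  have hdet : G.det ≠ 0 := by
    rw [← Matrix.nondegenerate_iff_det_ne_zero]
    exact LinearMap.nondegenerate_toMatrix₂'_iff.mpr hQ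
  have h := congrArg Matrix.det hG
  rw [Matrix.det_mul, Matrix.det_mul, Matrix.det_transpose, Matrix.det_smul, mul_right_comm] at h
  rw [pow_two]
  exact mul_right_cancel₀ hdet h

theorem Semi.oEquiv_refl (S : Semi Q) (v : ι → F) :
    S.oEquiv (refl Q v) = refl Q (S.T v) := by
  refine Subtype.ext (LinearEquiv.ext fun x => ?_)
  obtain ⟨y, rfl⟩ := S.T.surjective x
  rw [S.oEquiv_apply, AddEquiv.symm_apply_apply, refl_apply, refl_apply, map_add, S.smul,
    S.polar_map, S.quad, map_mul, map_neg, map_inv₀]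
  congr 2
  have := S.c.ne_zero
  rw [mul_inv]
  field_simp

/-- A semisimilarity conjugates a reflection to the reflection in the image vector. -/
theorem Semi.mul_refl (S : Semi Q) (v : ι → F) :
    S * isoHom Q (refl Q v) = isoHom Q (refl Q (S.T v)) * S := by
  rw [← mul_inv_eq_iff_eq_mul, S.conj_iso, S.oEquiv_refl]

variable [Finite F]

/-- When `-1` lies outside `Omega`, a similarity with square multiplier and matching determinant
is inner. -/
theorem outHom_eq_one_of_sign (hQ : Big Q) (h2 : (2 : F) ≠ 0) {k : ℕ} (hk : Fintype.card ι = 2 * k)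
    (hz : negIso Q ∉ Om Q) {S : Semi Q} (hσ : S.σ = RingEquiv.refl F) (hc : IsSquare (S.c : F))
    (hdet : (S.mat : Matrix ι ι F).det = (S.c : F) ^ k) : outHom Q S = 1 := by
  obtain ⟨r, hr⟩ := hc
  have hr0 : r ≠ 0 := fun e => S.c.ne_zero (by rw [hr, e, mul_zero])
  set u := Units.mk0 r hr0 with hu
  obtain ⟨g, hg⟩ := Semi.eq_iso (S := (scalarHom Q u)⁻¹ * S)
    (RingEquiv.ext fun x => by
      change (RingEquiv.refl F).symm (S.σ x) = x
      rw [hσ]; rfl)
    (Units.ext (by
      rw [← map_inv, Semi.mul_c]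
      change ((u⁻¹ : Fˣ) : F) * ((u⁻¹ : Fˣ) : F) * (S.c : F) = 1
      rw [hr, Units.val_inv_eq_inv_val, hu, Units.val_mk0]
      field_simp))
  have hS : S = scalarHom Q u * isoHom Q g := by rw [← hg, mul_inv_cancel_left]
  have hsc : outHom Q (scalarHom Q u) = 1 :=
    (outHom_eq_one_iff hQ).mpr ⟨u, 1, by rw [OneMemClass.coe_one, map_one, mul_one]⟩
  have heven : Even (Module.finrank F (ι → F)) :=
    ⟨k, by rw [Module.finrank_fintype_fun_eq_card, hk]; ring⟩
  have hdg : detO Q g = 1 := by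
    refine Units.ext (mul_left_cancel₀ (pow_ne_zero (Fintype.card ι) hr0) ?_)
    have h := congrArg (fun S : Semi Q => (S.mat : Matrix ι ι F).det) hS
    simp only [Semi.det_mul, det_mat_scalarHom, det_mat_isoHom] at h
    rw [hdet, hr] at h
    change (r * r) ^ k = r ^ Fintype.card ι * (detO Q g : F) at h
    rw [← h, Units.val_one, mul_one, hk, pow_mul, pow_two]
  rw [hS, map_mul, hsc, one_mul, outHom_eq_one_of_det hQ h2 heven hz hdg]

/-- The square of a similarity is inner when `-1` lies outside `Omega`. -/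
theorem outHom_sq_eq_one (hQ : Big Q) (h2 : (2 : F) ≠ 0) {k : ℕ} (hk : Fintype.card ι = 2 * k)
    (hz : negIso Q ∉ Om Q) {S : Semi Q} (hσ : S.σ = RingEquiv.refl F) :
    outHom Q S * outHom Q S = 1 := by
  rw [← map_mul]
  refine outHom_eq_one_of_sign hQ h2 hk hz ?_ ⟨(S.c : F), ?_⟩ ?_
  · change (S.σ.trans S.σ) = _
    rw [hσ]; rfl
  · rw [Semi.mul_c, hσ]; rfl
  · rw [Semi.det_mul, hσ, RingEquiv.refl_apply, ← pow_two, S.det_sq hQ.nd hσ, hk, Semi.mul_c, hσ,
      RingEquiv.refl_apply, mul_pow, two_mul, pow_add]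

end CfsgLib.AutPOm
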