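import Cfsg.Agent.AutPOm.SingDefect
import Cfsg.Agent.AutPOm.SimSign
import Cfsg.Prelude.Def_LieTypeDatum

/-!
The action of semisimilarities on the two classes of maximal totally singular subspaces.
-/

set_option autoImplicit false
set_option linter.style.haveILetI false

namespace CfsgLib.AutPOm

open QuadraticMap CfsgLib.Forms CfsgLib.Quad

variable {F V : Type*} [Field F] [AddCommGroup V] [Module F V] {Q : QuadraticForm F V}

/-- The image of a subspace under a semisimilarity. -/
def Semi.img (S : Semi Q) (U : Submodule F V) : Submodule F V where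
  carrier := S.T '' U
  add_mem' := by
    rintro _ _ ⟨x, hx, rfl⟩ ⟨y, hy, rfl⟩
    exact ⟨x + y, U.add_mem hx hy, map_add _ _ _⟩
  zero_mem' := ⟨0, U.zero_mem, map_zero _⟩
  smul_mem' := by
    rintro a _ ⟨x, hx, rfl⟩
    exact ⟨S.σ.symm a • x, U.smul_mem _ hx, by rw [S.smul, RingEquiv.apply_symm_apply]⟩

theorem Semi.img_one (U : Submodule F V) : (1 : Semi Q).img U = U :=
  SetLike.coe_injective (Set.image_id (U : Set V))

theorem Semi.img_mul (S S' : Semi Q) (U : Submodule F V) : (S * S').img U = S.img (S'.img U) :=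
  SetLike.coe_injective (Set.image_comp S.T S'.T (U : Set V))

theorem Semi.img_inf (S : Semi Q) (U W : Submodule F V) : S.img (U ⊓ W) = S.img U ⊓ S.img W :=
  SetLike.coe_injective (Set.image_inter S.T.injective)

theorem Semi.img_isoHom (g : oGroup Q) (U : Submodule F V) :
    (isoHom Q g).img U = U.map g.1.toLinearMap := rfl

theorem Semi.img_scalar (u : Fˣ) (U : Submodule F V) : (scalarHom Q u).img U = U := by
  ext x
  constructor
  · rintro ⟨y, hy, rfl⟩
    exact U.smul_mem _ hy
  · intro hx
    exact ⟨((u⁻¹ : Fˣ) : F) • x, U.smul_mem _ hx, by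
      change (u : F) • ((u⁻¹ : Fˣ) : F) • x = x
      rw [smul_smul, Units.mul_inv, one_smul]⟩

variable [FiniteDimensional F V]

theorem Semi.finrank_img_le (S : Semi Q) (U : Submodule F V) :
    Module.finrank F (S.img U) ≤ Module.finrank F U := by
  let b := Module.finBasis F U
  have hle : S.img U ≤ Submodule.span F (Set.range fun i => S.T (b i : V)) := by
    rintro _ ⟨x, hx, rfl⟩
    have hrec : x = ∑ i, b.repr ⟨x, hx⟩ i • (b i : V) := by
      conv_lhs => rw [show x = ((⟨x, hx⟩ : U) : V) from rfl, ← b.sum_repr ⟨x, hx⟩]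
      rw [AddSubmonoidClass.coe_finsetSum]
      rfl
    rw [hrec, map_sum]
    exact Submodule.sum_mem _ fun i _ => by
      rw [S.smul]
      exact Submodule.smul_mem _ _ (Submodule.subset_span ⟨i, rfl⟩)
  exact (Submodule.finrank_mono hle).trans ((finrank_range_le_card _).trans (by simp))

theorem Semi.finrank_img (S : Semi Q) (U : Submodule F V) :
    Module.finrank F (S.img U) = Module.finrank F U :=
  le_antisymm (S.finrank_img_le U) (by
    have := S⁻¹.finrank_img_le (S.img U)
    rwa [← Semi.img_mul, inv_mul_cancel, Semi.img_one] at this)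

theorem Semi.isHalf_img (S : Semi Q) {n : ℕ} {U : Submodule F V} (h : IsHalf Q n U) :
    IsHalf Q n (S.img U) := by
  refine ⟨?_, (S.finrank_img U).trans h.rank⟩
  rintro _ ⟨x, hx, rfl⟩
  rw [S.quad, h.zero x hx, map_zero, mul_zero]

theorem Semi.defect_img (S : Semi Q) (U W : Submodule F V) :
    defect (S.img U) (S.img W) = defect U W := by
  rw [defect, defect, ← Semi.img_inf, S.finrank_img, S.finrank_img]

/-- A hyperbolic space with a chosen half. -/
structure HypSpace (Q : QuadraticForm F V) (n : ℕ) (U : Submodule F V) : Prop where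
  nd : (polarBilin Q).Nondegenerate
  dim : Module.finrank F V = 2 * n
  ne_two : n ≠ 2
  half : IsHalf Q n U

variable {n : ℕ} {U : Submodule F V} (h : HypSpace Q n U)
include h

theorem HypSpace.even_defect_img_iff (S : Semi Q) {W : Submodule F V} (hW : IsHalf Q n W) :
    Even (defect W (S.img W)) ↔ Even (defect U (S.img U)) := by
  have h1 := even_defect_triangle h.nd h.dim h.ne_two h.half hW (S.isHalf_img hW)
  have h2 := even_defect_triangle h.nd h.dim h.ne_two h.half (S.isHalf_img h.half) (S.isHalf_img hW)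
  rw [S.defect_img] at h2
  simp only [Nat.even_add] at h1 h2
  tauto

/-- Whether a semisimilarity fixes or interchanges the two classes. -/
noncomputable def HypSpace.cls : Semi Q →* ℤˣ where
  toFun S := (-1) ^ defect U (S.img U)
  map_one' := by rw [Semi.img_one, defect, inf_idem, Nat.sub_self, pow_zero]
  map_mul' S S' := by
    have h1 := even_defect_triangle h.nd h.dim h.ne_two h.half (S.isHalf_img h.half)
      ((S * S').isHalf_img h.half)
    conv at h1 => enter [1, 1, 2]; rw [Semi.img_mul, S.defect_img]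
    rw [← pow_add, Int.units_pow_eq_pow_mod_two, Int.units_pow_eq_pow_mod_two _ (defect U (S.img U) + _)]
    congr 1
    rw [Nat.even_iff] at h1
    omega

theorem HypSpace.cls_apply (S : Semi Q) : h.cls S = (-1) ^ defect U (S.img U) := rfl

theorem HypSpace.cls_eq_one_iff (S : Semi Q) : h.cls S = 1 ↔ Even (defect U (S.img U)) := by
  rw [cls_apply, Units.ext_iff, Units.val_pow_eq_pow_val]
  exact neg_one_pow_eq_one_iff_even (R := ℤ) (by decide)

theorem HypSpace.cls_scalar (u : Fˣ) : h.cls (scalarHom Q u) = 1 := by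
  rw [cls_apply, Semi.img_scalar, defect, inf_idem, Nat.sub_self, pow_zero]

theorem HypSpace.cls_iso {ε : oGroup Q →* ℤˣ} (hε : ∀ v, Q v ≠ 0 → ε (refl Q v) = -1)
    (g : oGroup Q) : h.cls (isoHom Q g) = ε g :=
  (parity_eq_defect h.nd h.dim h.ne_two hε h.half g).symm

theorem HypSpace.cls_refl {v : V} (hv : Q v ≠ 0) : h.cls (isoHom Q (refl Q v)) = -1 := by
  obtain ⟨ε, hε⟩ := exists_parity h.nd (Or.inr (by rw [h.dim]; have := h.ne_two; omega))
  rw [h.cls_iso hε, hε v hv]

theorem HypSpace.cls_iso_det (g : oGroup Q) :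
    (detO Q g : F) = ((h.cls (isoHom Q g) : ℤ) : F) := by
  obtain ⟨ε, hε⟩ := exists_parity h.nd (Or.inr (by rw [h.dim]; have := h.ne_two; omega))
  rw [h.cls_iso hε]
  have hgen : reflGroup Q = ⊤ :=
    reflGroup_eq_top h.nd (Or.inr (by rw [h.dim]; have := h.ne_two; omega))
  have hg : g ∈ reflGroup Q := by rw [hgen]; trivial
  have key : ∀ d (y : oGroup Q), (detO Q y : F) = ((ε y : ℤ) : F) →
      (detO Q (refl Q d * y) : F) = ((ε (refl Q d * y) : ℤ) : F) := by
    intro d y hy
    by_cases hd : Q d = 0
    · rwa [refl_eq_one hd, one_mul]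
    · rw [map_mul, map_mul, Units.val_mul, detO_refl hd, hε d hd, hy]
      simp
  induction hg using Subgroup.closure_induction_left with
  | one => simp
  | mul_left x hx y _ hy => obtain ⟨d, rfl⟩ := hx; exact key d y hy
  | inv_mul_cancel x hx y _ hy => obtain ⟨d, rfl⟩ := hx; rw [refl_inv]; exact key d y hy

section matrices

omit h

variable {ι : Type} [Fintype ι] [DecidableEq ι] {Q : QuadraticForm F (ι → F)} {n : ℕ}
  {U : Submodule F (ι → F)}

omit [Fintype ι] [DecidableEq ι] in
theorem isTS_iff (W : Submodule F (ι → F)) :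
    Cfsg.Geo.IsTotallySingularQuad ⇑Q W ↔ ∀ x ∈ W, Q x = 0 := Iff.rfl

theorem imageSubmodule_eq {A : Matrix ι ι F} {S : Semi Q} (hA : ∀ v, S.T v = A.mulVec v)
    (W : Submodule F (ι → F)) : Cfsg.imageSubmodule A W = S.img W := by
  ext x
  constructor
  · rintro ⟨y, hy, rfl⟩
    exact ⟨y, hy, (hA y).trans (Matrix.toLin'_apply A y).symm⟩
  · rintro ⟨y, hy, rfl⟩
    exact ⟨y, hy, (Matrix.toLin'_apply A y).trans (hA y).symm⟩

/-- The class-preserving similarities are the kernel of `cls`. -/
theorem HypSpace.preserves_iff (h : HypSpace Q n U) {A : Matrix ι ι F} {S : Semi Q}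
    (hA : ∀ v, S.T v = A.mulVec v) :
    Cfsg.PreservesSingularClasses ⇑Q A ↔ h.cls S = 1 := by
  rw [h.cls_eq_one_iff]
  constructor
  · intro hp
    have hmax : Cfsg.IsMaxTotallySingular ⇑Q U := by
      refine ⟨h.half.zero, fun W hW hUW => (Submodule.eq_of_le_of_finrank_le hUW ?_).symm⟩
      have hWp : W ≤ perpS Q W := fun x hx y hy => by
        simp only [QuadraticMap.polar, hW x hx, hW y hy, hW _ (W.add_mem hy hx), sub_zero]
      have h1 := finrank_perpS h.nd W
      have h2 := Submodule.finrank_mono hWp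
      have h3 := h.dim
      rw [h.half.rank]
      omega
    have h1 := hp U hmax
    rw [Cfsg.SameParityClass, imageSubmodule_eq hA] at h1
    exact h1
  · intro hp W hW
    have hWh := isHalf_of_maximal h.nd h.dim h.half hW.1 hW.2
    rw [Cfsg.SameParityClass, imageSubmodule_eq hA]
    exact (h.even_defect_img_iff S hWh).mpr hp

end matrices

end CfsgLib.AutPOm
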