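import Cfsg.Agent.AutPOm.Witness
import Cfsg.Agent.AutPOm.SingClass

/-!
The named subgroups of the automorphism group as images of semisimilarities.
-/

set_option autoImplicit false
set_option linter.style.haveILetI false

namespace CfsgLib.AutPOm

open QuadraticMap CfsgLib.Forms CfsgLib.Quad Matrix

variable {F : Type*} [Field F] {ι : Type} [Fintype ι] [DecidableEq ι] {Q : QuadraticForm F (ι → F)}

theorem Semi.mat_eq {S : Semi Q} {g : GL ι F}
    (h : ∀ v, S.T v = (g : Matrix ι ι F) *ᵥ fun i => S.σ (v i)) : S.mat = g := by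
  refine Units.ext (Matrix.toLin'.injective (LinearMap.ext fun v => ?_))
  rw [Matrix.toLin'_apply, S.mat_mulVec, Matrix.toLin'_apply, h]
  simp

/-- A semisimilarity pair of matrices is a semisimilarity. -/
theorem exists_semi_of_pair {g : GL ι F} {σ : F ≃+* F} (h : Cfsg.IsSemisimilarityPair ⇑Q g σ) :
    ∃ S : Semi Q, S.σ = σ ∧ S.mat = g := by
  obtain ⟨c, hc⟩ := h
  let S : Semi Q :=
    { σ := σ
      T :=
        { toFun := fun v => (g : Matrix ι ι F) *ᵥ fun i => σ (v i)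
          invFun := fun v i => σ.symm ((((g⁻¹ : GL ι F) : Matrix ι ι F) *ᵥ v) i)
          left_inv := fun v => by
            funext i
            simp only
            rw [Matrix.mulVec_mulVec, ← Units.val_mul, inv_mul_cancel, Units.val_one, Matrix.one_mulVec,
              RingEquiv.symm_apply_apply]
          right_inv := fun v => by
            simp only [RingEquiv.apply_symm_apply]
            rw [Matrix.mulVec_mulVec, ← Units.val_mul, mul_inv_cancel, Units.val_one, Matrix.one_mulVec]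
          map_add' := fun u v => by
            rw [← Matrix.mulVec_add]
            congr 1
            funext i
            simp }
      c := c
      smul := fun a v => by
        change (g : Matrix ι ι F) *ᵥ (fun i => σ ((a • v) i)) = σ a • ((g : Matrix ι ι F) *ᵥ fun i => σ (v i))
        rw [← Matrix.mulVec_smul]
        congr 1
        funext i
        simp
      quad := hc }
  exact ⟨S, rfl, Semi.mat_eq fun v => rfl⟩

theorem Semi.T_eq_mulVec (S : Semi Q) (v : ι → F) :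
    S.T v = (S.mat : Matrix ι ι F) *ᵥ fun i => S.σ (v i) := by
  rw [S.mat_mulVec]
  simp

theorem Semi.T_eq_mulVec_of_refl {S : Semi Q} (hσ : S.σ = RingEquiv.refl F) (v : ι → F) :
    S.T v = (S.mat : Matrix ι ι F) *ᵥ v := by
  rw [S.T_eq_mulVec, hσ]
  rfl

theorem exists_semi_of_mem {g : GL ι F} (h : g ∈ Cfsg.Geo.quadSimilarityGroup (F := F) ⇑Q) :
    ∃ S : Semi Q, S.σ = RingEquiv.refl F ∧ S.mat = g := by
  obtain ⟨c, hc⟩ := h
  exact exists_semi_of_pair ⟨c, fun v => hc v⟩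

theorem Semi.mat_mem {S : Semi Q} (hσ : S.σ = RingEquiv.refl F) :
    S.mat ∈ Cfsg.Geo.quadSimilarityGroup (F := F) ⇑Q :=
  ⟨S.c, fun v => by rw [← S.T_eq_mulVec_of_refl hσ, S.quad, hσ]; rfl⟩

/-- The automorphism induced by a semisimilarity pair is the image of the semisimilarity. -/
theorem induced_iff (S : Semi Q) {β : MulAut (Cfsg.POmega F ⇑Q)} :
    Cfsg.IsInducedBySemilinearPOmega ⇑Q S.mat S.σ β ↔ β = pomHom Q S := by
  refine ⟨fun hβ => ?_, fun h => h ▸ S.pomAut_induced⟩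
  refine MulEquiv.ext fun x => ?_
  obtain ⟨s, rfl⟩ := QuotientGroup.mk_surjective x
  set s' := (omegaEquiv Q).symm (S.omEquiv (omegaEquiv Q s)) with hs'
  have hmat : (((s' : ↥(Cfsg.isometryGroup F ⇑Q)) : GL ι F) : Matrix ι ι F) =
      (S.mat : Matrix ι ι F) * ((((s : ↥(Cfsg.isometryGroup F ⇑Q)) : GL ι F) : Matrix ι ι F)).map S.σ *
        ((S.mat⁻¹ : GL ι F) : Matrix ι ι F) := by
    refine Matrix.toLin'.injective (LinearMap.ext fun x => ?_)
    rw [Matrix.toLin'_apply, Matrix.toLin'_apply, ← isoGroupEquiv_apply, ← Matrix.mulVec_mulVec,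
      ← Matrix.mulVec_mulVec, map_mulVec', S.mat_mulVec, ← omegaEquiv_coe, hs',
      MulEquiv.apply_symm_apply, S.omEquiv_coe, S.oEquiv_apply, omegaEquiv_coe, isoGroupEquiv_apply]
    simp only [RingEquiv.symm_apply_apply]
    congr 2
    have h3 : ((S.mat⁻¹ : GL ι F) : Matrix ι ι F) *ᵥ x = fun i => S.σ (S.T.symm x i) := by
      have h4 : (S.mat : Matrix ι ι F) *ᵥ (fun i => S.σ (S.T.symm x i)) = x := by
        rw [S.mat_mulVec]
        simp
      conv_lhs => rw [← h4, Matrix.mulVec_mulVec, ← Units.val_mul, inv_mul_cancel, Units.val_one,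
        Matrix.one_mulVec]
    rw [h3]
    simp
  rw [hβ s s' hmat, pomHom_apply]
  exact (S.pomAut_induced s s' hmat).symm

theorem autSubgroupOf_eq {X : Type*} [Group X] {P : (X ≃* X) → Prop} {H : Subgroup (MulAut X)}
    (h : ∀ β : MulAut X, P β ↔ β ∈ H) : Cfsg.autSubgroupOf P = H := by
  rw [Cfsg.autSubgroupOf, show {β : MulAut X | P β} = (H : Set (MulAut X)) from Set.ext h,
    Subgroup.closure_eq]

/-- The similarities. -/
def simGroup (Q : QuadraticForm F (ι → F)) : Subgroup (Semi Q) := (sigmaHom Q).ker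

omit [Fintype ι] [DecidableEq ι] in
theorem mem_simGroup {S : Semi Q} : S ∈ simGroup Q ↔ S.σ = RingEquiv.refl F := MonoidHom.mem_ker

theorem pgoAut_eq : Cfsg.pgoAut F ⇑Q = (simGroup Q).map (pomHom Q) := by
  refine autSubgroupOf_eq fun β => ⟨?_, ?_⟩
  · rintro ⟨g, hg, hβ⟩
    obtain ⟨S, hσ, rfl⟩ := exists_semi_of_mem hg
    exact ⟨S, mem_simGroup.mpr hσ, ((induced_iff S).mp (by rw [hσ]; exact hβ)).symm⟩
  · rintro ⟨S, hσ, rfl⟩
    refine ⟨S.mat, S.mat_mem (mem_simGroup.mp hσ), ?_⟩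
    have h := (induced_iff S).mpr rfl
    rwa [mem_simGroup.mp hσ] at h

/-- The automorphisms induced by the similarities whose matrix satisfies `P`. -/
def classAut (F : Type*) [Field F] (q : (ι → F) → F) (P : Matrix ι ι F → Prop) :
    Subgroup (MulAut (Cfsg.POmega F q)) :=
  Cfsg.autSubgroupOf fun β => ∃ g : GL ι F, g ∈ Cfsg.Geo.quadSimilarityGroup (F := F) q ∧
    P (g : Matrix ι ι F) ∧ Cfsg.IsInducedBySemilinearPOmega q g (RingEquiv.refl F) β

theorem inndiagOdd_eq (m : ℕ) :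
    Cfsg.inndiagPOmegaOdd m F = Cfsg.pgoAut F (Cfsg.quadFormOdd m F) := rfl

theorem inndiagPlus_eq (m : ℕ) : Cfsg.inndiagPOmegaPlus m F =
    classAut F (Cfsg.quadFormPlus m F) (Cfsg.PreservesSingularClasses (Cfsg.quadFormPlus m F)) := rfl

theorem inndiagMinus_eq (m : ℕ) (a b : F) : Cfsg.inndiagPOmegaMinus m F a b =
    classAut F (Cfsg.quadFormMinus m F a b) (Cfsg.PreservesSingularClassesMinus m a b) := rfl

theorem classAut_eq {P : Matrix ι ι F → Prop} {K : Subgroup (Semi Q)}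
    (hP : ∀ S : Semi Q, S ∈ simGroup Q → (P (S.mat : Matrix ι ι F) ↔ S ∈ K)) :
    classAut F ⇑Q P = (simGroup Q ⊓ K).map (pomHom Q) := by
  refine autSubgroupOf_eq fun β => ⟨?_, ?_⟩
  · rintro ⟨g, hg, hPg, hβ⟩
    obtain ⟨S, hσ, rfl⟩ := exists_semi_of_mem hg
    exact ⟨S, ⟨mem_simGroup.mpr hσ, (hP S (mem_simGroup.mpr hσ)).mp hPg⟩,
      ((induced_iff S).mp (by rw [hσ]; exact hβ)).symm⟩
  · rintro ⟨S, ⟨hσ, hK⟩, rfl⟩
    refine ⟨S.mat, S.mat_mem (mem_simGroup.mp hσ), (hP S hσ).mpr hK, ?_⟩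
    have h := (induced_iff S).mpr rfl
    rwa [mem_simGroup.mp hσ] at h

theorem classAut_of_hypSpace {n : ℕ} {U : Submodule F (ι → F)} (h : HypSpace Q n U) :
    classAut F ⇑Q (Cfsg.PreservesSingularClasses ⇑Q) =
      (simGroup Q ⊓ h.cls.ker).map (pomHom Q) :=
  classAut_eq fun S hS => (h.preserves_iff fun v => S.T_eq_mulVec_of_refl (mem_simGroup.mp hS) v).trans
    MonoidHom.mem_ker.symm

theorem psoAut_eq :
    Cfsg.psoAut F ⇑Q = ((detO Q).ker.map (isoHom Q)).map (pomHom Q) := by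
  refine autSubgroupOf_eq fun β => ⟨?_, ?_⟩
  · rintro ⟨g, ⟨hg, hdet⟩, hβ⟩
    set e := isoGroupEquiv Q ⟨g, hg⟩
    have hmat : (isoHom Q e).mat = g := by
      refine Semi.mat_eq fun v => ?_
      exact (isoGroupEquiv_apply Q ⟨g, hg⟩ v)
    refine ⟨isoHom Q e, ⟨e, MonoidHom.mem_ker.mpr (Units.ext ?_), rfl⟩, ?_⟩
    · rw [det_isoGroupEquiv]
      exact congrArg Units.val (MonoidHom.mem_ker.mp hdet)
    · exact ((induced_iff (isoHom Q e)).mp (by rw [hmat]; exact hβ)).symm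
  · rintro ⟨_, ⟨e, he, rfl⟩, rfl⟩
    obtain ⟨⟨g, hg⟩, rfl⟩ := (isoGroupEquiv Q).surjective e
    have hmat : (isoHom Q (isoGroupEquiv Q ⟨g, hg⟩)).mat = g :=
      Semi.mat_eq fun v => isoGroupEquiv_apply Q ⟨g, hg⟩ v
    refine ⟨g, ⟨hg, MonoidHom.mem_ker.mpr (Units.ext ?_)⟩, ?_⟩
    · have := congrArg Units.val (MonoidHom.mem_ker.mp he)
      rwa [det_isoGroupEquiv] at this
    · have h := (induced_iff (isoHom Q (isoGroupEquiv Q ⟨g, hg⟩))).mpr rfl
      rwa [hmat] at h

end CfsgLib.AutPOm
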