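import Cfsg.Agent.AutPOm.Group
import Cfsg.Agent.AutPSL.Out
import Cfsg.Agent.Quad.NegOneMinus

/-!
Orders: semisimilarity groups, automorphism groups and outer automorphism groups.
-/

set_option autoImplicit false
set_option linter.style.haveILetI false

namespace CfsgLib.AutPOm

open QuadraticMap CfsgLib.Forms CfsgLib.Quad

variable {F V : Type*} [Field F] [AddCommGroup V] [Module F V] {Q : QuadraticForm F V}

/-- The multiplier on linear similarities. -/
def multHom (Q : QuadraticForm F V) : ↥(sigmaHom Q).ker →* Fˣ where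
  toFun S := S.1.c
  map_one' := rfl
  map_mul' S S' := Units.ext (by
    rw [Subgroup.coe_mul, Semi.mul_c, Units.val_mul,
      show S.1.σ = RingEquiv.refl F from MonoidHom.mem_ker.mp S.2]
    rfl)

theorem card_ker_multHom : Nat.card (multHom Q).ker = Nat.card (oGroup Q) := by
  refine (Nat.card_congr (Equiv.ofBijective
    (fun g : oGroup Q => (⟨⟨isoHom Q g, MonoidHom.mem_ker.mpr rfl⟩, MonoidHom.mem_ker.mpr rfl⟩ :
      (multHom Q).ker)) ⟨fun g h e => ?_, fun S => ?_⟩)).symm
  · exact isoHom_injective (congrArg (fun S : (multHom Q).ker => S.1.1) e)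
  · obtain ⟨⟨S, hS⟩, hc⟩ := S
    obtain ⟨g, rfl⟩ := Semi.eq_iso (S := S) (MonoidHom.mem_ker.mp hS) (MonoidHom.mem_ker.mp hc)
    exact ⟨g, rfl⟩

variable [FiniteDimensional F V] [Finite F]

theorem card_semi (hσ : Function.Surjective (sigmaHom Q)) (M : Subgroup Fˣ)
    (hM : ∀ c : Fˣ, c ∈ M ↔ ∃ S : Semi Q, S.σ = RingEquiv.refl F ∧ S.c = c) :
    Nat.card (Semi Q) = Nat.card (RingAut F) * (Nat.card M * Nat.card (oGroup Q)) := by
  haveI : Finite (Semi Q) := finite_semi
  rw [Subgroup.card_eq_card_quotient_mul_card_subgroup (sigmaHom Q).ker,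
    Nat.card_congr (QuotientGroup.quotientKerEquivOfSurjective _ hσ).toEquiv]
  congr 1
  rw [Subgroup.card_eq_card_quotient_mul_card_subgroup (multHom Q).ker, card_ker_multHom,
    Nat.card_congr (QuotientGroup.quotientKerEquivRange _).toEquiv]
  congr 1
  refine Nat.card_congr (Equiv.subtypeEquivRight fun c => ?_)
  rw [hM c, MonoidHom.mem_range]
  exact ⟨fun ⟨S, hS⟩ => ⟨S.1, MonoidHom.mem_ker.mp S.2, hS⟩,
    fun ⟨S, h1, h2⟩ => ⟨⟨S, MonoidHom.mem_ker.mpr h1⟩, h2⟩⟩

omit [FiniteDimensional F V] in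
theorem card_squares (h2 : (2 : F) ≠ 0) :
    2 * Nat.card (powMonoidHom 2 : Fˣ →* Fˣ).range = Nat.card F - 1 := by
  rw [← Nat.card_units, Subgroup.card_eq_card_quotient_mul_card_subgroup
    (powMonoidHom 2 : Fˣ →* Fˣ).ker, Nat.card_congr (QuotientGroup.quotientKerEquivRange _).toEquiv,
    mul_comm 2]
  congr 1
  rw [eq_comm, Nat.card_eq_two_iff]
  have hne : (-1 : Fˣ) ≠ 1 := fun e => h2 (by
    have := congrArg Units.val e
    rw [Units.val_neg, Units.val_one] at this
    linear_combination -this)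
  refine ⟨1, ⟨-1, by simp [MonoidHom.mem_ker]⟩, fun e => hne (congrArg Subtype.val e).symm, ?_⟩
  refine Set.eq_univ_iff_forall.mpr fun x => ?_
  have hx : ((x.1 : F)) * x.1 = 1 := by
    have := congrArg Units.val (MonoidHom.mem_ker.mp x.2)
    simpa [pow_two] using this
  rcases mul_self_eq_one_iff.mp hx with h | h
  · exact Or.inl (Subtype.ext (Units.ext h))
  · exact Or.inr (Subtype.ext (Units.ext (by simpa using h)))

omit [FiniteDimensional F V] in
theorem card_ringAut {p f : ℕ} [Fact p.Prime] (hf : 1 ≤ f) (hF : Nat.card F = p ^ f) :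
    Nat.card (RingAut F) = f := by
  haveI := Fintype.ofFinite F
  rw [Nat.card_eq_fintype_card] at hF
  obtain ⟨e⟩ := CfsgLib.AutPSL.nonempty_ringAut_equiv (F := F) hf hF
  rw [Nat.card_congr e.toEquiv, Nat.card_congr Multiplicative.toAdd, Nat.card_zmod]

variable (hQ : Big Q) (hs : Shape Q)
include hQ hs

/-- The order of `Aut(POmega)`, with `k` the index of `Omega` and `z` the order of its centre. -/
theorem card_aut_general {p f : ℕ} [Fact p.Prime] (hf : 1 ≤ f) (hF : Nat.card F = p ^ f)
    (hσ : Function.Surjective (sigmaHom Q)) (M : Subgroup Fˣ)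
    (hM : ∀ c : Fˣ, c ∈ M ↔ ∃ S : Semi Q, S.σ = RingEquiv.refl F ∧ S.c = c) :
    Nat.card (MulAut (PG Q)) * (Nat.card F - 1) =
      f * Nat.card M * ((Om Q).index * Nat.card (Subgroup.center ↥(Om Q)) * Nat.card (PG Q)) := by
  rw [card_aut_mul hQ hs, card_semi hσ M hM, card_ringAut hf hF,
    card_oGroup_eq hQ.nd (Om Q).index rfl, mul_assoc f, mul_assoc (Om Q).index]

section matrices

omit hQ hs

variable {ι : Type} [Fintype ι] [DecidableEq ι] {Q : QuadraticForm F (ι → F)}

theorem card_pOmega_eq : Nat.card (Cfsg.POmega F ⇑Q) = Nat.card (PG Q) :=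
  Nat.card_congr (pOmegaEquiv Q).toEquiv

theorem finite_POmega : Finite (Cfsg.POmega F ⇑Q) := by
  haveI : Finite (oGroup Q) := finite_oGroup
  exact Finite.of_equiv _ (pOmegaEquiv Q).symm.toEquiv

/-- The outer field projection. -/
noncomputable def outSigma (hQ : Big Q) (hs : Shape Q) :
    Cfsg.Out (Cfsg.POmega F ⇑Q) →* RingAut F :=
  (QuotientGroup.lift (outHom Q).ker (sigmaHom Q) (by
    intro S hS
    obtain ⟨u, g, rfl⟩ := (outHom_eq_one_iff hQ).mp hS
    exact MonoidHom.mem_ker.mpr (RingEquiv.ext fun _ => rfl))).comp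
    (QuotientGroup.quotientKerEquivOfSurjective (outHom Q) (outHom_surjective hQ hs)).symm.toMonoidHom

theorem outSigma_outHom (hQ : Big Q) (hs : Shape Q) (S : Semi Q) :
    outSigma hQ hs (outHom Q S) = S.σ := by
  have h : (QuotientGroup.quotientKerEquivOfSurjective (outHom Q) (outHom_surjective hQ hs)).symm
      (outHom Q S) = QuotientGroup.mk S := (MulEquiv.symm_apply_eq _).mpr rfl
  rw [outSigma, MonoidHom.comp_apply, MulEquiv.coe_toMonoidHom, h]
  rfl

theorem card_ker_outSigma (hQ : Big Q) (hs : Shape Q) (hσ : Function.Surjective (sigmaHom Q))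
    {p f : ℕ} [Fact p.Prime] (hf : 1 ≤ f) (hF : Nat.card F = p ^ f) :
    Nat.card (outSigma hQ hs).ker * f = Nat.card (Cfsg.Out (Cfsg.POmega F ⇑Q)) := by
  have hsurj : Function.Surjective (outSigma hQ hs) := fun σ => by
    obtain ⟨S, hS⟩ := hσ σ
    exact ⟨outHom Q S, (outSigma_outHom hQ hs S).trans hS⟩
  rw [Subgroup.card_eq_card_quotient_mul_card_subgroup (outSigma hQ hs).ker,
    Nat.card_congr (QuotientGroup.quotientKerEquivOfSurjective _ hsurj).toEquiv,
    card_ringAut hf hF, mul_comm]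

/-- An isometry gives an inner automorphism exactly when it is `±` an element of `Omega`. -/
theorem outHom_iso_eq_one_iff (hQ : Big Q) {g : oGroup Q} :
    outHom Q (isoHom Q g) = 1 ↔ g ∈ Om Q ∨ negIso Q * g ∈ Om Q := by
  rw [outHom_eq_one_iff hQ]
  constructor
  · rintro ⟨u, ω, h⟩
    have hu : (u : F) * u = 1 := by
      have h1 : ((1 : Fˣ) : F) = ((u : F) * u) * ((1 : Fˣ) : F) :=
        congrArg (fun S : Semi Q => (S.c : F)) h
      rw [Units.val_one, mul_one] at h1
      exact h1.symm
    rcases mul_self_eq_one_iff.mp hu with h1 | h1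
    · left
      have hg : g = ω.1 := Subtype.ext (LinearEquiv.ext fun v => by
        have := congrArg (fun S : Semi Q => S.T v) h
        change g.1 v = (u : F) • ω.1.1 v at this
        rwa [h1, one_smul] at this)
      exact hg ▸ ω.2
    · right
      have hg : negIso Q * g = ω.1 := Subtype.ext (LinearEquiv.ext fun v => by
        have := congrArg (fun S : Semi Q => S.T v) h
        change g.1 v = (u : F) • ω.1.1 v at this
        rw [h1, neg_one_smul] at this
        change -(g.1 v) = ω.1.1 v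
        rw [this, neg_neg])
      exact hg ▸ ω.2
  · rintro (h | h)
    · exact ⟨1, ⟨g, h⟩, by rw [map_one, one_mul]⟩
    · refine ⟨-1, ⟨_, h⟩, Semi.ext' rfl (fun v => ?_) (Units.ext ?_)⟩
      · change g.1 v = ((-1 : Fˣ) : F) • -(g.1 v)
        simp
      · change (1 : F) = ((-1 : Fˣ) * (-1) : Fˣ) * 1
        simp

theorem outHom_refl_ne_one_of_even (hQ : Big Q) {v : ι → F} (hv : Q v ≠ 0)
    (heven : Even (Module.finrank F (ι → F))) : outHom Q (isoHom Q (refl Q v)) ≠ 1 := by
  intro h
  by_cases h2 : (2 : F) = 0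
  · haveI : CharP F 2 := CharTwo.of_one_ne_zero_of_two_eq_zero one_ne_zero h2
    obtain ⟨ε, hε⟩ := exists_parity hQ.nd (Or.inr (by have := hQ.dim; omega))
    have hneg : negIso Q = 1 := Subtype.ext (LinearEquiv.ext fun x => by
      change -x = x
      rw [← neg_one_smul F x, CharTwo.neg_eq, one_smul])
    have hmem : refl Q v ∈ Om Q := by
      rcases (outHom_iso_eq_one_iff hQ).mp h with h1 | h1
      · exact h1
      · rwa [hneg, one_mul] at h1
    have h1 : ε (refl Q v) = 1 := Abelianization.commutator_subset_ker ε hmem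
    rw [hε v hv] at h1
    exact absurd h1 (by decide)
  · have hdet : ∀ g ∈ Om Q, (detO Q g : F) = 1 := fun g hg =>
      congrArg Units.val (MonoidHom.mem_ker.mp (Abelianization.commutator_subset_ker (detO Q) hg))
    have hdneg : (detO Q (negIso Q) : F) = 1 := by
      rw [detO_val, show (negIso Q).1.toLinearMap = (-1 : F) • LinearMap.id from
        LinearMap.ext fun x => (neg_one_smul F x).symm, LinearMap.det_smul, heven.neg_one_pow,
        LinearMap.det_id, mul_one]
    rcases (outHom_iso_eq_one_iff hQ).mp h with h1 | h1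
    · have h3 := hdet _ h1
      rw [detO_refl hv] at h3
      exact h2 (by linear_combination -h3)
    · have h3 := hdet _ h1
      rw [map_mul, Units.val_mul, hdneg, detO_refl hv, one_mul] at h3
      exact h2 (by linear_combination -h3)

/-- When `-1` lies outside `Omega`, every isometry of determinant one is inner. -/
theorem outHom_eq_one_of_det (hQ : Big Q) (h2 : (2 : F) ≠ 0)
    (heven : Even (Module.finrank F (ι → F))) (hz : negIso Q ∉ Om Q) {g : oGroup Q}
    (hg : detO Q g = 1) : outHom Q (isoHom Q g) = 1 := by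
  rw [outHom_iso_eq_one_iff hQ]
  have hn : 2 ≤ Module.finrank F (ι → F) := by have := hQ.dim; omega
  obtain ⟨θ, hθ⟩ := exists_spinor hQ.nd h2 hn
  have hdneg : detO Q (negIso Q) = 1 := Units.ext (by
    rw [detO_val, show (negIso Q).1.toLinearMap = (-1 : F) • LinearMap.id from
      LinearMap.ext fun x => (neg_one_smul F x).symm, LinearMap.det_smul, heven.neg_one_pow,
      LinearMap.det_id, mul_one, Units.val_one])
  have hθneg : θ (negIso Q) = -1 := (Int.units_eq_one_or _).resolve_left fun e =>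
    hz ((mem_commutator_iff hQ.nd h2 hn hθ _).mpr ⟨hdneg, e⟩)
  rcases Int.units_eq_one_or (θ g) with h | h
  · exact Or.inl ((mem_commutator_iff hQ.nd h2 hn hθ g).mpr ⟨hg, h⟩)
  · refine Or.inr ((mem_commutator_iff hQ.nd h2 hn hθ _).mpr ⟨?_, ?_⟩)
    · rw [map_mul, hdneg, hg, one_mul]
    · rw [map_mul, hθneg, h]; decide

/-- A semisimilarity with non-square multiplier is not inner. -/
theorem outHom_ne_one_of_nonsquare (hQ : Big Q) {S : Semi Q} (hc : ¬ IsSquare (S.c : F)) :
    outHom Q S ≠ 1 := by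
  intro h
  obtain ⟨u, g, rfl⟩ := (outHom_eq_one_iff hQ).mp h
  refine hc ⟨(u : F), ?_⟩
  change (u : F) * (u : F) * ((1 : Fˣ) : F) = _
  rw [Units.val_one, mul_one]

end matrices

end CfsgLib.AutPOm
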