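import Cfsg.Agent.AutPOm.Witness

/-!
The orders of the automorphism and outer automorphism groups for the three standard forms.
-/

set_option autoImplicit false
set_option linter.style.haveILetI false

namespace CfsgLib.AutPOm

open QuadraticMap CfsgLib.Forms CfsgLib.Quad

variable {F : Type*} [Field F] [Finite F]

theorem pow_mod_four {q : ℕ} (hodd : Odd q) (m : ℕ) :
    q ^ m % 4 = if Odd m then q % 4 else 1 := by
  have h1 : q % 4 = 1 ∨ q % 4 = 3 := by obtain ⟨r, rfl⟩ := hodd; omega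
  rcases Nat.even_or_odd m with ⟨k, rfl⟩ | ⟨k, rfl⟩
  · rw [if_neg (Nat.not_odd_iff_even.mpr ⟨k, rfl⟩), ← two_mul, pow_mul, Nat.pow_mod, Nat.pow_mod q 2]
    rcases h1 with h | h <;> rw [h] <;> norm_num
  · rw [if_pos ⟨k, rfl⟩, pow_succ, Nat.mul_mod, pow_mul, Nat.pow_mod, Nat.pow_mod q 2]
    rcases h1 with h | h <;> rw [h] <;> norm_num

theorem even_mul_half_iff {q : ℕ} (hodd : Odd q) (m : ℕ) :
    Even (m * (q - 1) / 2) ↔ ¬ (Odd m ∧ q % 4 = 3) := by
  have h1 : q % 4 = 1 ∨ q % 4 = 3 := by obtain ⟨r, rfl⟩ := hodd; omega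
  obtain ⟨r, rfl⟩ := hodd
  rw [show m * (2 * r + 1 - 1) / 2 = m * r by
    rw [Nat.add_sub_cancel, ← mul_assoc, mul_comm m 2, mul_assoc]; omega,
    Nat.even_mul]
  constructor
  · rintro (h | h) ⟨hm, hr⟩
    · exact Nat.not_odd_iff_even.mpr h hm
    · obtain ⟨j, rfl⟩ := h; omega
  · intro h
    rcases Nat.even_or_odd m with hm | hm
    · exact Or.inl hm
    · right
      rcases Nat.even_or_odd r with hr | hr
      · exact hr
      · exfalso
        obtain ⟨j, rfl⟩ := hr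
        exact h ⟨hm, by omega⟩

theorem two_ne_zero_of {p f : ℕ} [Fact p.Prime] (hf : 1 ≤ f) (hF : Nat.card F = p ^ f)
    (hp : p ≠ 2) : (2 : F) ≠ 0 := by
  haveI := Fintype.ofFinite F
  refine Ring.two_ne_zero fun h => ?_
  have h1 := FiniteField.even_card_of_char_two h
  rw [← Nat.card_eq_fintype_card, hF] at h1
  have : Odd (p ^ f) := ((Fact.out : p.Prime).odd_of_ne_two hp).pow
  rw [Nat.odd_iff] at this
  omega

theorem two_eq_zero_of {f : ℕ} (hf : 1 ≤ f) (hF : Nat.card F = 2 ^ f) : (2 : F) = 0 := by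
  haveI := Fintype.ofFinite F
  by_contra h
  have h1 := CfsgLib.Forms.odd_card_of_two_ne (F := F) h
  rw [hF] at h1
  have : Even (2 ^ f) := Nat.even_pow.mpr ⟨even_two, by omega⟩
  rw [Nat.even_iff] at this
  omega

section generic

variable {ι : Type} [Fintype ι] [DecidableEq ι] {Q : QuadraticForm F (ι → F)} (hQ : Big Q)
  (hs : Shape Q)
include hQ hs

/-- All multipliers occur. -/
theorem card_aut_full {p f : ℕ} [Fact p.Prime] (hf : 1 ≤ f) (hF : Nat.card F = p ^ f)
    (hσ : Function.Surjective (sigmaHom Q))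
    (hM : ∀ c : Fˣ, ∃ S : Semi Q, S.σ = RingEquiv.refl F ∧ S.c = c) :
    Nat.card (MulAut (Cfsg.POmega F ⇑Q)) =
      f * ((Om Q).index * Nat.card (Subgroup.center ↥(Om Q))) * Nat.card (Cfsg.POmega F ⇑Q) := by
  have h := card_aut_general hQ hs hf hF hσ ⊤ fun c => iff_of_true trivial (hM c)
  rw [Subgroup.card_top, Nat.card_units] at h
  rw [card_mulAut_eq hQ, card_pOmega_eq]
  have hq : 0 < Nat.card F - 1 := Nat.sub_pos_of_lt Finite.one_lt_card
  exact Nat.eq_of_mul_eq_mul_right hq (h.trans (by ring))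

theorem card_out_of_aut {k : ℕ}
    (h : Nat.card (MulAut (Cfsg.POmega F ⇑Q)) = k * Nat.card (Cfsg.POmega F ⇑Q)) :
    Nat.card (Cfsg.Out (Cfsg.POmega F ⇑Q)) = k := by
  haveI : Finite (Cfsg.POmega F ⇑Q) := finite_POmega
  rw [card_aut_eq_out hQ] at h
  exact Nat.eq_of_mul_eq_mul_right Nat.card_pos h

end generic

theorem card_aut_odd {p f : ℕ} [Fact p.Prime] (hf : 1 ≤ f) (hF : Nat.card F = p ^ f) (hp : p ≠ 2)
    {m : ℕ} (hm : 3 ≤ m) :
    Nat.card (MulAut (Cfsg.POmega F ⇑(oddQ (F := F) m))) =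
      2 * f * Nat.card (Cfsg.POmega F ⇑(oddQ (F := F) m)) := by
  have h2 := two_ne_zero_of hf hF hp
  obtain ⟨hQ, hs⟩ := big_oddQ (F := F) h2 hm
  have hσ : Function.Surjective (sigmaHom (oddQ (F := F) m)) :=
    fun σ => ⟨coordSemi σ (oddQ_coord m σ), rfl⟩
  have h := card_aut_general hQ hs hf hF hσ (powMonoidHom 2 : Fˣ →* Fˣ).range (fun c => by
    constructor
    · rintro ⟨u, rfl⟩
      exact ⟨scalarHom _ u, rfl, (pow_two u).symm⟩
    · rintro ⟨S, h1, rfl⟩
      obtain ⟨r, hr⟩ := isSquare_mult_of_odd hQ.nd (by simp) S h1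
      have hr0 : r ≠ 0 := fun e => S.c.ne_zero (by rw [hr, e, mul_zero])
      exact ⟨Units.mk0 r hr0, Units.ext (by simp [hr, pow_two])⟩)
  rw [index_commutator_odd hQ.nd h2 (by have := hQ.dim; omega),
    card_center_omega_one hQ.nd hQ.five (Or.inr (negIso_notMem_of_odd h2 (by
      simp [Module.finrank_fintype_fun_eq_card]))), ← card_squares (F := F) h2] at h
  rw [card_mulAut_eq hQ, card_pOmega_eq]
  refine Nat.eq_of_mul_eq_mul_right (m := 2 * Nat.card (powMonoidHom 2 : Fˣ →* Fˣ).range)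
    (Nat.mul_pos two_pos Nat.card_pos) (h.trans (by ring))

theorem card_aut_plus {p f : ℕ} [Fact p.Prime] (hf : 1 ≤ f) (hF : Nat.card F = p ^ f)
    {m : ℕ} (hm : 5 ≤ m) :
    Nat.card (MulAut (Cfsg.POmega F ⇑(plusQ (F := F) m))) =
      (if p = 2 then 2 else (if Odd m ∧ p ^ f % 4 = 3 then 4 else 8)) * f *
        Nat.card (Cfsg.POmega F ⇑(plusQ (F := F) m)) := by
  obtain ⟨hQ, hs⟩ := big_plusQ (F := F) hm
  have hσ : Function.Surjective (sigmaHom (plusQ (F := F) m)) :=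
    fun σ => ⟨coordSemi σ (plusQ_coord m σ), rfl⟩
  rw [card_aut_full hQ hs hf hF hσ fun c => ⟨plusScale m c, rfl, rfl⟩]
  congr 1
  rw [mul_comm f]
  congr 1
  by_cases hp : p = 2
  · subst hp
    have h2 := two_eq_zero_of hf hF
    haveI : CharP F 2 := CharTwo.of_one_ne_zero_of_two_eq_zero one_ne_zero h2
    rw [if_pos rfl, index_commutator_char_two hQ.nd (by have := hQ.dim; omega)
      (Or.inr (by have := hQ.dim; omega)), card_center_omega_one hQ.nd hQ.five (Or.inl h2)]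
  · rw [if_neg hp]
    have h2 := two_ne_zero_of hf hF hp
    have hodd : Odd (p ^ f) := ((Fact.out : p.Prime).odd_of_ne_two hp).pow
    obtain ⟨h1, h3, horth, hprod⟩ := plusFam_spec (F := F) m
    have hiff : negIso (plusQ (F := F) m) ∈ Om (plusQ (F := F) m) ↔ (p ^ f) ^ m % 4 = 1 := by
      rw [negIso_mem_commutator_iff hQ.nd h2 (plusFam F m) (by simp) (by simp; omega) (by simp)
        (fun i => by rcases i with i | i <;> simp [h1, h3]) horth, hprod,
        isSquare_neg_one_pow_iff hF hodd]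
    have hmod : (p ^ f) % 4 = 1 ∨ (p ^ f) % 4 = 3 := by obtain ⟨r, hr⟩ := hodd; omega
    rw [index_commutator_odd hQ.nd h2 (by have := hQ.dim; omega)]
    rw [pow_mod_four hodd] at hiff
    by_cases hc : Odd m ∧ p ^ f % 4 = 3
    · rw [if_pos hc, card_center_omega_one hQ.nd hQ.five (Or.inr fun h => by
        have := hiff.mp h; rw [if_pos hc.1] at this; omega)]
    · rw [if_neg hc, card_center_omega_two hQ.nd hQ.five h2 (hiff.mpr ?_)]
      by_cases hm' : Odd m
      · rw [if_pos hm']; exact hmod.resolve_right fun h => hc ⟨hm', h⟩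
      · rw [if_neg hm']

theorem card_aut_minus {p f : ℕ} [Fact p.Prime] (hf : 1 ≤ f) (hF : Nat.card F = p ^ f)
    {a b : F} (hab : ∀ z₁ z₂ : F, z₁ ^ 2 + a * z₁ * z₂ + b * z₂ ^ 2 = 0 → z₁ = 0 ∧ z₂ = 0)
    {m : ℕ} (hm : 3 ≤ m) :
    Nat.card (MulAut (Cfsg.POmega F ⇑(minusQ (F := F) m a b))) =
      (if p = 2 then 2 else (if Odd (m + 1) ∧ p ^ f % 4 = 3 then 8 else 4)) * f *
        Nat.card (Cfsg.POmega F ⇑(minusQ (F := F) m a b)) := by
  obtain ⟨hQ, hs⟩ := big_minusQ hab hm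
  rw [card_aut_full hQ hs hf hF (minus_sigma_surjective hab m) (minus_exists_mult hab m)]
  congr 1
  rw [mul_comm f]
  congr 1
  by_cases hp : p = 2
  · subst hp
    have h2 := two_eq_zero_of hf hF
    haveI : CharP F 2 := CharTwo.of_one_ne_zero_of_two_eq_zero one_ne_zero h2
    rw [if_pos rfl, index_commutator_char_two hQ.nd (by have := hQ.dim; omega)
      (Or.inr (by have := hQ.dim; omega)), card_center_omega_one hQ.nd hQ.five (Or.inl h2)]
  · rw [if_neg hp]
    have h2 := two_ne_zero_of hf hF hp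
    have hodd : Odd (p ^ f) := ((Fact.out : p.Prime).odd_of_ne_two hp).pow
    have hiff := negIso_minus_iff hF hodd h2 hab m
    rw [pow_mod_four hodd] at hiff
    rw [index_commutator_odd hQ.nd h2 (by have := hQ.dim; omega)]
    by_cases hc : Odd (m + 1) ∧ p ^ f % 4 = 3
    · rw [if_pos hc, card_center_omega_two hQ.nd hQ.five h2 (hiff.mpr (by rw [if_pos hc.1]; exact hc.2))]
    · rw [if_neg hc, card_center_omega_one hQ.nd hQ.five (Or.inr fun h => hc ?_)]
      have h4 := hiff.mp h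
      by_cases hm' : Odd (m + 1)
      · rw [if_pos hm'] at h4; exact ⟨hm', h4⟩
      · rw [if_neg hm'] at h4; omega

end CfsgLib.AutPOm
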