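import Cfsg.Agent.AutPOm.Model

/-!
Descent along a field automorphism for semisimilarities of finite order.
-/

set_option autoImplicit false
set_option linter.style.haveILetI false

namespace CfsgLib.AutPOm

open QuadraticMap CfsgLib.Forms CfsgLib.Quad Matrix

variable {K F : Type*} [Field K] [Field F] [Finite F] {f : K →+* F}

/-- The small field is the fixed field of an automorphism of order `r`. -/
structure IsFixed (f : K →+* F) (σ : RingAut F) (r : ℕ) : Prop where
  order : orderOf σ = r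
  pos : 0 < r
  fix : ∀ x, σ (f x) = f x
  surj : ∀ y, σ y = y → ∃ x, f x = y

omit [Finite F] in
theorem IsFixed.pow_eq {σ : RingAut F} {r : ℕ} (h : IsFixed f σ r) : σ ^ r = 1 :=
  h.order ▸ pow_orderOf_eq_one σ

omit [Finite F] in
theorem exists_unit_preimage {σ : RingAut F} {r : ℕ} (h : IsFixed f σ r) {u : Fˣ}
    (hu : σ (u : F) = u) : ∃ k : Kˣ, f k = u := by
  obtain ⟨x, hx⟩ := h.surj _ hu
  exact ⟨Units.mk0 x fun e => u.ne_zero (by rw [← hx, e, map_zero]), hx⟩

/-- An embedding of a field of the right order onto a fixed field. -/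
theorem exists_isFixed {p a r : ℕ} [Fact p.Prime] (hF : Nat.card F = p ^ a) (σ : RingAut F)
    (hσ : orderOf σ = r) (hr : r ≠ 0) (F₀ : Type*) [Field F₀] [Finite F₀]
    (hF₀ : Nat.card F₀ = p ^ (a / r)) : r ∣ a ∧ ∃ f : F₀ →+* F, IsFixed f σ r := by
  haveI := Fintype.ofFinite F
  haveI := Fintype.ofFinite F₀
  have ha : 1 ≤ a := by
    rcases Nat.eq_zero_or_pos a with rfl | h
    · rw [pow_zero] at hF
      exact absurd hF (Finite.one_lt_card (α := F)).ne'
    · exact h
  obtain ⟨eA⟩ := CfsgLib.AutPSL.nonempty_ringAut_equiv (F := F) ha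
    (Nat.card_eq_fintype_card.symm.trans hF)
  have hra : r ∣ a := by
    have h1 := orderOf_dvd_natCard σ
    rwa [hσ, Nat.card_congr eA.toEquiv, Nat.card_congr Multiplicative.toAdd, Nat.card_zmod] at h1
  haveI : Finite (CfsgLib.AutPSL.fixField σ) := Subtype.finite
  letI := Fintype.ofFinite (CfsgLib.AutPSL.fixField σ)
  have hK : Nat.card (CfsgLib.AutPSL.fixField σ) = p ^ (a / r) := by
    have h1 := CfsgLib.AutPSL.card_fixField_pow σ hσ
    rw [hF] at h1
    refine Nat.pow_left_injective hr (?_ : Nat.card _ ^ r = (p ^ (a / r)) ^ r)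
    rw [h1, ← pow_mul, Nat.div_mul_cancel hra]
  let e : F₀ ≃+* CfsgLib.AutPSL.fixField σ := FiniteField.ringEquivOfCardEq (K := F₀)
    (K' := CfsgLib.AutPSL.fixField σ)
    (by rw [← Nat.card_eq_fintype_card, ← Nat.card_eq_fintype_card, hK, hF₀])
  refine ⟨hra, (CfsgLib.AutPSL.fixField σ).subtype.comp e.toRingHom, hσ, Nat.pos_of_ne_zero hr,
    fun x => (CfsgLib.AutPSL.mem_fixField σ).mp (e x).2,
    fun y hy => ⟨e.symm ⟨y, (CfsgLib.AutPSL.mem_fixField σ).mpr hy⟩, ?_⟩⟩
  change ((e (e.symm _)) : F) = y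
  rw [e.apply_symm_apply]

variable {ι : Type} [Fintype ι] [DecidableEq ι] {Q : QuadraticForm F (ι → F)}

omit [Finite F] in
theorem Semi.pow_σ (Y : Semi Q) (k : ℕ) : (Y ^ k).σ = (Y.σ : RingAut F) ^ k :=
  map_pow (sigmaHom Q) Y k

omit [Finite F] in
theorem Semi.pow_c (Y : Semi Q) (k : ℕ) :
    (Y ^ k).c = CfsgLib.AutPSL.autNorm (Y.σ : RingAut F) k Y.c := by
  induction k with
  | zero => rw [pow_zero]; rfl
  | succ k ih =>
    refine Units.ext ?_
    rw [pow_succ', Semi.mul_c, ih]
    rfl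

omit [Finite F] in
/-- The fixed vectors of a semisimilarity of order dividing that of its field map span. -/
theorem exists_fixed_basis {σ : RingAut F} {r : ℕ} (hσ : orderOf σ = r) (hr : 0 < r) (Y : Semi Q)
    (hYσ : Y.σ = σ) (hY : Y ^ r = 1) :
    ∃ b : Module.Basis ι F (ι → F), ∀ i, Y.T (b i) = b i := by
  classical
  let avg : F → (ι → F) → (ι → F) := fun c v =>
    ∑ i ∈ Finset.range r, (σ ^ i) c • (Y ^ i).T v
  have hfix : ∀ c v, Y.T (avg c v) = avg c v := by
    intro c v
    change Y.T.toAddMonoidHom (avg c v) = avg c v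
    rw [map_sum]
    have h1 : ∀ i, Y.T.toAddMonoidHom ((σ ^ i) c • (Y ^ i).T v) =
        (σ ^ (i + 1)) c • (Y ^ (i + 1)).T v := fun i => by
      change Y.T ((σ ^ i) c • (Y ^ i).T v) = _
      rw [Y.smul, Semi.pow_succ_T, hYσ, pow_succ']
      rfl
    rw [Finset.sum_congr rfl fun i _ => h1 i]
    have h2 := Finset.sum_range_succ' (fun i => (σ ^ i) c • (Y ^ i).T v) r
    have h3 := Finset.sum_range_succ (fun i => (σ ^ i) c • (Y ^ i).T v) r
    have h4 : (σ ^ r) c • (Y ^ r).T v = (σ ^ 0) c • (Y ^ 0).T v := by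
      rw [hY, pow_zero, pow_zero, ← hσ, pow_orderOf_eq_one]
    rw [h4] at h3
    exact add_right_cancel (h2.symm.trans h3)
  let S : Set (ι → F) := {v | Y.T v = v}
  have hspan : Submodule.span F S = ⊤ := by
    by_contra hne
    obtain ⟨φ, hφ, hle⟩ := Submodule.exists_le_ker_of_lt_top _ (lt_top_iff_ne_top.mpr hne)
    apply hφ
    refine LinearMap.ext fun v => ?_
    have hz : ∀ c : F, ∑ i : Fin r, φ ((Y ^ (i : ℕ)).T v) * (σ ^ (i : ℕ)) c = 0 := by
      intro c
      have := hle (Submodule.subset_span (hfix c v))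
      rw [LinearMap.mem_ker, map_sum] at this
      rw [← this, Fin.sum_univ_eq_sum_range (fun i => φ ((Y ^ i).T v) * (σ ^ i) c)]
      exact Finset.sum_congr rfl fun i _ => by rw [map_smul, smul_eq_mul, mul_comm]
    let χ : Fin r → (F →* F) := fun i => ((σ ^ (i : ℕ) : RingAut F) : F →* F)
    have hχ : Function.Injective χ := fun i j hij =>
      CfsgLib.AutPSL.injective_pow_of_orderOf hσ (RingEquiv.ext fun x => DFunLike.congr_fun hij x)
    have hli := (linearIndependent_monoidHom F F).comp χ hχ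
    have := Fintype.linearIndependent_iff.mp hli (fun i => φ ((Y ^ (i : ℕ)).T v))
      (funext fun c => by simpa [χ] using hz c) ⟨0, hr⟩
    simpa [Semi.one_T] using this
  obtain ⟨b, hbS, hbspan, hbli⟩ := exists_linearIndependent F S
  let B : Module.Basis b F (ι → F) := Module.Basis.mk hbli (by rw [Subtype.range_coe, hbspan, hspan])
  have : Fintype b := FiniteDimensional.fintypeBasisIndex B
  have hcard : Fintype.card b = Fintype.card ι := by
    rw [← Module.finrank_eq_card_basis B, Module.finrank_fintype_fun_eq_card]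
  let e : ι ≃ b := (Fintype.equivOfCardEq hcard).symm
  refine ⟨B.reindex e.symm, fun i => ?_⟩
  have : B.reindex e.symm i = (e i : ι → F) := by simp [B]
  rw [this]
  exact hbS (e i).2

/-- Descent: a semisimilarity of order `r` is a transported coordinatewise map. -/
theorem exists_descent {σ : RingAut F} {r : ℕ} (hf : IsFixed f σ r)
    (hQ : (polarBilin Q).Nondegenerate) (Y : Semi Q) (hYσ : Y.σ = σ) (hY : Y ^ r = 1) :
    ∃ (Q1 : QuadraticForm K (ι → K)) (Qe : QuadraticForm F (ι → F)) (hb : IsBase f Q1 Qe)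
      (J : (ι → F) ≃ₗ[F] (ι → F)) (w : Fˣ) (hJ : ∀ u, Q (J u) = (w : F) * Qe u),
      (polarBilin Q1).Nondegenerate ∧ transport J w hJ (hb.coordT σ hf.fix) = Y := by
  obtain ⟨b, hb⟩ := exists_fixed_basis hf.order hf.pos Y hYσ hY
  have hN : CfsgLib.AutPSL.autNorm σ r Y.c = 1 := by
    rw [← hYσ, ← Semi.pow_c, hY]
    rfl
  obtain ⟨w, hw⟩ := CfsgLib.AutPSL.exists_div_eq_of_autNorm σ hf.pow_eq
    (CfsgLib.AutPSL.injective_pow_of_orderOf hf.order) hf.pos Y.c hN
  have hw' : (Y.c : F) * σ (w : F) = w := congrArg Units.val hw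
  set J := b.equivFun.symm with hJdef
  have hJv : ∀ u, J u = ∑ i, u i • b i := fun u => b.equivFun_symm_apply u
  have hYJ : ∀ u, Y.T (J u) = J fun i => σ (u i) := fun u => by
    rw [hJv, hJv, map_sum]
    exact Finset.sum_congr rfl fun i _ => by rw [Y.smul, hb, hYσ]
  let Qe : QuadraticForm F (ι → F) := ((w⁻¹ : Fˣ) : F) • Q.comp J.toLinearMap
  have hJ : ∀ u, Q (J u) = (w : F) * Qe u := fun u => by
    change Q (J u) = (w : F) * (((w⁻¹ : Fˣ) : F) * Q (J u))
    rw [← mul_assoc, Units.mul_inv, one_mul]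
  have hval : ∀ z : ι → K, σ (Qe (extVec f z)) = Qe (extVec f z) := fun z => by
    have h := Y.quad (J (extVec f z))
    rw [hYJ, show (fun i => σ (extVec f z i)) = extVec f z from funext fun i => hf.fix _, hYσ,
      hJ, map_mul, ← mul_assoc, hw'] at h
    exact (mul_left_cancel₀ w.ne_zero h).symm
  choose q hq using fun z => hf.surj _ (hval z)
  let Q1 : QuadraticForm K (ι → K) := QuadraticMap.ofPolar q
    (fun a z => f.injective (by
      rw [hq, extVec_smul, quad_smul, ← hq, smul_eq_mul, map_mul, map_mul]))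
    (fun x x' y => f.injective (by
      simp only [QuadraticMap.polar, map_sub, map_add, hq, extVec_add]
      exact polar_add_left Qe _ _ _))
    (fun a x y => f.injective (by
      simp only [QuadraticMap.polar, map_sub, smul_eq_mul, map_mul, hq, extVec_add, extVec_smul]
      exact polar_smul_left Qe _ _ _))
  have hbase : IsBase f Q1 Qe := fun z => (hq z).symm
  refine ⟨Q1, Qe, hbase, J, w, hJ, ?_, Semi.ext' hYσ.symm (fun v => ?_) (Units.ext ?_)⟩
  · have h1 : ∀ z, (∀ z', QuadraticMap.polar Q1 z z' = 0) → z = 0 := by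
      intro z hz
      refine extVec_injective f ?_
      rw [extVec_zero]
      refine J.injective ((hQ.1 (J (extVec f z)) fun y => ?_).trans (map_zero J).symm)
      have hfun : polarBilin Q (J (extVec f z)) = 0 := b.ext fun j => by
        have hbj : b j = J (extVec f (Pi.single j 1)) := by rw [extVec_single, hJv]; simp [Pi.single_apply]
        rw [hbj, polarBilin_apply_apply, LinearMap.zero_apply]
        have : QuadraticMap.polar Q (J (extVec f z)) (J (extVec f (Pi.single j 1))) =
            (w : F) * QuadraticMap.polar Qe (extVec f z) (extVec f (Pi.single j 1)) := by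
          simp only [QuadraticMap.polar, ← map_add, hJ]
          ring
        rw [this, hbase.polar, hz, map_zero, mul_zero]
      rw [hfun, LinearMap.zero_apply]
    exact ⟨fun z hz => h1 z hz, fun z hz => h1 z fun z' => by
      rw [QuadraticMap.polar_comm]; exact hz z'⟩
  · rw [transport_T]
    conv_rhs => rw [← J.apply_symm_apply v, hYJ]
    rfl
  · rw [transport_c]
    change ((1 * w * (Units.map σ.toMonoidHom w)⁻¹ : Fˣ) : F) = Y.c
    rw [one_mul, Units.val_mul, Units.val_inv_eq_inv_val]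
    change (w : F) * (σ (w : F))⁻¹ = Y.c
    conv_lhs => enter [1]; rw [← hw']
    rw [mul_assoc, mul_inv_cancel₀ fun e => w.ne_zero (σ.injective (e.trans (map_zero _).symm)),
      mul_one]

/-- The descended form can be replaced by any similar one. -/
theorem exists_transport_of_similar {σ : RingAut F} {r : ℕ} (hf : IsFixed f σ r) {κ : Type}
    [Fintype κ] [DecidableEq κ] {Q1 : QuadraticForm K (ι → K)} {Qe : QuadraticForm F (ι → F)}
    (hb : IsBase f Q1 Qe) {Q0 : QuadraticForm K (κ → K)} {Qs : QuadraticForm F (κ → F)}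
    (hs : IsBase f Q0 Qs) {J : (ι → F) ≃ₗ[F] (ι → F)} {w : Fˣ}
    (hJ : ∀ u, Q (J u) = (w : F) * Qe u) (φ : (κ → K) ≃ₗ[K] (ι → K)) {c : K} (hc : c ≠ 0)
    (hφ : ∀ z, Q1 (φ z) = c * Q0 z) :
    ∃ (J' : (κ → F) ≃ₗ[F] (ι → F)) (w' : Fˣ) (hJ' : ∀ u, Q (J' u) = (w' : F) * Qs u),
      transport J' w' hJ' (hs.coordT σ hf.fix) = transport J w hJ (hb.coordT σ hf.fix) := by
  set M : Matrix ι κ K := LinearMap.toMatrix' φ.toLinearMap
  have hM : ∀ z, M *ᵥ z = φ z := fun z => LinearMap.toMatrix'_mulVec _ z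
  set N : Matrix κ ι K := LinearMap.toMatrix' φ.symm.toLinearMap
  have hN : ∀ z, N *ᵥ z = φ.symm z := fun z => LinearMap.toMatrix'_mulVec _ z
  have hMN : M * N = 1 := Matrix.toLin'.injective (LinearMap.ext fun z => by
    rw [Matrix.toLin'_apply, Matrix.toLin'_apply, ← Matrix.mulVec_mulVec, hN, hM,
      Matrix.one_mulVec, LinearEquiv.apply_symm_apply])
  have hNM : N * M = 1 := Matrix.toLin'.injective (LinearMap.ext fun z => by
    rw [Matrix.toLin'_apply, Matrix.toLin'_apply, ← Matrix.mulVec_mulVec, hM, hN,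
      Matrix.one_mulVec, LinearEquiv.symm_apply_apply])
  let E : (κ → F) ≃ₗ[F] (ι → F) :=
    LinearEquiv.ofLinear (Matrix.toLin' (M.map f)) (Matrix.toLin' (N.map f))
      (by rw [← Matrix.toLin'_mul, ← Matrix.map_mul, hMN, Matrix.map_one f (map_zero f) (map_one f),
        Matrix.toLin'_one])
      (by rw [← Matrix.toLin'_mul, ← Matrix.map_mul, hNM, Matrix.map_one f (map_zero f) (map_one f),
        Matrix.toLin'_one])
  have hE : ∀ u, Qe (E u) = f c * Qs u := fun u =>
    hb.comp_eq hs M c (fun z => by rw [hM, hφ]) u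
  set k := Units.map f.toMonoidHom (Units.mk0 c hc) with hk
  have hJ' : ∀ u, Q ((E.trans J) u) = ((w * k : Fˣ) : F) * Qs u := fun u => by
    rw [LinearEquiv.trans_apply, hJ, hE, ← mul_assoc, Units.val_mul]
    rfl
  refine ⟨E.trans J, w * k, hJ', Semi.ext' rfl (fun v => ?_) ?_⟩
  · rw [transport_T, transport_T, LinearEquiv.trans_apply]
    congr 1
    change M.map f *ᵥ (fun i => σ ((N.map f *ᵥ J.symm v) i)) = fun i => σ (J.symm v i)
    rw [show (fun i => σ ((N.map f *ᵥ J.symm v) i)) = N.map f *ᵥ fun i => σ (J.symm v i) from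
      funext fun i => by simp [Matrix.mulVec, dotProduct, map_sum, map_mul, hf.fix],
      Matrix.mulVec_mulVec, ← Matrix.map_mul, hMN, Matrix.map_one f (map_zero f) (map_one f),
      Matrix.one_mulVec]
  · rw [transport_c, transport_c]
    refine Units.ext ?_
    simp only [Units.val_mul, Units.val_inv_eq_inv_val]
    change ((1 : Fˣ) : F) * ((w : F) * f c) * (σ ((w : F) * f c))⁻¹ =
      ((1 : Fˣ) : F) * (w : F) * (σ (w : F))⁻¹
    rw [map_mul, hf.fix]
    have h1 : f c ≠ 0 := fun e => hc (f.injective (e.trans (map_zero f).symm))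
    field_simp

end CfsgLib.AutPOm
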