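import Cfsg.Agent.AutPOm.SimQuot

/-!
The class character of the plus form, and the place of `-1`.
-/

set_option autoImplicit false
set_option linter.style.haveILetI false
set_option synthInstance.maxHeartbeats 400000

namespace CfsgLib.AutPOm

open QuadraticMap CfsgLib.Forms CfsgLib.Quad Matrix

universe u

variable {F : Type u} [Field F] [Finite F] {m : ℕ}

omit [Finite F] in
theorem big_plus (hm : 4 ≤ m) : Big (plusQ (F := F) m) :=
  ⟨plusQ_nondeg m, by simp [Module.finrank_fintype_fun_eq_card]; omega⟩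

omit [Finite F] in
theorem det_plusScale (m : ℕ) (c : Fˣ) :
    ((plusScale m c).mat : Matrix (Fin m ⊕ Fin m) (Fin m ⊕ Fin m) F).det = (c : F) ^ m := by
  have h : ((plusScale m c).mat : Matrix (Fin m ⊕ Fin m) (Fin m ⊕ Fin m) F) =
      Matrix.diagonal (Sum.elim (fun _ => (c : F)) fun _ => 1) := by
    refine Matrix.toLin'.injective (LinearMap.ext fun v => funext fun i => ?_)
    rw [Matrix.toLin'_apply, Semi.mat_mulVec, Matrix.toLin'_apply, Matrix.mulVec_diagonal]
    rcases i with i | i
    · rfl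
    · exact (one_mul _).symm
  rw [h, Matrix.det_diagonal, Fintype.prod_sum_type]
  simp

omit [Finite F] in
theorem img_plusScale (m : ℕ) (c : Fˣ) : (plusScale m c).img (plusHalf F m) = plusHalf F m := by
  ext x
  constructor
  · rintro ⟨y, hy, rfl⟩
    exact LinearMap.mem_ker.mpr (funext fun i => congrFun (LinearMap.mem_ker.mp hy) i)
  · intro hx
    exact ⟨(plusScale m c).T.symm x,
      LinearMap.mem_ker.mpr (funext fun i => congrFun (LinearMap.mem_ker.mp hx) i),
      (plusScale m c).T.apply_symm_apply x⟩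

/-- The class character of the similarities of the plus form. -/
noncomputable def plusSign (F : Type u) [Field F] [Finite F] {m : ℕ} (hm : 3 ≤ m) :
    SignChar (plusQ (F := F) m) m where
  sgn := (hypSpace_plusQ hm).cls.comp (simGroup _).subtype
  card := by simp; ring
  sgn_scalar u := (hypSpace_plusQ hm).cls_scalar u
  sgn_refl v hv := (hypSpace_plusQ hm).cls_refl hv
  det_eq L := by
    obtain ⟨S, hS⟩ := L
    have hσ := mem_simGroup.mp hS
    set h := hypSpace_plusQ (K := F) hm
    set P := plusScale m S.c with hP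
    obtain ⟨g, hg⟩ := Semi.eq_iso (S := P⁻¹ * S)
      (by
        change (S.σ.trans (RingEquiv.refl F).symm) = _
        rw [hσ]; rfl)
      (Units.ext (by
        have h1 := Semi.mul_c P (P⁻¹ * S)
        rw [mul_inv_cancel_left] at h1
        change (S.c : F) = (S.c : F) * ((P⁻¹ * S).c : F) at h1
        rw [Units.val_one]
        exact mul_left_cancel₀ S.c.ne_zero (h1.symm.trans (mul_one _).symm)))
    have hSeq : S = P * isoHom _ g := by rw [← hg, mul_inv_cancel_left]
    have hcP : h.cls P = 1 := by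
      rw [HypSpace.cls_apply, hP, img_plusScale, defect, inf_idem, Nat.sub_self, pow_zero]
    change (S.mat : Matrix (Fin m ⊕ Fin m) (Fin m ⊕ Fin m) F).det =
      ((h.cls S : ℤ) : F) * (S.c : F) ^ m
    conv_lhs => rw [hSeq]
    rw [Semi.det_mul, det_plusScale, det_mat_isoHom, h.cls_iso_det]
    conv_rhs => rw [hSeq, map_mul, hcP, one_mul]
    rw [← hSeq, mul_comm]
    rfl
  mult c := ⟨plusScale m c, rfl, rfl⟩

theorem inndiagPlus_eq_map (hm : 3 ≤ m) :
    classAut F ⇑(plusQ (F := F) m) (Cfsg.PreservesSingularClasses ⇑(plusQ (F := F) m)) =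
      (plusSign F hm).dir.map (pomHom _) :=
  (plusSign F hm).classAut_eq_map fun L => (hypSpace_plusQ hm).preserves_iff fun v =>
    L.1.T_eq_mulVec_of_refl (mem_simGroup.mp L.2) v

theorem negIso_plus_iff (hm : 4 ≤ m) (h2 : (2 : F) ≠ 0) :
    negIso (plusQ (F := F) m) ∈ Om (plusQ (F := F) m) ↔ ¬ (Odd m ∧ Nat.card F % 4 = 3) := by
  haveI := Fintype.ofFinite F
  obtain ⟨p, hpc⟩ := CharP.exists F
  haveI := hpc
  obtain ⟨⟨f, hf⟩, hpp, hF⟩ := FiniteField.card F p
  change Fintype.card F = p ^ f at hF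
  haveI := Fact.mk hpp
  have hcard : Nat.card F = p ^ f := Nat.card_eq_fintype_card.trans hF
  have hodd : Odd (p ^ f) := hcard ▸ odd_card h2
  have hQ := big_plus (F := F) hm
  obtain ⟨h1, h3, horth, hprod⟩ := plusFam_spec (F := F) m
  have hiff : negIso (plusQ (F := F) m) ∈ Om (plusQ (F := F) m) ↔ (p ^ f) ^ m % 4 = 1 := by
    rw [negIso_mem_commutator_iff hQ.nd h2 (plusFam F m) (by simp) (by simp; omega) (by simp)
      (fun i => by rcases i with i | i <;> simp [h1, h3]) horth, hprod,
      isSquare_neg_one_pow_iff hcard hodd]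
  rw [pow_mod_four hodd] at hiff
  have hmod : (p ^ f) % 4 = 1 ∨ (p ^ f) % 4 = 3 := by obtain ⟨r, hr⟩ := hodd; omega
  rw [hiff, hcard]
  by_cases hm' : Odd m
  · rw [if_pos hm']
    constructor
    · rintro h ⟨-, h'⟩; omega
    · exact fun h => hmod.resolve_right fun h' => h ⟨hm', h'⟩
  · rw [if_neg hm']
    exact iff_of_true rfl fun h => hm' h.1

end CfsgLib.AutPOm
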