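import Mathlib.GroupTheory.SpecificGroups.Dihedral
import Mathlib.GroupTheory.IndexNormal
import Mathlib.GroupTheory.SpecificGroups.Cyclic
import Mathlib.GroupTheory.NoncommCoprod
import Mathlib.Data.ZMod.Basic
import Mathlib.GroupTheory.OrderOfElement

/-!
Small group extensions with cyclic quotient.
-/

set_option autoImplicit false
set_option linter.style.haveILetI false

namespace CfsgLib.AutPOm

variable {G : Type*} [Group G]

/-- An extension with a section centralising the kernel is a direct product. -/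
theorem nonempty_equiv_ker_prod {C : Type*} [Group C] (π : G →* C) (φ : C →* G)
    (hsec : ∀ c, π (φ c) = c) (hcomm : ∀ k ∈ π.ker, ∀ c, Commute k (φ c)) :
    Nonempty (G ≃* ↥π.ker × C) := by
  let h : ↥π.ker × C →* G :=
    MonoidHom.noncommCoprod π.ker.subtype φ fun k c => hcomm k k.2 c
  have hval : ∀ x : ↥π.ker × C, h x = x.1.1 * φ x.2 := fun x => rfl
  refine ⟨(MulEquiv.ofBijective h ⟨fun x y hxy => ?_, fun g => ?_⟩).symm⟩
  · rw [hval, hval] at hxy
    have h2 : x.2 = y.2 := by
      have := congrArg π hxy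
      rwa [map_mul, map_mul, hsec, hsec, MonoidHom.mem_ker.mp x.1.2, MonoidHom.mem_ker.mp y.1.2,
        one_mul, one_mul] at this
    exact Prod.ext (Subtype.ext (mul_right_cancel (h2 ▸ hxy))) h2
  · refine ⟨(⟨g * (φ (π g))⁻¹, ?_⟩, π g), ?_⟩
    · rw [MonoidHom.mem_ker, map_mul, map_inv, hsec, mul_inv_cancel]
    · rw [hval]; exact inv_mul_cancel_right g _

theorem eq_or_eq_of_card_two {K : Subgroup G} (hK : Nat.card K = 2) {d : G} (hd : d ∈ K)
    (hd1 : d ≠ 1) {k : G} (hk : k ∈ K) : k = 1 ∨ k = d := by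
  obtain ⟨x, y, hxy, huniv⟩ := Nat.card_eq_two_iff.mp hK
  have hall : ∀ z : K, z = x ∨ z = y := fun z => by
    have : z ∈ (Set.univ : Set K) := trivial
    rw [← huniv] at this
    exact this
  have hne : (⟨d, hd⟩ : K) ≠ 1 := fun e => hd1 (congrArg Subtype.val e)
  rcases hall ⟨k, hk⟩ with e | e <;> rcases hall 1 with e' | e' <;> rcases hall ⟨d, hd⟩ with e'' | e''
  all_goals first
    | exact Or.inl (congrArg Subtype.val (e.trans e'.symm))
    | exact Or.inr (congrArg Subtype.val (e.trans e''.symm))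
    | exact absurd (e''.trans e'.symm) hne

theorem commute_of_card_two {K : Subgroup G} [K.Normal] (hK : Nat.card K = 2) {k : G} (hk : k ∈ K)
    (g : G) : Commute k g := by
  rcases eq_or_ne k 1 with rfl | hk1
  · exact Commute.one_left g
  rcases eq_or_eq_of_card_two hK hk hk1 (Subgroup.Normal.conj_mem inferInstance k hk g) with h | h
  · exact absurd (conj_eq_one_iff.mp h) hk1
  · exact (mul_inv_eq_iff_eq_mul.mp h).symm

theorem zmod_two_equiv {K : Type*} [Group K] (hK : Nat.card K = 2) :
    Nonempty (K ≃* Multiplicative (ZMod 2)) := by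
  haveI : Fact (Nat.Prime 2) := ⟨Nat.prime_two⟩
  haveI : IsCyclic K := isCyclic_of_prime_card hK
  exact ⟨mulEquivOfCyclicCardEq (by rw [hK, Nat.card_congr Multiplicative.toAdd, Nat.card_zmod])⟩

/-- Kernel of order two with a section. -/
theorem nonempty_equiv_two_prod {C : Type*} [Group C] (π : G →* C) (φ : C →* G)
    (hsec : ∀ c, π (φ c) = c) (hK : Nat.card π.ker = 2) {f : ℕ}
    (e : C ≃* Multiplicative (ZMod f)) : Nonempty (G ≃* Multiplicative (ZMod 2 × ZMod f)) := by
  obtain ⟨e1⟩ := nonempty_equiv_ker_prod π φ hsec fun k hk c => commute_of_card_two hK hk _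
  obtain ⟨e2⟩ := zmod_two_equiv hK
  exact ⟨(e1.trans (MulEquiv.prodCongr e2 e)).trans
    (MulEquiv.prodMultiplicative (ZMod 2) (ZMod f)).symm⟩

/-- Kernel of order two, cyclic quotient, a generator whose power leaves one. -/
theorem isCyclic_of_card_two {C : Type*} [Group C] [Finite G] (π : G →* C) {f : ℕ} (hf : f ≠ 0)
    (hK : Nat.card π.ker = 2) (hcard : Nat.card G = 2 * f) {t : G} (ht : orderOf (π t) = f)
    (htf : t ^ f ≠ 1) : IsCyclic G := by
  refine isCyclic_of_orderOf_eq_card t ?_
  rw [hcard]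
  have hk : t ^ f ∈ π.ker := by rw [MonoidHom.mem_ker, map_pow, ← ht, pow_orderOf_eq_one]
  have h2 : orderOf (t ^ f) = 2 := by
    refine orderOf_eq_prime_iff.mpr ⟨?_, htf⟩
    haveI : Fact (Nat.Prime 2) := ⟨Nat.prime_two⟩
    have := pow_card_eq_one' (G := ↥π.ker) (x := ⟨t ^ f, hk⟩)
    rw [hK] at this
    exact congrArg Subtype.val this
  have hdvd : f ∣ orderOf t := ht ▸ orderOf_map_dvd π t
  rw [orderOf_pow' t hf, Nat.gcd_eq_right hdvd] at h2
  rw [← Nat.div_mul_cancel hdvd, h2]

/-- A group of order eight with a non-central involution is dihedral. -/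
theorem nonempty_equiv_dihedral (h8 : Nat.card G = 8) {a b : G} (ha : a * a = 1)
    (hab : a * b ≠ b * a) : Nonempty (G ≃* DihedralGroup 4) := by
  haveI : Finite G := Nat.finite_of_card_ne_zero (by omega)
  have hord : ∀ x : G, orderOf x = 1 ∨ orderOf x = 2 ∨ orderOf x = 4 := by
    intro x
    have h := orderOf_dvd_natCard x
    rw [h8] at h
    have h' : orderOf x ∈ Nat.divisors 8 := Nat.mem_divisors.mpr ⟨h, by norm_num⟩
    rw [show Nat.divisors 8 = {1, 2, 4, 8} by decide] at h'
    simp only [Finset.mem_insert, Finset.mem_singleton] at h'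
    rcases h' with h | h | h | h
    · exact Or.inl h
    · exact Or.inr (Or.inl h)
    · exact Or.inr (Or.inr h)
    · exfalso
      haveI := isCyclic_of_orderOf_eq_card x (h.trans h8.symm)
      letI := IsCyclic.commGroup (α := G)
      exact hab (mul_comm a b)
  obtain ⟨R, hR⟩ : ∃ R : G, orderOf R = 4 := by
    by_contra h
    push Not at h
    have hsq : ∀ x : G, x * x = 1 := fun x => by
      rcases hord x with hx | hx | hx
      · rw [orderOf_eq_one_iff.mp hx, one_mul]
      · rw [← pow_two, ← hx, pow_orderOf_eq_one]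
      · exact absurd hx (h x)
    have hinv : ∀ x : G, x⁻¹ = x := fun x => inv_eq_of_mul_eq_one_left (hsq x)
    exact hab (by rw [← hinv (a * b), _root_.mul_inv_rev, hinv, hinv])
  set H := Subgroup.zpowers R with hH
  have hH4 : Nat.card H = 4 := by rw [hH, Nat.card_zpowers, hR]
  have hindex : H.index = 2 := by
    have := Subgroup.card_mul_index H
    rw [hH4, h8] at this
    omega
  haveI : H.Normal := Subgroup.normal_of_index_eq_two hindex
  have hR4 : R ^ 4 = 1 := by rw [← hR, pow_orderOf_eq_one]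
  have hmod : ∀ n : ℕ, R ^ n = R ^ (n % 4) := fun n => by rw [← hR, ← pow_mod_orderOf]
  have hpows : ∀ x ∈ H, ∃ i : ZMod 4, x = R ^ i.val := by
    intro x hx
    obtain ⟨n, rfl⟩ := (mem_powers_iff_mem_zpowers.mpr hx : x ∈ Submonoid.powers R)
    exact ⟨(n : ZMod 4), by rw [ZMod.val_natCast]; exact hmod n⟩
  have hgen : ∀ y : G, y * R * y⁻¹ = R ∨ y * R * y⁻¹ = R⁻¹ := by
    intro y
    obtain ⟨i, hi⟩ := hpows _ (Subgroup.Normal.conj_mem inferInstance R (Subgroup.mem_zpowers R) y)
    have ho : orderOf (R ^ i.val) = 4 := by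
      rw [← hi, ← hR]
      exact orderOf_injective (MulAut.conj y).toMonoidHom (MulAut.conj y).injective R
    rw [hi]
    fin_cases i
    · simp [ZMod.val] at ho
    · left; exact pow_one R
    · exfalso
      rw [orderOf_pow' R (by decide), hR] at ho
      revert ho; decide
    · right
      exact eq_inv_of_mul_eq_one_left (by
        change R ^ 3 * R = 1
        rw [← pow_succ, hR4])
  have hR2c : ∀ y : G, Commute y (R ^ 2) := by
    intro y
    have h1 : y * R ^ 2 * y⁻¹ = R ^ 2 := by
      rw [← conj_pow]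
      rcases hgen y with h | h
      · rw [h]
      · rw [h, inv_pow, inv_eq_iff_mul_eq_one, ← pow_add, hR4]
    exact mul_inv_eq_iff_eq_mul.mp h1
  have haH : a ∉ H := by
    intro h
    obtain ⟨i, hi⟩ := hpows a h
    subst hi
    rw [← pow_add, ← orderOf_dvd_iff_pow_eq_one, hR] at ha
    fin_cases i
    · exact hab (by simp [ZMod.val])
    · revert ha; decide
    · exact hab (hR2c b).symm.eq
    · revert ha; decide
  have hcoset : ∀ x : G, x ∈ H ∨ a * x ∈ H := fun x => by
    by_cases hx : x ∈ H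
    · exact Or.inl hx
    · exact Or.inr ((Subgroup.mul_mem_iff_of_index_two hindex).mpr (iff_of_false haH hx))
  have hcent : a * R * a⁻¹ = R⁻¹ := by
    refine (hgen a).resolve_left fun h => hab ?_
    have hc : Commute a R := mul_inv_eq_iff_eq_mul.mp h
    rcases hcoset b with h' | h'
    · obtain ⟨i, rfl⟩ := hpows b h'
      exact (hc.pow_right _).eq
    · obtain ⟨i, hi⟩ := hpows _ h'
      have hb : b = a * R ^ i.val := by rw [← hi, ← mul_assoc, ha, one_mul]
      rw [hb]
      exact ((Commute.refl a).mul_right (hc.pow_right _)).eq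
  have hainv : a⁻¹ = a := inv_eq_of_mul_eq_one_left ha
  have hflip : ∀ n : ℕ, R ^ n * a = a * (R⁻¹) ^ n := fun n => by
    rw [← hcent, conj_pow, ← mul_assoc, ← mul_assoc, ha, one_mul, hainv]
  have hadd : ∀ i j : ZMod 4, R ^ i.val * R ^ j.val = R ^ (i + j).val := fun i j => by
    rw [← pow_add, ZMod.val_add]; exact hmod _
  have hsub : ∀ i j : ZMod 4, (R⁻¹) ^ i.val * R ^ j.val = R ^ (j - i).val := fun i j => by
    rw [inv_pow, inv_mul_eq_iff_eq_mul, hadd, add_sub_cancel]
  let φ : DihedralGroup 4 → G := fun x => match x with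
    | DihedralGroup.r i => R ^ i.val
    | DihedralGroup.sr i => a * R ^ i.val
  have hmul : ∀ x y, φ (x * y) = φ x * φ y := by
    rintro (i | i) (j | j)
    · exact (hadd i j).symm
    · change a * R ^ (j - i).val = R ^ i.val * (a * R ^ j.val)
      rw [← mul_assoc, hflip, mul_assoc, hsub]
    · change a * R ^ (i + j).val = a * R ^ i.val * R ^ j.val
      rw [mul_assoc, hadd]
    · change R ^ (j - i).val = a * R ^ i.val * (a * R ^ j.val)
      rw [mul_assoc, ← mul_assoc (R ^ i.val), hflip, mul_assoc, hsub, ← mul_assoc, ha, one_mul]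
  have hbij : Function.Bijective (MonoidHom.mk' φ hmul) := by
    refine (Nat.bijective_iff_surjective_and_card _).mpr ⟨?_, DihedralGroup.nat_card.trans h8.symm⟩
    intro x
    rcases hcoset x with h | h
    · obtain ⟨i, hi⟩ := hpows x h
      exact ⟨DihedralGroup.r i, hi.symm⟩
    · obtain ⟨i, hi⟩ := hpows _ h
      refine ⟨DihedralGroup.sr i, ?_⟩
      change a * R ^ i.val = x
      rw [← hi, ← mul_assoc, ha, one_mul]
  exact ⟨(MulEquiv.ofBijective _ hbij).symm⟩

/-- A generator of a cyclic group with a section through a chosen lift. -/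
theorem exists_section {C : Type*} [Group C] (π : G →* C) {f : ℕ} (t : G)
    (hgen : ∀ c : C, c ∈ Subgroup.zpowers (π t)) (ht : orderOf (π t) = f) (htf : t ^ f = 1) :
    ∃ φ : C →* G, (∀ c, π (φ c) = c) ∧ ∀ c, φ c ∈ Subgroup.zpowers t := by
  refine ⟨monoidHomOfForallMemZpowers hgen (g' := t)
    (ht ▸ orderOf_dvd_of_pow_eq_one htf), fun c => ?_, fun c => ?_⟩
  · obtain ⟨n, rfl⟩ := hgen c
    rw [map_zpow, monoidHomOfForallMemZpowers_apply_gen, map_zpow]
  · obtain ⟨n, rfl⟩ := hgen c
    rw [map_zpow, monoidHomOfForallMemZpowers_apply_gen]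
    exact ⟨n, rfl⟩

/-- A dihedral kernel of order eight with a cyclic quotient of odd order splits off. -/
theorem nonempty_equiv_dihedral_prod [Finite G] {C : Type*} [Group C] (π : G →* C) {f : ℕ}
    (hodd : Odd f) (e : C ≃* Multiplicative (ZMod f)) (hπ : Function.Surjective π)
    (eK : ↥π.ker ≃* DihedralGroup 4) :
    Nonempty (G ≃* DihedralGroup 4 × Multiplicative (ZMod f)) := by
  have hf0 : f ≠ 0 := fun h => by simp [h] at hodd
  haveI : NeZero f := ⟨hf0⟩
  have hC : Nat.card C = f := by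
    rw [Nat.card_congr e.toEquiv, Nat.card_congr Multiplicative.toAdd, Nat.card_zmod]
  haveI : Finite C := Nat.finite_of_card_ne_zero (by omega)
  haveI : IsCyclic C := isCyclic_of_surjective e.symm e.symm.surjective
  obtain ⟨c, hc⟩ := IsCyclic.exists_generator (α := C)
  obtain ⟨t, rfl⟩ := hπ c
  have hot : orderOf (π t) = f := (orderOf_eq_card_of_forall_mem_zpowers hc).trans hC
  have hcop : (64 : ℕ).Coprime f := by
    rw [show (64 : ℕ) = 2 ^ 6 by norm_num]
    exact (Nat.coprime_two_left.mpr hodd).pow_left 6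
  set w := t ^ 64 with hw
  have how : orderOf (π w) = f := by
    rw [hw, map_pow, orderOf_pow, hot, Nat.gcd_comm, hcop.gcd_eq_one, Nat.div_one]
  have hgenw : ∀ c : C, c ∈ Subgroup.zpowers (π w) := fun c => by
    have htop : Subgroup.zpowers (π w) = ⊤ :=
      Subgroup.eq_top_of_card_eq _ (by rw [Nat.card_zpowers, how, hC])
    rw [htop]
    trivial
  have hwf : w ^ f = 1 := by
    have hk : t ^ f ∈ π.ker := by rw [MonoidHom.mem_ker, map_pow, ← hot, pow_orderOf_eq_one]
    have h8 : Nat.card π.ker = 8 := (Nat.card_congr eK.toEquiv).trans DihedralGroup.nat_card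
    have h1 := pow_card_eq_one' (G := ↥π.ker) (x := ⟨t ^ f, hk⟩)
    rw [h8] at h1
    have h2 : (t ^ f) ^ 8 = 1 := congrArg Subtype.val h1
    rw [hw, ← pow_mul, mul_comm, pow_mul, show (64 : ℕ) = 8 * 8 by norm_num, pow_mul, h2, one_pow]
  -- conjugation by `w` on the kernel
  let ψ : MulAut ↥π.ker := MulAut.conjNormal t
  let Ψ : MulAut (DihedralGroup 4) := MulAut.congr eK ψ
  have hR : ∀ χ : MulAut (DihedralGroup 4),
      χ (DihedralGroup.r 1) = DihedralGroup.r 1 ∨ χ (DihedralGroup.r 1) = DihedralGroup.r 3 := by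
    intro χ
    have h := orderOf_injective χ.toMonoidHom χ.injective (DihedralGroup.r 1 : DihedralGroup 4)
    rw [DihedralGroup.orderOf_r_one] at h
    change orderOf (χ (DihedralGroup.r 1)) = 4 at h
    generalize χ (DihedralGroup.r 1) = y at h ⊢
    cases y with
    | r i =>
      fin_cases i
      · exfalso
        have : orderOf (1 : DihedralGroup 4) = 4 := h
        simp at this
      · exact Or.inl rfl
      · exfalso
        have h2 : (DihedralGroup.r 2 : DihedralGroup 4) ^ 2 = 1 := by decide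
        have := orderOf_dvd_of_pow_eq_one h2
        rw [show orderOf (DihedralGroup.r 2 : DihedralGroup 4) = 4 from h] at this
        norm_num at this
      · exact Or.inr rfl
    | sr i => rw [DihedralGroup.orderOf_sr] at h; omega
  have h1 : ∀ χ : MulAut (DihedralGroup 4), χ (χ (DihedralGroup.r 1)) = DihedralGroup.r 1 := by
    intro χ
    rcases hR χ with h | h
    · rw [h, h]
    · rw [h, show (DihedralGroup.r 3 : DihedralGroup 4) = (DihedralGroup.r 1)⁻¹ by decide, map_inv, h]
      decide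
  set χ := Ψ * Ψ with hχ
  have hχr : χ (DihedralGroup.r 1) = DihedralGroup.r 1 := h1 Ψ
  obtain ⟨k, hk⟩ : ∃ k, χ (DihedralGroup.sr 0) = DihedralGroup.sr k := by
    rcases hy : χ (DihedralGroup.sr 0) with i | i
    · exfalso
      have hri : χ (DihedralGroup.r i) = DihedralGroup.r i := by
        obtain ⟨n, rfl⟩ : ∃ n : ℕ, (n : ZMod 4) = i := ⟨i.val, ZMod.natCast_zmod_val i⟩
        rw [← DihedralGroup.r_one_pow, map_pow, hχr]
      cases (χ.injective (hy.trans hri.symm))
    · exact ⟨i, rfl⟩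
  have hpow : ∀ n : ℕ, (χ ^ n) (DihedralGroup.r 1) = DihedralGroup.r 1 ∧
      (χ ^ n) (DihedralGroup.sr 0) = DihedralGroup.sr ((n : ZMod 4) * k) := by
    intro n
    induction n with
    | zero => simp
    | succ n ih =>
      refine ⟨by rw [pow_succ', MulAut.mul_apply, ih.1, hχr], ?_⟩
      rw [pow_succ', MulAut.mul_apply, ih.2]
      have : (DihedralGroup.sr ((n : ZMod 4) * k) : DihedralGroup 4) =
          DihedralGroup.sr 0 * DihedralGroup.r 1 ^ ((n : ZMod 4) * k).val := by
        rw [DihedralGroup.r_one_pow, DihedralGroup.sr_mul_r, ZMod.natCast_zmod_val, zero_add]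
      rw [this, map_mul, map_pow, hχr, hk, DihedralGroup.r_one_pow, DihedralGroup.sr_mul_r,
        ZMod.natCast_zmod_val, Nat.cast_succ]
      congr 1
      ring
  have hΨ : Ψ ^ 8 = 1 := by
    have h4 : (Ψ ^ 8) = χ ^ 4 := by rw [hχ, ← pow_two, ← pow_mul]
    rw [h4]
    refine MulEquiv.ext fun x => ?_
    have hr : ∀ i : ZMod 4, (χ ^ 4) (DihedralGroup.r i) = DihedralGroup.r i := fun i => by
      obtain ⟨n, rfl⟩ : ∃ n : ℕ, (n : ZMod 4) = i := ⟨i.val, ZMod.natCast_zmod_val i⟩
      rw [← DihedralGroup.r_one_pow, map_pow, (hpow 4).1]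
    have hs : (χ ^ 4) (DihedralGroup.sr 0) = DihedralGroup.sr 0 := by
      rw [(hpow 4).2, show ((4 : ℕ) : ZMod 4) = 0 from rfl, zero_mul]
    rw [MulAut.one_apply]
    cases x with
    | r i => exact hr i
    | sr i =>
      rw [show (DihedralGroup.sr i : DihedralGroup 4) = DihedralGroup.sr 0 * DihedralGroup.r i by
        rw [DihedralGroup.sr_mul_r, zero_add], map_mul, hs, hr]
  have hψ : ψ ^ 8 = 1 := (MulAut.congr eK).injective (by rw [map_pow, map_one]; exact hΨ)
  have hcomm : ∀ k ∈ π.ker, Commute k w := by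
    intro k hk
    have h2 : (MulAut.conjNormal w : MulAut ↥π.ker) ⟨k, hk⟩ = ⟨k, hk⟩ := by
      rw [hw, map_pow, show (64 : ℕ) = 8 * 8 by norm_num, pow_mul,
        show (MulAut.conjNormal t : MulAut ↥π.ker) ^ 8 = 1 from hψ, one_pow, MulAut.one_apply]
    have h3 := congrArg Subtype.val h2
    rw [MulAut.conjNormal_apply] at h3
    exact (mul_inv_eq_iff_eq_mul.mp h3).symm
  obtain ⟨φ, hsec, hφ⟩ := exists_section π w hgenw how hwf
  obtain ⟨e1⟩ := nonempty_equiv_ker_prod π φ hsec fun k hk c => by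
    obtain ⟨n, hn⟩ := hφ c
    rw [← hn]
    exact (hcomm k hk).zpow_right n
  exact ⟨e1.trans (MulEquiv.prodCongr eK e)⟩

/-- A group of order four and exponent two. -/
theorem nonempty_equiv_klein (h4 : Nat.card G = 4) (hsq : ∀ x : G, x * x = 1) :
    Nonempty (G ≃* Multiplicative (ZMod 2 × ZMod 2)) := by
  haveI : Finite G := Nat.finite_of_card_ne_zero (by omega)
  haveI : IsKleinFour G := by
    haveI : Nontrivial G := Finite.one_lt_card_iff_nontrivial.mp (by omega)
    refine ⟨h4, Monoid.exponent_eq_prime_iff Nat.prime_two |>.mpr fun g hg => ?_⟩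
    exact orderOf_eq_prime (by rw [pow_two]; exact hsq g) hg
  exact IsKleinFour.nonempty_mulEquiv

/-- A central Klein kernel, cyclic quotient, and a lift of a generator with power outside the
identity: the product of two cyclic groups of orders two and twice the index. -/
theorem nonempty_equiv_two_cyclic [Finite G] {C : Type*} [Group C] (π : G →* C) {f : ℕ} [NeZero f]
    (hK : Nat.card π.ker = 4) (hsq : ∀ k ∈ π.ker, k * k = 1) (hcard : Nat.card G = 4 * f)
    {t d : G} (ht : orderOf (π t) = f) (htf : t ^ f ≠ 1) (hd : d ∈ π.ker) (hd1 : d ≠ 1)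
    (hdt : d ≠ t ^ f) (hcomm : Commute d t) :
    Nonempty (G ≃* Multiplicative (ZMod 2 × ZMod (2 * f))) := by
  have hk : t ^ f ∈ π.ker := by rw [MonoidHom.mem_ker, map_pow, ← ht, pow_orderOf_eq_one]
  have h2f : t ^ (2 * f) = 1 := by rw [mul_comm, pow_mul, pow_two, hsq _ hk]
  have hord : orderOf t = 2 * f := by
    have hdvd : f ∣ orderOf t := ht ▸ orderOf_map_dvd π t
    obtain ⟨k, hk'⟩ := hdvd
    have h1 : orderOf t ∣ f * 2 := by rw [mul_comm]; exact orderOf_dvd_of_pow_eq_one h2f
    rw [hk'] at h1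
    have h2 := Nat.le_of_dvd two_pos (Nat.dvd_of_mul_dvd_mul_left (Nat.pos_of_ne_zero (NeZero.ne f)) h1)
    have hk0 : k ≠ 0 := fun h => (orderOf_pos t).ne' (by rw [hk', h, mul_zero])
    have hk1 : k ≠ 1 := fun h => htf (by
      rw [show f = orderOf t by rw [hk', h, mul_one], pow_orderOf_eq_one])
    rw [hk', show k = 2 by omega, mul_comm]
  have hdord : orderOf d = 2 := orderOf_eq_prime (p := 2) (by rw [pow_two]; exact hsq d hd) hd1
  let h : ↥(Subgroup.zpowers d) × ↥(Subgroup.zpowers t) →* G :=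
    MonoidHom.noncommCoprod (Subgroup.zpowers d).subtype (Subgroup.zpowers t).subtype
      fun x y => by
        obtain ⟨m, hm⟩ := x.2
        obtain ⟨n, hn⟩ := y.2
        rw [Subgroup.coe_subtype, Subgroup.coe_subtype, ← hm, ← hn]
        exact (hcomm.zpow_left m).zpow_right n
  have hinj : Function.Injective h := by
    refine (injective_iff_map_eq_one h).mpr ?_
    rintro ⟨⟨x, m, rfl⟩, y, hy⟩ hxy
    change d ^ m * y = 1 at hxy
    have hym : y = (d ^ m)⁻¹ := eq_inv_of_mul_eq_one_right hxy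
    have hyk : y ∈ π.ker := hym ▸ π.ker.inv_mem (π.ker.zpow_mem hd m)
    obtain ⟨n, rfl⟩ := hy
    have hfn : (f : ℤ) ∣ n := by
      rw [← ht, orderOf_dvd_iff_zpow_eq_one, ← map_zpow]
      exact hyk
    obtain ⟨j, rfl⟩ := hfn
    have hy' : t ^ ((f : ℤ) * j) = (t ^ f) ^ j := by rw [zpow_mul, zpow_natCast]
    have hdm : d ^ m = 1 ∨ d ^ m = d := by
      rcases Int.emod_two_eq m with e | e
      · left; rw [← zpow_mod_orderOf, hdord]; simp [e]
      · right; rw [← zpow_mod_orderOf, hdord]; simp [e]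
    have hj : (t ^ f) ^ j = 1 ∨ (t ^ f) ^ j = t ^ f := by
      have ho : orderOf (t ^ f) = 2 := orderOf_eq_prime (p := 2) (by rw [pow_two]; exact hsq _ hk) htf
      rcases Int.emod_two_eq j with e | e
      · left; rw [← zpow_mod_orderOf, ho]; simp [e]
      · right; rw [← zpow_mod_orderOf, ho]; simp [e]
    simp only [hy'] at hym
    rcases hdm with e | e
    · rw [e, inv_one] at hym
      exact Prod.ext (Subtype.ext e) (Subtype.ext (hy'.trans hym))
    · exfalso
      rw [e, inv_eq_of_mul_eq_one_left (hsq d hd)] at hym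
      rcases hj with e' | e' <;> rw [e'] at hym
      · exact hd1 hym.symm
      · exact hdt hym.symm
  have hc1 : Nat.card (↥(Subgroup.zpowers d) × ↥(Subgroup.zpowers t)) = Nat.card G := by
    rw [Nat.card_prod, Nat.card_zpowers, Nat.card_zpowers, hdord, hord, hcard]
    ring
  refine ⟨((MulEquiv.ofBijective h ((Nat.bijective_iff_injective_and_card _).mpr ⟨hinj, hc1⟩)).symm.trans
    (MulEquiv.prodCongr (mulEquivOfCyclicCardEq ?_) (mulEquivOfCyclicCardEq ?_))).trans
    (MulEquiv.prodMultiplicative (ZMod 2) (ZMod (2 * f))).symm⟩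
  · rw [Nat.card_zpowers, hdord, Nat.card_congr Multiplicative.toAdd, Nat.card_zmod]
  · rw [Nat.card_zpowers, hord, Nat.card_congr Multiplicative.toAdd, Nat.card_zmod]

end CfsgLib.AutPOm
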