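import Cfsg.Agent.AutPOm.Descent

/-!
Automorphisms of finite order induced by transported coordinatewise maps: conjugacy and centralisers.
-/

set_option autoImplicit false
set_option linter.style.haveILetI false

namespace CfsgLib.AutPOm

open QuadraticMap CfsgLib.Forms CfsgLib.Quad Matrix

variable {F : Type*} [Field F] {ι : Type} [Fintype ι] [DecidableEq ι] {Q : QuadraticForm F (ι → F)}

theorem Semi.scalar_mul_pow (Y : Semi Q) (a : Fˣ) (k : ℕ) :
    (scalarHom Q a * Y) ^ k = scalarHom Q (CfsgLib.AutPSL.autNorm (Y.σ : RingAut F) k a) * Y ^ k := by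
  induction k with
  | zero =>
    rw [pow_zero, pow_zero, show CfsgLib.AutPSL.autNorm (Y.σ : RingAut F) 0 a = 1 from rfl, map_one, one_mul]
  | succ k ih =>
    rw [pow_succ', ih, mul_assoc, ← mul_assoc Y, Semi.scalar_comm, mul_assoc, ← pow_succ', ← mul_assoc,
      ← map_mul]
    rfl

variable [Finite F] (hQ : Big Q)
include hQ

theorem pomHom_eq_iff {S S' : Semi Q} :
    pomHom Q S = pomHom Q S' ↔ ∃ u : Fˣ, S = scalarHom Q u * S' := by
  rw [← mul_inv_eq_one, ← map_inv, ← map_mul, pomHom_eq_one_iff, mem_ker_pgHom hQ]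
  exact exists_congr fun u => mul_inv_eq_iff_eq_mul

theorem pomHom_scalar (u : Fˣ) : pomHom Q (scalarHom Q u) = 1 :=
  pomHom_eq_one_iff.mpr ((mem_ker_pgHom hQ).mpr ⟨u, rfl⟩)

theorem pomHom_scalar_mul (u : Fˣ) (S : Semi Q) : pomHom Q (scalarHom Q u * S) = pomHom Q S := by
  rw [map_mul, pomHom_scalar hQ, one_mul]

/-- A transported map with field automorphism of order `r` induces an automorphism of order `r`. -/
theorem orderOf_pomHom {σ : RingAut F} {r : ℕ} (hσ : orderOf σ = r) {Y : Semi Q} (hYσ : Y.σ = σ)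
    (hY : Y ^ r = 1) : orderOf (pomHom Q Y) = r := by
  refine Nat.dvd_antisymm (orderOf_dvd_of_pow_eq_one (by rw [← map_pow, hY, map_one])) ?_
  rw [← hσ]
  refine orderOf_dvd_of_pow_eq_one ?_
  have h := pow_orderOf_eq_one (pomHom Q Y)
  rw [← map_pow, pomHom_eq_one_iff, mem_ker_pgHom hQ] at h
  obtain ⟨u, hu⟩ := h
  rw [← hYσ, ← Semi.pow_σ, hu]
  rfl

variable {K : Type*} [Field K] {f : K →+* F} {σ : RingAut F} {r : ℕ} (hf : IsFixed f σ r)
include hf

/-- Lifting an element of order dividing `r` to a semisimilarity of order dividing `r`. -/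
theorem exists_pow_lift {S : Semi Q} (hSσ : S.σ = σ) (hS : pomHom Q S ^ r = 1) :
    ∃ w : Fˣ, (scalarHom Q w * S) ^ r = 1 := by
  rw [← map_pow, pomHom_eq_one_iff, mem_ker_pgHom hQ] at hS
  obtain ⟨u, hu⟩ := hS
  have hfix : Units.map (σ : F →* F) u = u := by
    refine scalarHom_injective hQ ?_
    refine mul_right_cancel (b := S) ?_
    rw [← hSσ]
    refine (Semi.scalar_comm S u).symm.trans ?_
    rw [← hu]
    exact (Commute.refl S).pow_right r
  obtain ⟨v, hv⟩ := CfsgLib.AutPSL.exists_autNorm_eq σ hf.pow_eq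
    (CfsgLib.AutPSL.injective_pow_of_orderOf hf.order) hf.pos u hfix
  refine ⟨v⁻¹, ?_⟩
  rw [Semi.scalar_mul_pow, hSσ, map_inv, hv, hu, ← map_mul, inv_mul_cancel, map_one]

/-- Commuting up to scalars can be corrected to commuting. -/
theorem exists_commute {T : Semi Q} (hTσ : T.σ = σ) (hT : T ^ r = 1) {S : Semi Q}
    (h : pomHom Q (T * S) = pomHom Q (S * T)) : ∃ w : Fˣ, Commute T (scalarHom Q w * S) := by
  obtain ⟨u, hu⟩ := (pomHom_eq_iff hQ).mp h
  have hiter : ∀ k, T ^ k * S = scalarHom Q (CfsgLib.AutPSL.autNorm σ k u) * S * T ^ k := by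
    intro k
    induction k with
    | zero =>
      rw [pow_zero, one_mul, mul_one, show CfsgLib.AutPSL.autNorm σ 0 u = 1 from rfl, map_one, one_mul]
    | succ k ih =>
      rw [pow_succ', mul_assoc, ih, ← mul_assoc, ← mul_assoc, Semi.scalar_comm, hTσ, mul_assoc _ T S,
        hu, ← mul_assoc, ← map_mul, ← mul_assoc, mul_assoc _ T (T ^ k)]
      congr 2
      rw [mul_comm]
      rfl
  have hN : CfsgLib.AutPSL.autNorm σ r u = 1 := by
    have h1 := hiter r
    rw [hT, one_mul, mul_one] at h1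
    refine scalarHom_injective hQ (mul_right_cancel (b := S) ?_)
    rw [map_one, one_mul]
    exact h1.symm
  obtain ⟨w, hw⟩ := CfsgLib.AutPSL.exists_div_eq_of_autNorm σ hf.pow_eq
    (CfsgLib.AutPSL.injective_pow_of_orderOf hf.order) hf.pos u hN
  refine ⟨w, ?_⟩
  change T * (scalarHom Q w * S) = scalarHom Q w * S * T
  rw [← mul_assoc, Semi.scalar_comm, hTσ, mul_assoc, hu, ← mul_assoc, ← map_mul]
  change scalarHom Q (Units.map (σ : F →* F) w * u) * (S * T) = _
  rw [mul_comm, hw, mul_assoc]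

variable {κ : Type} [Fintype κ] [DecidableEq κ] {Q0 : QuadraticForm K (κ → K)}
  {Qs : QuadraticForm F (κ → F)} (hs : IsBase f Q0 Qs)
include hs

omit [Finite F] hQ in
/-- The similarity conjugating one transported map to another. -/
theorem exists_sim_conj {Y Y' : Semi Q}
    (hY : ∃ (J : (κ → F) ≃ₗ[F] (ι → F)) (w : Fˣ) (hJ : ∀ u, Q (J u) = (w : F) * Qs u),
      transport J w hJ (hs.coordT σ hf.fix) = Y)
    (hY' : ∃ (J : (κ → F) ≃ₗ[F] (ι → F)) (w : Fˣ) (hJ : ∀ u, Q (J u) = (w : F) * Qs u),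
      transport J w hJ (hs.coordT σ hf.fix) = Y') :
    ∃ h ∈ simGroup Q, Y' = h * Y * h⁻¹ := by
  obtain ⟨J, w, hJ, rfl⟩ := hY
  obtain ⟨J', w', hJ', rfl⟩ := hY'
  refine ⟨twoModels J J' w w' hJ hJ', mem_simGroup.mpr rfl, ?_⟩
  rw [← twoModels_conj, mul_inv_cancel_right]

omit [Finite F] hQ in
theorem pow_coordT : (hs.coordT σ hf.fix) ^ r = 1 := by
  have h : ∀ k, ((hs.coordT σ hf.fix) ^ k).σ = σ ^ k ∧ ((hs.coordT σ hf.fix) ^ k).c = 1 ∧
      ∀ v, ((hs.coordT σ hf.fix) ^ k).T v = fun i => (σ ^ k) (v i) := by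
    intro k
    induction k with
    | zero => exact ⟨rfl, rfl, fun v => rfl⟩
    | succ k ih =>
      refine ⟨Semi.pow_σ _ _, Units.ext ?_, fun v => ?_⟩
      · rw [pow_succ', Semi.mul_c, ih.2.1]
        change (1 : F) * σ 1 = 1
        rw [map_one, one_mul]
      · rw [Semi.pow_succ_T, ih.2.2, pow_succ']
        rfl
  refine Semi.ext' ((h r).1.trans hf.pow_eq) (fun v => ?_) (h r).2.1
  rw [(h r).2.2, hf.pow_eq]
  rfl

omit [Finite F] hQ in
theorem pow_transport (J : (κ → F) ≃ₗ[F] (ι → F)) (w : Fˣ) (hJ : ∀ u, Q (J u) = (w : F) * Qs u) :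
    transport J w hJ (hs.coordT σ hf.fix) ^ r = 1 := by
  rw [← map_pow, pow_coordT hf hs, map_one]

variable (J : (κ → F) ≃ₗ[F] (ι → F)) (w : Fˣ) (hJ : ∀ u, Q (J u) = (w : F) * Qs u)
  {A : Subgroup (Semi Q)} (hA : A ≤ simGroup Q) (hAs : ∀ u : Fˣ, scalarHom Q u ∈ A)
include hA hAs

/-- Order `r` in the coset is conjugacy to the standard element. -/
theorem isConjUnder_of_pow
    (hfix : ∀ h ∈ simGroup Q, ∃ t, Commute t (transport J w hJ (hs.coordT σ hf.fix)) ∧ h * t ∈ A)
    (hmodel : ∀ Y : Semi Q, Y.σ = σ → Y ^ r = 1 → Y * (transport J w hJ (hs.coordT σ hf.fix))⁻¹ ∈ A →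
      ∃ (J' : (κ → F) ≃ₗ[F] (ι → F)) (w' : Fˣ) (hJ' : ∀ u, Q (J' u) = (w' : F) * Qs u),
        transport J' w' hJ' (hs.coordT σ hf.fix) = Y)
    {δ : MulAut (Cfsg.POmega F ⇑Q)} (hδ : δ ∈ A.map (pomHom Q))
    (hord : (δ * pomHom Q (transport J w hJ (hs.coordT σ hf.fix))) ^ r = 1) :
    Cfsg.IsConjUnder (A.map (pomHom Q)) (pomHom Q (transport J w hJ (hs.coordT σ hf.fix)))
      (δ * pomHom Q (transport J w hJ (hs.coordT σ hf.fix))) := by
  set T := transport J w hJ (hs.coordT σ hf.fix) with hT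
  obtain ⟨S, hS, rfl⟩ := hδ
  rw [← map_mul] at hord ⊢
  have hσ : (S * T).σ = σ := by
    change T.σ.trans S.σ = σ
    rw [mem_simGroup.mp (hA hS)]
    rfl
  obtain ⟨v, hv⟩ := exists_pow_lift hQ hf hσ hord
  obtain ⟨J', w', hJ', hY⟩ := hmodel (scalarHom Q v * (S * T))
    (by change (S * T).σ.trans (RingEquiv.refl F) = σ; rw [hσ]; rfl) hv
    (by rw [mul_assoc, mul_inv_cancel_right]; exact A.mul_mem (hAs v) hS)
  obtain ⟨h, hh, hconj⟩ := exists_sim_conj hf hs ⟨J, w, hJ, rfl⟩ ⟨J', w', hJ', hY⟩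
  obtain ⟨t, ht, hht⟩ := hfix h hh
  refine ⟨pomHom Q (h * t), ⟨h * t, hht, rfl⟩, ?_⟩
  rw [← map_mul, ← map_inv, ← map_mul, ← pomHom_scalar_mul hQ v (S * T), hconj,
    show h * t * T * (h * t)⁻¹ = h * (t * T * t⁻¹) * h⁻¹ by group, ht.eq, mul_inv_cancel_right]

omit hA in
/-- The similarities over the small field lying in `A`. -/
noncomputable def baseGroup : Subgroup ↥(simGroup Q0) :=
  A.comap ((transport J w hJ).toMonoidHom.comp hs.extHom)

omit hA in
theorem mem_baseGroup {L : ↥(simGroup Q0)} :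
    L ∈ baseGroup (A := A) hs J w hJ ↔ transport J w hJ (hs.extHom L) ∈ A := Iff.rfl

/-- The map of the small group into the automorphisms. -/
noncomputable def baseMap : ↥(baseGroup (A := A) hs J w hJ) →* MulAut (Cfsg.POmega F ⇑Q) :=
  ((pomHom Q).comp ((transport J w hJ).toMonoidHom.comp hs.extHom)).comp
    (baseGroup (A := A) hs J w hJ).subtype

theorem centralizer_eq :
    A.map (pomHom Q) ⊓ Subgroup.centralizer {pomHom Q (transport J w hJ (hs.coordT σ hf.fix))} =
      (baseMap (A := A) hs J w hJ).range := by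
  set T := transport J w hJ (hs.coordT σ hf.fix) with hT
  ext x
  constructor
  · rintro ⟨⟨S, hS, rfl⟩, hc⟩
    have h := Subgroup.mem_centralizer_singleton_iff.mp hc
    rw [← map_mul, ← map_mul] at h
    obtain ⟨v, hv⟩ := exists_commute hQ hf (S := S) (T := T) rfl (pow_transport hf hs J w hJ) h.symm
    set S' := scalarHom Q v * S
    have hS' : S' ∈ A := A.mul_mem (hAs v) hS
    obtain ⟨L, hL⟩ := hs.exists_of_commute hf.fix hf.surj (S := (transport J w hJ).symm S')
      ((mem_simGroup_transport J w hJ _).mp (by rw [MulEquiv.apply_symm_apply]; exact hA hS'))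
      ((transport J w hJ).injective (by
        rw [map_mul (transport J w hJ), map_mul (transport J w hJ),
          (transport J w hJ).apply_symm_apply S']
        exact hv.eq))
    have hL' : transport J w hJ (hs.extHom L) = S' := by rw [hL, MulEquiv.apply_symm_apply]
    refine ⟨⟨L, show transport J w hJ (hs.extHom L) ∈ A by rw [hL']; exact hS'⟩, ?_⟩
    change pomHom Q (transport J w hJ (hs.extHom L)) = pomHom Q S
    rw [hL', pomHom_scalar_mul hQ]
  · rintro ⟨⟨L, hL⟩, rfl⟩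
    refine ⟨⟨_, hL, rfl⟩, Subgroup.mem_centralizer_singleton_iff.mpr ?_⟩
    change pomHom Q _ * _ = _ * pomHom Q _
    rw [← map_mul, ← map_mul, hT]
    congr 1
    change transport J w hJ (hs.extHom L) * _ = _ * transport J w hJ (hs.extHom L)
    rw [← map_mul, ← map_mul, hs.commute_coordT hf.fix]

end CfsgLib.AutPOm
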