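import Cfsg.Agent.AutPOm.Lines

/-!
Hyperbolic pairs, the groups of Siegel transformations with a fixed singular vector, and the
centraliser of such a group.
-/

set_option autoImplicit false
set_option linter.style.haveILetI false

namespace CfsgLib.AutPOm

open QuadraticMap CfsgLib.Forms CfsgLib.Quad

variable {F V : Type*} [Field F] [AddCommGroup V] [Module F V] {Q : QuadraticForm F V}

/-- A non-degenerate form in dimension at least seven. -/
structure Big (Q : QuadraticForm F V) : Prop where
  nd : (polarBilin Q).Nondegenerate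
  dim : 7 ≤ Module.finrank F V

theorem Big.five (hQ : Big Q) : 5 ≤ Module.finrank F V := le_trans (by norm_num) hQ.dim

/-- A hyperbolic pair. -/
structure HPair (Q : QuadraticForm F V) (e f : V) : Prop where
  ee : Q e = 0
  ff : Q f = 0
  ef : polar Q e f = 1

theorem HPair.fe {e f : V} (H : HPair Q e f) : polar Q f e = 1 := by rw [polar_comm, H.ef]

theorem HPair.symm {e f : V} (H : HPair Q e f) : HPair Q f e := ⟨H.ff, H.ee, H.fe⟩

theorem HPair.ne_zero {e f : V} (H : HPair Q e f) : e ≠ 0 := fun h => by
  have := H.ef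
  rw [h, polar_zero_left] at this
  exact zero_ne_one this

/-- Orthogonality to a pair. -/
def InW (Q : QuadraticForm F V) (e f w : V) : Prop := polar Q e w = 0 ∧ polar Q f w = 0

theorem polar_self_zero {e : V} (he : Q e = 0) : polar Q e e = 0 := by rw [polar_self, he, smul_zero]

theorem inW_zero (e f : V) : InW Q e f 0 := ⟨polar_zero_right Q e, polar_zero_right Q f⟩

theorem InW.add {e f a b : V} (ha : InW Q e f a) (hb : InW Q e f b) : InW Q e f (a + b) :=
  ⟨by rw [polar_add_right, ha.1, hb.1, add_zero], by rw [polar_add_right, ha.2, hb.2, add_zero]⟩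

theorem InW.smul {e f a : V} (ha : InW Q e f a) (t : F) : InW Q e f (t • a) :=
  ⟨by rw [polar_smul_right, ha.1, smul_zero], by rw [polar_smul_right, ha.2, smul_zero]⟩

/-- Projection to the orthogonal of a pair. -/
def projW (Q : QuadraticForm F V) (e f x : V) : V := x - polar Q x f • e - polar Q x e • f

theorem inW_projW {e f : V} (H : HPair Q e f) (x : V) : InW Q e f (projW Q e f x) := by
  constructor <;>
  · simp only [projW, polar_sub_right, polar_smul_right, polar_self, H.ee, H.ff, H.ef, H.fe,
      polar_comm (⇑Q) x, smul_eq_mul, mul_one, mul_zero, smul_zero, sub_zero, sub_self]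

theorem decomp {e f : V} (x : V) :
    x = polar Q x f • e + polar Q x e • f + projW Q e f x := by
  simp only [projW]
  abel

theorem InW.not_mem {e f w : V} (H : HPair Q e f) (hw : InW Q e f w) (hw0 : w ≠ 0) :
    w ∉ Submodule.span F {e} := fun h => by
  obtain ⟨t, rfl⟩ := Submodule.mem_span_singleton.mp h
  have := hw.2
  rw [polar_smul_right, H.fe, smul_eq_mul, mul_one] at this
  exact hw0 (by rw [this, zero_smul])

/-- The orthogonal of a pair as a submodule. -/
def wSub (Q : QuadraticForm F V) (e f : V) : Submodule F V := perpS Q (Submodule.span F {e, f})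

theorem mem_wSub {e f w : V} : w ∈ wSub Q e f ↔ InW Q e f w := by
  constructor
  · intro h
    exact ⟨h e (left_mem_pair e f), h f (right_mem_pair e f)⟩
  · intro h a ha
    obtain ⟨s, t, rfl⟩ := Submodule.mem_span_pair.mp ha
    rw [polar_add_left, polar_smul_left, polar_smul_left, h.1, h.2, smul_zero, smul_zero, add_zero]

/-- Siegel transformations with a fixed first vector and second vector in a set. -/
def sgGrp (Q : QuadraticForm F V) (e : V) (S : Submodule F V) : Subgroup (oGroup Q) :=
  Subgroup.closure {g | ∃ b ∈ S, g = siegel Q e b}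

theorem mem_sgGrp {e : V} (he : Q e = 0) {S : Submodule F V} (hS : ∀ b ∈ S, polar Q e b = 0)
    {g : oGroup Q} : g ∈ sgGrp Q e S ↔ ∃ b ∈ S, g = siegel Q e b := by
  constructor
  · intro hg
    induction hg using Subgroup.closure_induction with
    | mem x hx => exact hx
    | one => exact ⟨0, S.zero_mem, (siegel_zero he).symm⟩
    | mul x y _ _ hx hy =>
      obtain ⟨a, ha, rfl⟩ := hx
      obtain ⟨b, hb, rfl⟩ := hy
      exact ⟨a + b, S.add_mem ha hb, siegel_mul he (hS a ha) (hS b hb)⟩
    | inv x _ hx =>
      obtain ⟨a, ha, rfl⟩ := hx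
      exact ⟨-a, S.neg_mem ha, siegel_inv he (hS a ha)⟩
  · exact fun h => Subgroup.subset_closure h

theorem siegel_fix_self {e a : V} (he : Q e = 0) (hea : polar Q e a = 0) :
    (siegel Q e a).1 e = e := by
  rw [siegel_apply he hea, polar_self_zero he, hea]
  simp

theorem siegel_apply_opp {e f a : V} (H : HPair Q e f) (hea : polar Q e a = 0) :
    (siegel Q e a).1 f = f + a - (polar Q f a + Q a) • e := by
  rw [siegel_apply H.ee hea, H.fe, one_smul, mul_one]

theorem siegel_apply_W {e f a b : V} (H : HPair Q e f) (hea : polar Q e a = 0)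
    (hb : InW Q e f b) : (siegel Q e a).1 b = b - polar Q b a • e := by
  rw [siegel_apply H.ee hea, polar_comm (⇑Q) b e, hb.1, zero_smul, add_zero, mul_zero, add_zero]

theorem siegel_param {e f a b : V} (H : HPair Q e f) (hea : polar Q e a = 0)
    (heb : polar Q e b = 0) (h : siegel Q e a = siegel Q e b) : ∃ t : F, a - b = t • e := by
  have h1 : (siegel Q e a).1 f = (siegel Q e b).1 f := by rw [h]
  rw [siegel_apply_opp H hea, siegel_apply_opp H heb, add_sub_assoc, add_sub_assoc,
    add_right_inj] at h1
  refine ⟨(polar Q f a + Q a) - (polar Q f b + Q b), ?_⟩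
  rw [sub_smul, ← sub_eq_zero]
  rw [← sub_eq_zero] at h1
  rw [← h1]
  abel

theorem siegel_param_W {e f a b : V} (H : HPair Q e f) (ha : InW Q e f a) (hb : InW Q e f b)
    (h : siegel Q e a = siegel Q e b) : a = b := by
  obtain ⟨t, ht⟩ := siegel_param H ha.1 hb.1 h
  have h1 : polar Q f (a - b) = polar Q f (t • e) := congrArg (fun v => polar Q f v) ht
  rw [polar_sub_right, ha.2, hb.2, sub_zero, polar_smul_right, H.fe, smul_eq_mul, mul_one] at h1
  rw [← h1, zero_smul, sub_eq_zero] at ht
  exact ht

theorem siegel_proj {e f a : V} (H : HPair Q e f) (hea : polar Q e a = 0) :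
    siegel Q e a = siegel Q e (projW Q e f a) := by
  have h : projW Q e f a = a + (-polar Q a f) • e := by
    rw [projW, polar_comm (⇑Q) a e, hea, zero_smul, sub_zero, neg_smul, sub_eq_add_neg]
  rw [h, siegel_add_smul H.ee hea]

theorem siegel_pow {e a : V} (he : Q e = 0) (hea : polar Q e a = 0) (k : ℕ) :
    siegel Q e a ^ k = siegel Q e ((k : F) • a) := by
  induction k with
  | zero => rw [pow_zero, Nat.cast_zero, zero_smul, siegel_zero he]
  | succ k ih =>
    rw [pow_succ, ih, siegel_mul he (by rw [polar_smul_right, hea, smul_zero]) hea, Nat.cast_succ,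
      add_smul, one_smul]

theorem siegel_pow_char {e a : V} (he : Q e = 0) (hea : polar Q e a = 0) (p : ℕ) [CharP F p] :
    siegel Q e a ^ p = 1 := by
  rw [siegel_pow he hea, CharP.cast_eq_zero, zero_smul, siegel_zero he]

theorem siegel_rad_group {e : V} (he : Q e = 0) {S : Submodule F V}
    (hS : ∀ b ∈ S, polar Q e b = 0) (p : ℕ) [CharP F p] : IsPGroup p (sgGrp Q e S) := by
  rintro ⟨g, hg⟩
  obtain ⟨b, hb, rfl⟩ := (mem_sgGrp he hS).mp hg
  exact ⟨1, Subtype.ext (by rw [pow_one]; exact siegel_pow_char he (hS b hb) p)⟩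

variable [FiniteDimensional F V] (hQ : Big Q)
include hQ

theorem finrank_perp_le {S : Submodule F V} {k : ℕ} (hS : Module.finrank F S ≤ k) :
    Module.finrank F V ≤ Module.finrank F (perpS Q S) + k := by
  have := finrank_perpS hQ.nd S
  omega

theorem finrank_wSub (e f : V) : Module.finrank F V ≤ Module.finrank F (wSub Q e f) + 2 := by
  refine finrank_perp_le hQ ?_
  have h := finrank_range_le_card (R := F) ![e, f]
  rwa [Set.finrank, Matrix.range_cons, Matrix.range_cons, Matrix.range_empty, Set.union_empty,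
    Set.singleton_union, Fintype.card_fin] at h

theorem eq_zero_of_inW_perp {e f w : V} (H : HPair Q e f) (hw : InW Q e f w)
    (h : ∀ b, InW Q e f b → polar Q w b = 0) : w = 0 := by
  refine hQ.nd.1 w fun y => ?_
  rw [polarBilin_apply_apply, decomp (Q := Q) (e := e) (f := f) y, polar_add_right,
    polar_lin_right, polar_comm (⇑Q) w e, hw.1, polar_comm (⇑Q) w f, hw.2, h _ (inW_projW H y)]
  simp

theorem exists_pair_of_singular {e : V} (he0 : e ≠ 0) (he : Q e = 0) : ∃ f, HPair Q e f := by
  obtain ⟨w, -, hw⟩ := exists_perp_one' hQ.nd (U := ⊥) (x := e) (by simpa using he0)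
  refine ⟨w + (-Q w) • e, he, ?_, ?_⟩
  · rw [quad_add, quad_smul, he, polar_smul_right, hw, smul_eq_mul]
    ring
  · rw [polar_add_right, polar_smul_right, polar_self_zero he, polar_comm, hw, smul_zero, add_zero]

theorem exists_frame {L : Submodule F V} (hL : IsLine Q L) {x : V} (hx : x ∈ L) (hx0 : x ≠ 0) :
    ∃ f a, HPair Q x f ∧ InW Q x f a ∧ a ≠ 0 ∧ Q a = 0 ∧ LinearIndependent F ![x, a] ∧
      L = Submodule.span F {x, a} := by
  obtain ⟨v, hli, hLv⟩ := hL.exists_basis hx hx0
  obtain ⟨w, hwv, hwx⟩ := exists_perp_one' hQ.nd (notMem_span_of_pair hli).1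
  have he : Q x = 0 := hL.sing x hx
  have hvL : v ∈ L := hLv ▸ right_mem_pair x v
  have hxv : polar Q x v = 0 := hL.perp hx hvL
  refine ⟨w + (-Q w) • x, v, ⟨he, ?_, ?_⟩, ⟨hxv, ?_⟩, hli.ne_zero 1, hL.sing v hvL, hli, hLv⟩
  · rw [quad_add, quad_smul, he, polar_smul_right, hwx, smul_eq_mul]
    ring
  · rw [polar_add_right, polar_smul_right, polar_self_zero he, polar_comm, hwx, smul_zero, add_zero]
  · rw [polar_add_left, polar_smul_left, hwv v (Submodule.mem_span_singleton_self v), hxv,
      smul_zero, add_zero]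

/-- The centraliser of the Siegel group of a singular vector. -/
theorem centralizer_siegel {e f : V} (H : HPair Q e f) (g : oGroup Q)
    (hg : ∀ b, InW Q e f b → Commute g (siegel Q e b)) :
    ∃ μ : F, μ * μ = 1 ∧ ∃ c, InW Q e f c ∧ ∀ x, g.1 x = μ • (siegel Q e c).1 x := by
  have hW : 3 ≤ Module.finrank F (wSub Q e f) := by
    have := finrank_wSub hQ e f
    have := hQ.dim
    omega
  obtain ⟨b₁, hb₁, hb₁0⟩ := exists_aniso_of_finrank hQ.nd (K := wSub Q e f) (by
    have := finrank_wSub hQ e f
    have := hQ.dim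
    omega)
  have hb₁W : InW Q e f b₁ := mem_wSub.mp hb₁
  have hb₁ne : b₁ ≠ 0 := fun h => hb₁0 (by rw [h, QuadraticMap.map_zero])
  -- the image of `e`
  have hfix : ∀ b, InW Q e f b → (siegel Q e b).1 (g.1 e) = g.1 e := fun b hb => by
    have h := congrArg (fun t : oGroup Q => t.1 e) (hg b hb).eq
    change g.1 ((siegel Q e b).1 e) = (siegel Q e b).1 (g.1 e) at h
    rw [siegel_fix_self H.ee hb.1] at h
    exact h.symm
  set x := g.1 e with hxdef
  have hxe : polar Q x e = 0 := by
    have h := hfix b₁ hb₁W
    rw [siegel_apply H.ee hb₁W.1, add_sub_assoc, add_eq_left, sub_eq_zero] at h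
    by_contra hne
    refine hb₁W.not_mem H hb₁ne (Submodule.mem_span_singleton.mpr
      ⟨(polar Q x e)⁻¹ * (polar Q x b₁ + Q b₁ * polar Q x e), ?_⟩)
    rw [← smul_smul, ← h, smul_smul, inv_mul_cancel₀ hne, one_smul]
  have hxb : ∀ b, InW Q e f b → polar Q x b = 0 := fun b hb => by
    have h := hfix b hb
    rw [siegel_apply H.ee hb.1, hxe, zero_smul, add_zero, mul_zero, add_zero, sub_eq_self,
      smul_eq_zero] at h
    exact h.resolve_right H.ne_zero
  obtain ⟨l, hl⟩ : ∃ l : F, g.1 e = l • e := by
    refine ⟨polar Q x f, ?_⟩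
    have hp : projW Q e f x = 0 := eq_zero_of_inW_perp hQ H (inW_projW H x) fun b hb => by
      rw [projW, polar_sub_left, polar_sub_left, polar_smul_left, polar_smul_left, hxb b hb,
        hb.1, hb.2, smul_zero, smul_zero, sub_zero, sub_zero]
    rw [← hxdef]
    conv_lhs => rw [decomp (Q := Q) (e := e) (f := f) x, hp, hxe]
    simp
  -- the image of `W`
  have himg : ∀ b, InW Q e f b → ∃ t : F, l • g.1 b = b + t • e := fun b hb => by
    have h : g * siegel Q e b * g⁻¹ = siegel Q e b := by
      rw [(hg b hb).eq, mul_inv_cancel_right]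
    have hgb : polar Q e (l • g.1 b) = 0 := by
      rw [polar_smul_right, ← polar_smul_left, ← hl, polar_oGroup, hb.1]
    rw [siegel_conj g H.ee hb.1, hl] at h
    rcases eq_or_ne l 0 with hl0 | hl0
    · exact absurd (g.1.injective (by rw [hl, hl0, zero_smul, map_zero])) H.ne_zero
    have hgb' : polar Q e (g.1 b) = 0 := by
      rw [polar_smul_right, smul_eq_mul, mul_eq_zero] at hgb
      exact hgb.resolve_left hl0
    rw [siegel_smul H.ee hgb'] at h
    obtain ⟨t, ht⟩ := siegel_param H hgb hb.1 h
    exact ⟨t, by rw [← ht, add_sub_cancel]⟩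
  have hl2 : l * l = 1 := by
    obtain ⟨t, ht⟩ := himg b₁ hb₁W
    have h := congrArg Q ht
    rw [quad_smul, g.2, quad_add, quad_smul _ t, H.ee, polar_smul_right, polar_comm (⇑Q) b₁ e,
      hb₁W.1, mul_zero, smul_zero, add_zero, add_zero] at h
    exact mul_right_cancel₀ hb₁0 (h.trans (one_mul _).symm)
  have hl0 : l ≠ 0 := fun h => by rw [h, zero_mul] at hl2; exact zero_ne_one hl2
  -- the image of `f`
  obtain ⟨y, hy⟩ : ∃ y, y = l • g.1 f := ⟨_, rfl⟩
  have hQy : Q y = 0 := by rw [hy, quad_smul, g.2, H.ff, mul_zero]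
  have hye : polar Q y e = 1 := by
    rw [hy, polar_smul_left, ← polar_smul_right, ← hl, polar_oGroup, H.fe]
  refine ⟨l, hl2, projW Q e f y, inW_projW H y, fun v => ?_⟩
  set c := projW Q e f y with hc
  have hcW : InW Q e f c := inW_projW H y
  obtain ⟨β, hβ⟩ : ∃ β, β = polar Q y f := ⟨_, rfl⟩
  have hyd : y = β • e + f + c := by
    conv_lhs => rw [decomp (Q := Q) (e := e) (f := f) y, hye, one_smul, ← hβ]
  have hyf : β = -Q c := by
    have h := hQy
    rw [hyd, quad_add, quad_add, quad_smul, H.ee, H.ff, polar_smul_left, H.ef, polar_add_left,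
      polar_smul_left, hcW.1, hcW.2, smul_zero, mul_zero, zero_add, zero_add, smul_eq_mul,
      mul_one, add_zero] at h
    linear_combination h
  have hf' : l • g.1 f = (siegel Q e c).1 f := by
    rw [← hy, siegel_apply_opp H hcW.1, hcW.2, zero_add, hyd, hyf, neg_smul]
    abel
  have he' : l • g.1 e = (siegel Q e c).1 e := by
    rw [siegel_fix_self H.ee hcW.1, hl, smul_smul, hl2, one_smul]
  have hb' : ∀ b, InW Q e f b → l • g.1 b = (siegel Q e c).1 b := fun b hb => by
    obtain ⟨t, ht⟩ := himg b hb
    rw [siegel_apply_W H hcW.1 hb, ht]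
    have h : polar Q y (l • g.1 b) = 0 := by
      rw [hy, polar_smul_left, polar_smul_right, polar_oGroup, hb.2, smul_zero, smul_zero]
    rw [ht, polar_add_right, polar_smul_right, smul_eq_mul, hye, hyd, polar_add_left, polar_add_left, polar_smul_left, hb.1,
      hb.2, smul_zero, zero_add, zero_add, mul_one] at h
    rw [show t = -polar Q b c by rw [polar_comm]; linear_combination h, neg_smul, sub_eq_add_neg]
  have hall : l • g.1 v = (siegel Q e c).1 v := by
    conv_lhs => rw [decomp (Q := Q) (e := e) (f := f) v]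
    conv_rhs => rw [decomp (Q := Q) (e := e) (f := f) v]
    rw [map_add, map_add, map_add, map_add, map_smul, map_smul, map_smul, map_smul, smul_add,
      smul_add, smul_comm l, smul_comm l, he', hf', hb' _ (inW_projW H v)]
  rw [← hall, smul_smul, hl2, one_smul]

/-- Inside the centraliser, commuting with the Siegel group of a second vector pins the parameter. -/
theorem centralizer_second {e f a c : V} (H : HPair Q e f) (ha : InW Q e f a) (hQa : Q a = 0)
    (ha0 : a ≠ 0) (hc : InW Q e f c)
    (hcomm : ∀ b, InW Q e f b → polar Q a b = 0 →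
      Commute (siegel Q a b) (siegel Q e c)) : ∃ t : F, c = t • a := by
  have hS : ∀ b, InW Q e f b → polar Q a b = 0 → (siegel Q a b).1 c = c := fun b hb hab => by
    have h : siegel Q a b * siegel Q e c * (siegel Q a b)⁻¹ = siegel Q e c := by
      rw [(hcomm b hb hab).eq, mul_inv_cancel_right]
    have hfe : (siegel Q a b).1 e = e := by
      rw [siegel_apply hQa hab, ha.1, hb.1]
      simp
    have hfc : InW Q e f ((siegel Q a b).1 c) := by
      rw [siegel_apply hQa hab]
      constructor <;>
      · simp only [polar_sub_right, polar_add_right, polar_smul_right, hc.1, hc.2, ha.1, ha.2,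
          hb.1, hb.2, smul_zero, add_zero, sub_zero]
    rw [siegel_conj _ H.ee hc.1, hfe] at h
    exact siegel_param_W H hfc hc h
  set S := Submodule.span F {e, f} ⊔ Submodule.span F {a}
  have hmem : ∀ b, b ∈ perpS Q S → InW Q e f b ∧ polar Q a b = 0 := fun b hb =>
    ⟨⟨hb e (Submodule.mem_sup_left (left_mem_pair e f)),
      hb f (Submodule.mem_sup_left (right_mem_pair e f))⟩,
      hb a (Submodule.mem_sup_right (Submodule.mem_span_singleton_self a))⟩
  have hdim : 2 ≤ Module.finrank F (perpS Q S) := by
    have h1 : Module.finrank F (Submodule.span F {e, f}) ≤ 2 := by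
      have h := finrank_range_le_card (R := F) ![e, f]
      rwa [Set.finrank, Matrix.range_cons, Matrix.range_cons, Matrix.range_empty, Set.union_empty,
        Set.singleton_union, Fintype.card_fin] at h
    have h2 : Module.finrank F (Submodule.span F {a}) ≤ 1 :=
      (finrank_span_le_card ({a} : Set V)).trans (by simp)
    have h3 : Module.finrank F S ≤ Module.finrank F (Submodule.span F {e, f}) +
        Module.finrank F (Submodule.span F {a}) :=
      Submodule.finrank_add_le_finrank_add_finrank _ _
    have h4 : Module.finrank F V ≤ Module.finrank F (perpS Q S) + 3 :=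
      finrank_perp_le hQ (show Module.finrank F S ≤ 3 by omega)
    have := hQ.dim
    omega
  have hca : polar Q c a = 0 := by
    obtain ⟨b, hb, hba⟩ : ∃ b ∈ perpS Q S, b ∉ Submodule.span F {a} := by
      by_contra h
      push Not at h
      have h1 := Submodule.finrank_mono (show perpS Q S ≤ Submodule.span F {a} from h)
      have h2 : Module.finrank F (Submodule.span F {a}) ≤ 1 :=
        (finrank_span_le_card ({a} : Set V)).trans (by simp)
      omega
    obtain ⟨hbW, hab⟩ := hmem b hb
    have h := hS b hbW hab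
    rw [siegel_apply hQa hab, add_sub_assoc, add_eq_left, sub_eq_zero] at h
    by_contra hne
    refine hba (Submodule.mem_span_singleton.mpr
      ⟨(polar Q c a)⁻¹ * (polar Q c b + Q b * polar Q c a), ?_⟩)
    rw [← smul_smul, ← h, smul_smul, inv_mul_cancel₀ hne, one_smul]
  have hcS : c ∈ perpS Q (perpS Q S) := fun b hb => by
    obtain ⟨hbW, hab⟩ := hmem b hb
    have h := hS b hbW hab
    rw [siegel_apply hQa hab, hca, zero_smul, add_zero, mul_zero, add_zero, sub_eq_self,
      smul_eq_zero] at h
    rw [polar_comm]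
    exact h.resolve_right ha0
  rw [perpS_perpS hQ.nd] at hcS
  obtain ⟨w, hw, z, hz, rfl⟩ := Submodule.mem_sup.mp hcS
  obtain ⟨t, rfl⟩ := Submodule.mem_span_singleton.mp hz
  obtain ⟨r, s, rfl⟩ := Submodule.mem_span_pair.mp hw
  refine ⟨t, ?_⟩
  have h1 := hc.1
  have h2 := hc.2
  simp only [polar_add_right, polar_smul_right, polar_self_zero H.ee, polar_self_zero H.ff, H.ef,
    H.fe, ha.1, ha.2, smul_eq_mul, mul_zero, mul_one, add_zero, zero_add] at h1 h2
  rw [h1, h2]
  simp

end CfsgLib.AutPOm
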