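import Cfsg.Agent.AutPOm.Witness
import Mathlib.Algebra.Polynomial.Roots
import Mathlib.RingTheory.IntegralDomain

/-!
The Frobenius semisimilarity of the minus form and its order.
-/

set_option autoImplicit false
set_option linter.style.haveILetI false

namespace CfsgLib.AutPOm

open QuadraticMap CfsgLib.Forms CfsgLib.Quad

variable {F : Type*} [Field F] [Finite F]

theorem charP_of_card {p f : ℕ} [Fact p.Prime] (hf : 1 ≤ f) (hF : Nat.card F = p ^ f) :
    CharP F p := by
  haveI := Fintype.ofFinite F
  obtain ⟨c, hc⟩ := CharP.exists F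
  haveI := hc
  obtain ⟨⟨k, hk⟩, hcp, hcard⟩ := FiniteField.card F c
  have hpow : p ∣ c ^ k := by
    have : c ^ k = p ^ f := hcard.symm.trans (Nat.card_eq_fintype_card.symm.trans hF)
    rw [this]; exact dvd_pow_self p (by omega)
  rwa [(Nat.prime_dvd_prime_iff_eq (Fact.out) hcp).mp ((Fact.out : p.Prime).dvd_of_dvd_pow hpow)]

/-- The Frobenius automorphism. -/
theorem exists_frob {p f : ℕ} [Fact p.Prime] (hf : 1 ≤ f) (hF : Nat.card F = p ^ f) :
    ∃ σ : RingAut F, orderOf σ = f ∧ ∀ (k : ℕ) (x : F), (σ ^ k) x = x ^ p ^ k := by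
  haveI := Fintype.ofFinite F
  haveI := charP_of_card hf hF
  haveI : ExpChar F p := ExpChar.prime Fact.out
  let σ : RingAut F := frobeniusEquiv F p
  have hσ : ∀ (k : ℕ) (x : F), (σ ^ k) x = x ^ p ^ k := by
    intro k
    induction k with
    | zero => intro x; rw [pow_zero, pow_zero, pow_one]; rfl
    | succ k ih =>
      intro x
      rw [pow_succ']
      change σ ((σ ^ k) x) = _
      rw [ih, pow_succ, pow_mul]
      exact frobeniusEquiv_apply F p _
  refine ⟨σ, orderOf_eq_iff (by omega) |>.mpr ⟨?_, fun k hk hk0 h => ?_⟩, hσ⟩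
  · refine RingEquiv.ext fun x => ?_
    rw [hσ, ← hF, Nat.card_eq_fintype_card, FiniteField.pow_card]
    rfl
  · obtain ⟨g, hg⟩ := IsCyclic.exists_ofOrder_eq_natCard (α := Fˣ)
    have h1 : (g : F) ^ p ^ k = (g : F) := by rw [← hσ, h]; rfl
    have h2 : g ^ (p ^ k - 1) = 1 := by
      have hpos : 1 ≤ p ^ k := Nat.one_le_pow _ _ (Fact.out : p.Prime).pos
      refine Units.ext ?_
      rw [Units.val_pow_eq_pow_val, Units.val_one]
      refine mul_right_cancel₀ g.ne_zero ?_
      rw [← pow_succ, Nat.sub_add_cancel hpos, h1, one_mul]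
    have h3 := Nat.le_of_dvd ?_ (orderOf_dvd_of_pow_eq_one h2)
    · rw [hg, Nat.card_units, hF] at h3
      have := Nat.pow_lt_pow_right (Fact.out : p.Prime).one_lt hk
      have := Nat.one_le_pow k p (Fact.out : p.Prime).pos
      omega
    · have := Nat.one_lt_pow hk0.ne' (Fact.out : p.Prime).one_lt
      omega

/-- The trace of an element outside the image of `y ↦ y² + y` is non-zero. -/
theorem trace_ne_zero [CharP F 2] {f : ℕ} (hf : 1 ≤ f) (hF : Nat.card F = 2 ^ f) {d : F}
    (hd : ∀ y : F, y * y + y ≠ d) : ∑ i ∈ Finset.range f, d ^ 2 ^ i ≠ 0 := by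
  classical
  haveI := Fintype.ofFinite F
  obtain ⟨g, rfl⟩ : ∃ g, f = g + 1 := ⟨f - 1, by omega⟩
  intro h0
  have h2 : (2 : F) = 0 := two_eq_zero_of' F
  set P : Polynomial F := ∑ i ∈ Finset.range (g + 1), Polynomial.X ^ 2 ^ i with hP
  have hdeg : P.natDegree ≤ 2 ^ g := by
    refine Polynomial.natDegree_sum_le_of_forall_le _ _ fun i hi => ?_
    rw [Polynomial.natDegree_X_pow]
    exact Nat.pow_le_pow_right two_pos (Nat.lt_succ_iff.mp (Finset.mem_range.mp hi))
  have hP0 : P ≠ 0 := by
    intro h
    have h1 := congrArg (fun q => Polynomial.coeff q 1) h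
    simp only [hP, Polynomial.finsetSum_coeff, Polynomial.coeff_X_pow, Polynomial.coeff_zero] at h1
    rw [Finset.sum_eq_single 0 (fun i _ hi => if_neg (Nat.one_lt_pow hi one_lt_two).ne)
      (fun h => absurd (Finset.mem_range.mpr (Nat.succ_pos g)) h)] at h1
    simp at h1
  set R := Finset.univ.image fun y : F => y * y + y with hR
  have hroot : ∀ x ∈ insert d R, x ∈ P.roots.toFinset := by
    intro x hx
    rw [Multiset.mem_toFinset, Polynomial.mem_roots hP0, Polynomial.IsRoot.def, hP,
      Polynomial.eval_finsetSum]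
    simp only [Polynomial.eval_pow, Polynomial.eval_X]
    rcases Finset.mem_insert.mp hx with rfl | hx
    · exact h0
    obtain ⟨y, -, rfl⟩ := Finset.mem_image.mp hx
    have htel : ∀ n, ∑ i ∈ Finset.range n, (y * y + y) ^ 2 ^ i = y ^ 2 ^ n + y := by
      intro n
      induction n with
      | zero => rw [Finset.sum_range_zero, pow_zero, pow_one]; linear_combination (-y) * h2
      | succ n ih =>
        rw [Finset.sum_range_succ, ih, add_pow_char_pow, ← pow_two, ← pow_mul, pow_succ' 2 n]
        linear_combination (y ^ 2 ^ n) * h2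
    rw [htel, ← hF, Nat.card_eq_fintype_card, FiniteField.pow_card]
    linear_combination y * h2
  have hfib : ∀ x ∈ R, (Finset.univ.filter fun y : F => y * y + y = x).card ≤ 2 := by
    intro x hx
    obtain ⟨y, -, rfl⟩ := Finset.mem_image.mp hx
    refine le_trans (Finset.card_le_card (t := ({y, y + 1} : Finset F)) fun z hz => ?_) Finset.card_le_two
    have hz' := (Finset.mem_filter.mp hz).2
    rcases mul_eq_zero.mp (show (z - y) * (z + y + 1) = 0 by linear_combination hz') with h | h
    · simp [sub_eq_zero.mp h]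
    · simp only [Finset.mem_insert, Finset.mem_singleton]
      right
      linear_combination h - (y + 1) * h2
  have hcardR : 2 ^ g ≤ R.card := by
    have h := Finset.card_le_mul_card_image (Finset.univ : Finset F) 2 hfib
    rw [Finset.card_univ, ← Nat.card_eq_fintype_card, hF, pow_succ] at h
    change 2 ^ g * 2 ≤ 2 * R.card at h
    omega
  have hdR : d ∉ R := fun h => by
    obtain ⟨y, -, hy⟩ := Finset.mem_image.mp h
    exact hd y hy
  have h1 := Finset.card_le_card (fun x hx => hroot x hx : insert d R ⊆ P.roots.toFinset)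
  rw [Finset.card_insert_of_notMem hdR] at h1
  have h3 := (Multiset.toFinset_card_le P.roots).trans (Polynomial.card_roots' P)
  omega
where
  two_eq_zero_of' (F : Type _) [Field F] [CharP F 2] : (2 : F) = 0 := CharTwo.two_eq_zero

variable {a b : F} (hab : ∀ z₁ z₂ : F, z₁ ^ 2 + a * z₁ * z₂ + b * z₂ ^ 2 = 0 → z₁ = 0 ∧ z₂ = 0)
include hab

/-- The fixed vector for conjugation of the binary part. -/
def conjVec (m : ℕ) (a : F) : (Fin m ⊕ Fin m) ⊕ Fin 2 → F := Sum.elim 0 ![-a, 2]

omit [Finite F] hab in
theorem quad_conjVec (m : ℕ) : minusQ m a b (conjVec m a) = 4 * b - a ^ 2 := by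
  simp [minusQ_coe, Cfsg.quadFormMinus, conjVec]
  ring

theorem refl_conjVec (m : ℕ) (v : (Fin m ⊕ Fin m) ⊕ Fin 2 → F) :
    (refl (minusQ m a b) (conjVec m a)).1 v =
      Sum.elim (fun i => v (.inl i)) ![v (.inr 0) + a * v (.inr 1), -v (.inr 1)] := by
  have hd := disc_ne_zero hab
  rw [refl_apply, quad_conjVec, polar_minusQ]
  have hp : polar (plusQ m) (v ∘ Sum.inl) (conjVec m a ∘ Sum.inl) = 0 := by
    rw [show conjVec m a ∘ Sum.inl = 0 from rfl, polar_zero_right]
  rw [hp]
  funext i
  rcases i with i | i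
  · simp [conjVec]
  · fin_cases i <;> simp [conjVec] <;> field_simp <;> ring

/-- The Frobenius semisimilarity: of full order on the field, its power conjugates the binary part. -/
theorem exists_frob_semi {p f : ℕ} [Fact p.Prime] (hf : 1 ≤ f) (hF : Nat.card F = p ^ f) (m : ℕ) :
    ∃ T : Semi (minusQ m a b), orderOf T.σ = f ∧
      T ^ f = isoHom _ (refl (minusQ m a b) (conjVec m a)) ∧
      ∃ (σ : RingAut F) (s t : F) (h1 : 2 * s + a * t = σ a)
        (h2 : s ^ 2 + a * s * t + b * t ^ 2 = σ b), orderOf σ = f ∧ (∀ x, σ x = x ^ p) ∧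
          T = minusSemi hab m σ 1 1 0 s t (by simp) h1 h2 := by
  have hcp := charP_of_card hf hF
  haveI := hcp
  obtain ⟨σ, hord, hσk⟩ := exists_frob hf hF
  have hσ : ∀ x, σ x = x ^ p := fun x => by simpa using hσk 1 x
  -- the parameters
  obtain ⟨s, t, h1, h2, hend⟩ : ∃ s t : F, 2 * s + a * t = σ a ∧
      s ^ 2 + a * s * t + b * t ^ 2 = σ b ∧
      ∀ (α β : ℕ → F), α 0 = 1 → β 0 = 0 → (∀ k, α (k + 1) = t * σ (α k)) →
        (∀ k, β (k + 1) = σ (β k) + s * σ (α k)) → 2 * β f + a * α f = a →
        β f ^ 2 + a * β f * α f + b * α f ^ 2 = b → α f = -1 ∧ β f = a := by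
    by_cases h20 : (2 : F) = 0
    · haveI : CharP F 2 := CharTwo.of_one_ne_zero_of_two_eq_zero one_ne_zero h20
      obtain rfl : p = 2 := CharP.eq F hcp inferInstance
      have ha := a_ne_zero h20 hab
      refine ⟨b, a, by rw [hσ]; linear_combination b * h20, ?_, ?_⟩
      · rw [hσ]; linear_combination (a ^ 2 * b) * h20
      intro α β hα0 hβ0 hα hβ hf1 hf2
      have hα' : ∀ k, α k * a = a ^ 2 ^ k := by
        intro k
        induction k with
        | zero => rw [hα0, one_mul, pow_zero, pow_one]
        | succ k ih =>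
          refine mul_right_cancel₀ ha ?_
          rw [hα, hσ, pow_succ 2 k, pow_mul, ← ih]
          ring
      have hβ' : ∀ k, β k = a ^ 2 ^ k * ∑ i ∈ Finset.range k, (b / a ^ 2) ^ 2 ^ i := by
        intro k
        induction k with
        | zero => rw [hβ0, Finset.sum_range_zero, mul_zero]
        | succ k ih =>
          have h3 : (∑ i ∈ Finset.range k, (b / a ^ 2) ^ 2 ^ i) ^ 2 + b / a ^ 2 =
              ∑ i ∈ Finset.range (k + 1), (b / a ^ 2) ^ 2 ^ i := by
            rw [Finset.sum_range_succ', pow_zero, pow_one, sum_pow_char]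
            congr 1
            exact Finset.sum_congr rfl fun i _ => by rw [← pow_mul, ← pow_succ]
          rw [hβ, ← h3, hσ, hσ, ih, pow_succ 2 k, pow_mul, ← hα' k]
          field_simp
      have haf : a ^ 2 ^ f = a := by
        haveI := Fintype.ofFinite F
        rw [← hF, Nat.card_eq_fintype_card, FiniteField.pow_card]
      have hαf : α f = 1 := mul_right_cancel₀ ha (by rw [hα', haf, one_mul])
      refine ⟨by rw [hαf, CharTwo.neg_eq], ?_⟩
      rw [hαf] at hf2
      have hz : β f * (β f + a) = 0 := by linear_combination hf2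
      rcases mul_eq_zero.mp hz with h | h
      · exfalso
        rw [hβ', haf] at h
        refine trace_ne_zero hf hF (fun y hy => ?_) ((mul_eq_zero.mp h).resolve_left ha)
        refine one_ne_zero (hab (a * y) 1 ?_).2
        field_simp at hy
        linear_combination hy + b * h20
      · linear_combination h - a * h20
    · have hp2 : p ≠ 2 := by
        rintro rfl
        exact h20 (by exact_mod_cast CharP.cast_eq_zero F 2)
      have hodd : Odd p := (Fact.out : p.Prime).odd_of_ne_two hp2
      set D := a ^ 2 - 4 * b with hD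
      have hDne : D ≠ 0 := fun h => disc_nonsquare h20 hab (show IsSquare D from h ▸ ⟨0, by ring⟩)
      set e := (p - 1) / 2 with he
      have hpe : p = 2 * e + 1 := by obtain ⟨r, hr⟩ := hodd; omega
      refine ⟨(σ a - a * D ^ e) / 2, D ^ e, by field_simp; ring, ?_, ?_⟩
      · have h4 : σ D = σ a ^ 2 - 4 * σ b := by rw [hD, map_sub, map_pow, map_mul, map_ofNat]
        have h5 : D * (D ^ e * D ^ e) = σ D := by
          rw [hσ, hpe]; ring
        field_simp
        linear_combination -h4 - h5 + (D ^ e * D ^ e) * hD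
      intro α β hα0 _ hα _ hf1 _
      have hα' : ∀ k, α k = D ^ ((p ^ k - 1) / 2) := by
        intro k
        induction k with
        | zero => simp [hα0]
        | succ k ih =>
          rw [hα, ih, hσ, ← pow_mul, ← pow_add]
          congr 1
          obtain ⟨j, hj⟩ : Odd (p ^ k) := hodd.pow
          rw [pow_succ, hj, hpe, show (2 * j + 1) * (2 * e + 1) = 2 * ((2 * j + 1) * e + j) + 1 by ring,
            Nat.add_sub_cancel, Nat.add_sub_cancel, Nat.mul_div_cancel_left _ two_pos,
            Nat.mul_div_cancel_left _ two_pos]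
          ring
      have hαf : α f = -1 := by
        haveI := Fintype.ofFinite F
        have hc : Fintype.card F = p ^ f := Nat.card_eq_fintype_card.symm.trans hF
        have hchar : ringChar F ≠ 2 := by rw [ringChar.eq F p]; exact hp2
        rw [hα', show (p ^ f - 1) / 2 = Fintype.card F / 2 by
          rw [hc]; obtain ⟨r, hr⟩ : Odd (p ^ f) := hodd.pow; omega]
        exact (FiniteField.pow_dichotomy hchar hDne).resolve_left fun h =>
          disc_nonsquare h20 hab ((FiniteField.isSquare_iff hchar hDne).mpr h)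
      refine ⟨hαf, ?_⟩
      rw [hαf] at hf1
      exact mul_left_cancel₀ h20 (by linear_combination hf1)
  set T := minusSemi hab m σ 1 1 0 s t (by simp) h1 h2 with hT
  have hTσ : ∀ k, (T ^ k).σ = σ ^ k := fun k => map_pow (sigmaHom _) T k
  refine ⟨T, hord, ?_, σ, s, t, h1, h2, hord, hσ, rfl⟩
  -- the coefficients of the powers
  let αβ : ℕ → F × F := fun k =>
    Nat.rec ((1 : F), (0 : F)) (fun _ x => (t * σ x.1, σ x.2 + s * σ x.1)) k
  set α : ℕ → F := fun k => (αβ k).1
  set β : ℕ → F := fun k => (αβ k).2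
  have hα : ∀ k, α (k + 1) = t * σ (α k) := fun k => rfl
  have hβ : ∀ k, β (k + 1) = σ (β k) + s * σ (α k) := fun k => rfl
  have hiter : ∀ (k : ℕ) (v : (Fin m ⊕ Fin m) ⊕ Fin 2 → F), (T ^ k).T v =
      Sum.elim (fun i => (σ ^ k) (v (.inl i)))
        ![(σ ^ k) (v (.inr 0)) + β k * (σ ^ k) (v (.inr 1)), α k * (σ ^ k) (v (.inr 1))] ∧
      2 * β k + a * α k = (σ ^ k) a ∧
      β k ^ 2 + a * β k * α k + b * α k ^ 2 = (σ ^ k) b := by
    intro k
    induction k with
    | zero =>
      intro v
      refine ⟨?_, by simp [α, β, αβ], by simp [α, β, αβ]⟩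
      rw [pow_zero, pow_zero]
      funext i
      rcases i with i | i
      · rfl
      · fin_cases i <;> simp [α, β, αβ] <;> rfl
    | succ k ih =>
      intro v
      obtain ⟨hv, g1, g2⟩ := ih v
      have hs : ∀ x, (σ ^ (k + 1)) x = σ ((σ ^ k) x) := fun x => by rw [pow_succ']; rfl
      refine ⟨?_, ?_, ?_⟩
      · rw [Semi.pow_succ_T, hv, hT, minusSemi_T]
        funext i
        rcases i with (i | i) | i
        · simp [minusFun, hs]
        · simp [minusFun, hs]
        · fin_cases i <;> simp [minusFun, hs, hα, hβ] <;> ring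
      · rw [hs, ← g1, map_add, map_mul, map_mul, map_ofNat, hα, hβ]
        linear_combination (σ (α k)) * h1
      · rw [hs, ← g2, map_add, map_add, map_mul, map_mul, map_mul, map_pow, map_pow, hα, hβ]
        linear_combination (σ (β k) * σ (α k)) * h1 + σ (α k) ^ 2 * h2
  have hσf : σ ^ f = 1 := by rw [← hord, pow_orderOf_eq_one]
  obtain ⟨-, g1, g2⟩ := hiter f 0
  rw [hσf] at g1 g2
  obtain ⟨hαf, hβf⟩ := hend α β rfl rfl hα hβ g1 g2
  have hc : ∀ k, ((T ^ k).c : F) = 1 := fun k => by
    induction k with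
    | zero => rfl
    | succ k ih =>
      rw [pow_succ', Semi.mul_c, ih, map_one, mul_one]
      rfl
  refine Semi.ext' ((hTσ f).trans hσf) (fun v => ?_) (Units.ext (hc f))
  rw [(hiter f v).1, hσf, hαf, hβf]
  change _ = (refl (minusQ m a b) (conjVec m a)).1 v
  rw [refl_conjVec hab]
  funext i
  rcases i with i | i
  · rfl
  · fin_cases i <;> simp

end CfsgLib.AutPOm
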