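import Cfsg.Agent.AutPOm.Frame
import Mathlib.Tactic.FinCases

/-!
The incidence geometry of totally singular lines: recognising meeting lines from adjacency.
-/

set_option autoImplicit false
set_option linter.style.haveILetI false

namespace CfsgLib.AutPOm

open QuadraticMap CfsgLib.Forms CfsgLib.Quad

variable {F V : Type*} [Field F] [AddCommGroup V] [Module F V] {Q : QuadraticForm F V}

/-- The totally singular lines. -/
abbrev Ln (Q : QuadraticForm F V) : Type _ := {L : Submodule F V // IsLine Q L}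

/-- Lines with a common point. -/
def Meet (L M : Ln Q) : Prop := ∃ p ∈ L.1, p ∈ M.1 ∧ p ≠ 0

/-- Orthogonal lines. -/
def Perp (L M : Ln Q) : Prop := ∀ x ∈ L.1, ∀ y ∈ M.1, polar Q x y = 0

/-- Different lines meeting in a totally singular plane. -/
def Adj (L M : Ln Q) : Prop := L ≠ M ∧ Meet L M ∧ Perp L M

/-- The two lines have two non-adjacent common neighbours with exactly two further common ones. -/
def Grid (L M : Ln Q) : Prop :=
  ∃ N N' : Ln Q, Adj N L ∧ Adj N M ∧ Adj N' L ∧ Adj N' M ∧ N ≠ N' ∧ ¬ Adj N N' ∧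
    ∃ K₁ K₂ : Ln Q, K₁ ≠ K₂ ∧ ∀ K : Ln Q,
      (Adj K L ∧ Adj K M ∧ Adj K N ∧ Adj K N') ↔ (K = K₁ ∨ K = K₂)

/-- In dimension eight the form must not be of maximal Witt index. -/
def Shape (Q : QuadraticForm F V) : Prop :=
  Module.finrank F V ≠ 8 ∨
    ∀ T : Submodule F V, (∀ x ∈ T, Q x = 0) → Module.finrank F T < 4

theorem mem_pair_of {p x : V} {a b : F} : a • p + b • x ∈ Submodule.span F {p, x} :=
  Submodule.mem_span_pair.mpr ⟨a, b, rfl⟩

theorem Meet.symm {L M : Ln Q} (h : Meet L M) : Meet M L := by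
  obtain ⟨p, h1, h2, h3⟩ := h
  exact ⟨p, h2, h1, h3⟩

theorem Perp.symm {L M : Ln Q} (h : Perp L M) : Perp M L :=
  fun x hx y hy => by rw [polar_comm]; exact h y hy x hx

theorem Adj.symm {L M : Ln Q} (h : Adj L M) : Adj M L := ⟨h.1.symm, h.2.1.symm, h.2.2.symm⟩

theorem mem_of_smul {K : Submodule F V} {a : F} {x : V} (ha : a ≠ 0) (h : a • x ∈ K) : x ∈ K := by
  have := K.smul_mem a⁻¹ h
  rwa [smul_smul, inv_mul_cancel₀ ha, one_smul] at this

theorem mem_span_singleton_pair {p x x' z : V} (hz : z ∈ Submodule.span F {p, x})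
    (hp : polar Q p x' = 0) (hx : polar Q x x' ≠ 0) (hzx : polar Q z x' = 0) :
    z ∈ Submodule.span F {p} := by
  obtain ⟨a, b, rfl⟩ := Submodule.mem_span_pair.mp hz
  rw [polar_add_left, polar_smul_left, polar_smul_left, hp, smul_zero, zero_add, smul_eq_mul,
    mul_eq_zero] at hzx
  rw [hzx.resolve_right hx, zero_smul, add_zero]
  exact Submodule.smul_mem _ a (Submodule.mem_span_singleton_self p)

variable [FiniteDimensional F V]

/-- A line meeting two non-orthogonal meeting lines passes through their common point. -/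
theorem star_mem {L M N : Ln Q} (hLM : ¬ Perp L M) {p : V} (hpL : p ∈ L.1) (hpM : p ∈ M.1)
    (hp0 : p ≠ 0) (h1 : Meet N L) (h2 : Meet N M) : p ∈ N.1 := by
  by_contra hpN
  obtain ⟨x, hxN, hxL, hx0⟩ := h1
  obtain ⟨y, hyN, hyM, hy0⟩ := h2
  have hx : x ∉ Submodule.span F {p} := fun h => by
    obtain ⟨t, rfl⟩ := Submodule.mem_span_singleton.mp h
    exact hpN (mem_of_smul (fun e => hx0 (by rw [e, zero_smul])) hxN)
  have hy : y ∉ Submodule.span F {p} := fun h => by
    obtain ⟨t, rfl⟩ := Submodule.mem_span_singleton.mp h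
    exact hpN (mem_of_smul (fun e => hy0 (by rw [e, zero_smul])) hyN)
  have hL : Submodule.span F {p, x} = L.1 := (isLine_span (linearIndependent_pair_of hp0 hx)
    (L.2.sing p hpL) (L.2.sing x hxL) (L.2.perp hpL hxL)).eq_of_le L.2
    (Submodule.span_le.mpr (Set.insert_subset hpL (Set.singleton_subset_iff.mpr hxL)))
  have hM : Submodule.span F {p, y} = M.1 := (isLine_span (linearIndependent_pair_of hp0 hy)
    (M.2.sing p hpM) (M.2.sing y hyM) (M.2.perp hpM hyM)).eq_of_le M.2
    (Submodule.span_le.mpr (Set.insert_subset hpM (Set.singleton_subset_iff.mpr hyM)))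
  refine hLM fun a ha b hb => ?_
  rw [← hL] at ha
  rw [← hM] at hb
  obtain ⟨a1, a2, rfl⟩ := Submodule.mem_span_pair.mp ha
  obtain ⟨b1, b2, rfl⟩ := Submodule.mem_span_pair.mp hb
  rw [polar_lin_right, polar_add_left, polar_add_left, polar_smul_left, polar_smul_left,
    polar_smul_left, polar_smul_left, polar_self_zero (L.2.sing p hpL), L.2.perp hxL hpL,
    M.2.perp hpM hyM, N.2.perp hxN hyN]
  simp

theorem exists_second {L : Ln Q} {p : V} (hp : p ∈ L.1) (hp0 : p ≠ 0) :
    ∃ a, L.1 = Submodule.span F {p, a} ∧ a ∉ Submodule.span F {p} ∧ Q a = 0 ∧ polar Q p a = 0 := by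
  obtain ⟨a, hli, he⟩ := L.2.exists_basis hp hp0
  exact ⟨a, he, (notMem_span_of_pair hli).2, L.2.sing a (he ▸ right_mem_pair p a),
    L.2.perp hp (he ▸ right_mem_pair p a)⟩

theorem polar_ne_of_not_perp {L M : Ln Q} {p a b : V} (hL : L.1 = Submodule.span F {p, a})
    (hM : M.1 = Submodule.span F {p, b}) (hpa : polar Q p a = 0) (hpb : polar Q p b = 0)
    (hp : Q p = 0) (h : ¬ Perp L M) : polar Q a b ≠ 0 := by
  intro hab
  refine h fun x hx y hy => ?_
  rw [hL] at hx
  rw [hM] at hy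
  obtain ⟨a1, a2, rfl⟩ := Submodule.mem_span_pair.mp hx
  obtain ⟨b1, b2, rfl⟩ := Submodule.mem_span_pair.mp hy
  rw [polar_lin_right, polar_add_left, polar_add_left, polar_smul_left, polar_smul_left,
    polar_smul_left, polar_smul_left, polar_self_zero hp, polar_comm (⇑Q) a p, hpa, hpb, hab]
  simp

variable (hQ : Big Q)
include hQ

/-- Lines through a point with a non-orthogonal pair of lines carry no grid. -/
theorem not_grid_of_meet (hs : Shape Q) {L M : Ln Q} (hmeet : Meet L M) (hperp : ¬ Perp L M) :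
    ¬ Grid L M := by
  rintro ⟨N, N', hNL, hNM, hN'L, hN'M, hNN', hnadj, K₁, K₂, hK, hiff⟩
  obtain ⟨p, hpL, hpM, hp0⟩ := hmeet
  obtain ⟨h1L, h1M, h1N, h1N'⟩ := (hiff K₁).mpr (Or.inl rfl)
  obtain ⟨h2L, h2M, h2N, h2N'⟩ := (hiff K₂).mpr (Or.inr rfl)
  have hpN := star_mem hperp hpL hpM hp0 hNL.2.1 hNM.2.1
  have hpN' := star_mem hperp hpL hpM hp0 hN'L.2.1 hN'M.2.1
  have hpK₁ := star_mem hperp hpL hpM hp0 h1L.2.1 h1M.2.1
  have hpK₂ := star_mem hperp hpL hpM hp0 h2L.2.1 h2M.2.1
  have hnp : ¬ Perp N N' := fun h => hnadj ⟨hNN', ⟨p, hpN, hpN', hp0⟩, h⟩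
  have hp : Q p = 0 := L.2.sing p hpL
  obtain ⟨a, hLe, haP, hQa, hpa⟩ := exists_second hpL hp0
  obtain ⟨b, hMe, hbP, hQb, hpb⟩ := exists_second hpM hp0
  obtain ⟨d, hNe, hdP, hQd, hpd⟩ := exists_second hpN hp0
  obtain ⟨d', hN'e, hd'P, hQd', hpd'⟩ := exists_second hpN' hp0
  obtain ⟨k, hK₁e, hkP, hQk, hpk⟩ := exists_second hpK₁ hp0
  obtain ⟨k', hK₂e, hk'P, hQk', hpk'⟩ := exists_second hpK₂ hp0
  have hab := polar_ne_of_not_perp hLe hMe hpa hpb hp hperp
  have hdd := polar_ne_of_not_perp hNe hN'e hpd hpd' hp hnp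
  have ma : a ∈ L.1 := hLe ▸ right_mem_pair p a
  have mb : b ∈ M.1 := hMe ▸ right_mem_pair p b
  have md : d ∈ N.1 := hNe ▸ right_mem_pair p d
  have md' : d' ∈ N'.1 := hN'e ▸ right_mem_pair p d'
  have mk₁ : k ∈ K₁.1 := hK₁e ▸ right_mem_pair p k
  have mk₂ : k' ∈ K₂.1 := hK₂e ▸ right_mem_pair p k'
  have hda := hNL.2.2 d md a ma
  have hdb := hNM.2.2 d md b mb
  have hd'a := hN'L.2.2 d' md' a ma
  have hd'b := hN'M.2.2 d' md' b mb
  have hka := h1L.2.2 k mk₁ a ma
  have hkb := h1M.2.2 k mk₁ b mb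
  have hkd := h1N.2.2 k mk₁ d md
  have hkd' := h1N'.2.2 k mk₁ d' md'
  have hk'a := h2L.2.2 k' mk₂ a ma
  have hk'b := h2M.2.2 k' mk₂ b mb
  have hk'd := h2N.2.2 k' mk₂ d md
  have hk'd' := h2N'.2.2 k' mk₂ d' md'
  have third : ∀ z, Q z = 0 → polar Q p z = 0 → polar Q z a = 0 → polar Q z b = 0 →
      polar Q z d = 0 → polar Q z d' = 0 → z ∉ Submodule.span F {p} →
      z ∉ Submodule.span F {p, k} → z ∉ Submodule.span F {p, k'} → False := by
    intro z hz hpz hza hzb hzd hzd' hzp hzk hzk'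
    let Z : Ln Q := ⟨_, isLine_span (linearIndependent_pair_of hp0 hzp) hp hz hpz⟩
    have mz : z ∈ Z.1 := right_mem_pair p z
    have hperpZ : ∀ (X : Ln Q) (x : V), X.1 = Submodule.span F {p, x} → polar Q p x = 0 →
        polar Q z x = 0 → Perp Z X := by
      intro X x hX hpx hzx u hu v hv
      rw [hX] at hv
      obtain ⟨a1, a2, rfl⟩ := Submodule.mem_span_pair.mp hu
      obtain ⟨b1, b2, rfl⟩ := Submodule.mem_span_pair.mp hv
      rw [polar_lin_right, polar_add_left, polar_add_left, polar_smul_left, polar_smul_left,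
        polar_smul_left, polar_smul_left, polar_self_zero hp, hpx, hzx, polar_comm (⇑Q) z p, hpz]
      simp
    have hne : ∀ (X : Ln Q) (x x' : V), X.1 = Submodule.span F {p, x} → polar Q p x' = 0 →
        polar Q x x' ≠ 0 → polar Q z x' = 0 → Z ≠ X := by
      intro X x x' hX hpx' hxx' hzx' e
      refine hzp (mem_span_singleton_pair (Q := Q) (x := x) ?_ hpx' hxx' hzx')
      rw [← hX, ← e]
      exact mz
    have hab' : polar Q b a ≠ 0 := by rwa [polar_comm]
    have hdd' : polar Q d' d ≠ 0 := by rwa [polar_comm]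
    rcases (hiff Z).mp ⟨⟨hne L a b hLe hpb hab hzb, ⟨p, left_mem_pair p z, hpL, hp0⟩,
        hperpZ L a hLe hpa hza⟩,
      ⟨hne M b a hMe hpa hab' hza, ⟨p, left_mem_pair p z, hpM, hp0⟩, hperpZ M b hMe hpb hzb⟩,
      ⟨hne N d d' hNe hpd' hdd hzd', ⟨p, left_mem_pair p z, hpN, hp0⟩, hperpZ N d hNe hpd hzd⟩,
      ⟨hne N' d' d hN'e hpd hdd' hzd, ⟨p, left_mem_pair p z, hpN', hp0⟩,
        hperpZ N' d' hN'e hpd' hzd'⟩⟩ with h | h
    · exact hzk (by rw [← hK₁e, ← h]; exact mz)
    · exact hzk' (by rw [← hK₂e, ← h]; exact mz)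
  have hkk : k' ∉ Submodule.span F {p, k} := fun h => hK (Subtype.ext
    (K₂.2.eq_of_le K₁.2 (by
      rw [hK₂e, hK₁e]
      exact Submodule.span_le.mpr
        (Set.insert_subset (left_mem_pair p k) (Set.singleton_subset_iff.mpr h)))).symm)
  by_cases hγ : polar Q k k' = 0
  · have hkk2 : k ∉ Submodule.span F {p, k'} := fun h => hK (Subtype.ext
      (K₁.2.eq_of_le K₂.2 (by
        rw [hK₂e, hK₁e]
        exact Submodule.span_le.mpr
          (Set.insert_subset (left_mem_pair p k') (Set.singleton_subset_iff.mpr h)))))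
    refine third (k + k') (by rw [quad_add, hQk, hQk', hγ, add_zero, add_zero])
      (by rw [polar_add_right, hpk, hpk', add_zero]) (by rw [polar_add_left, hka, hk'a, add_zero])
      (by rw [polar_add_left, hkb, hk'b, add_zero]) (by rw [polar_add_left, hkd, hk'd, add_zero])
      (by rw [polar_add_left, hkd', hk'd', add_zero]) (fun h => ?_) (fun h => ?_) (fun h => ?_)
    · have h1 : k + k' ∈ Submodule.span F {p, k} :=
        (Submodule.span_mono (Set.singleton_subset_iff.mpr (Set.mem_insert _ _))) h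
      have := Submodule.sub_mem _ h1 (right_mem_pair p k)
      rw [add_sub_cancel_left] at this
      exact hkk this
    · have := Submodule.sub_mem _ h (right_mem_pair p k)
      rw [add_sub_cancel_left] at this
      exact hkk this
    · have := Submodule.sub_mem _ h (right_mem_pair p k')
      rw [add_sub_cancel_right] at this
      exact hkk2 this
  have hγ' : polar Q k' k ≠ 0 := by rwa [polar_comm]
  by_cases hw : ∃ w ∈ perpS Q (Submodule.span F (Set.range ![p, a, b, d, d', k, k'])),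
      w ∉ Submodule.span F {p}
  · obtain ⟨w, hw, hwp⟩ := hw
    have hwv : ∀ i, polar Q (![p, a, b, d, d', k, k'] i) w = 0 := fun i =>
      hw _ (Submodule.subset_span ⟨i, rfl⟩)
    have hpw : polar Q p w = 0 := hwv 0
    have haw : polar Q w a = 0 := by rw [polar_comm]; exact hwv 1
    have hbw : polar Q w b = 0 := by rw [polar_comm]; exact hwv 2
    have hdw : polar Q w d = 0 := by rw [polar_comm]; exact hwv 3
    have hd'w : polar Q w d' = 0 := by rw [polar_comm]; exact hwv 4
    have hkw : polar Q k w = 0 := hwv 5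
    have hk'w : polar Q k' w = 0 := hwv 6
    set s := -Q w / polar Q k k' with hs'
    set z := k + s • k' + w with hzdef
    have hzk' : polar Q z k' = polar Q k k' := by
      rw [hzdef, polar_add_left, polar_add_left, polar_smul_left, polar_self_zero hQk',
        polar_comm (⇑Q) w k', hk'w, smul_zero, add_zero, add_zero]
    have hzkk : polar Q z k = s * polar Q k' k := by
      rw [hzdef, polar_add_left, polar_add_left, polar_smul_left, polar_self_zero hQk,
        polar_comm (⇑Q) w k, hkw, add_zero, zero_add, smul_eq_mul]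
    refine third z ?_ ?_ ?_ ?_ ?_ ?_ (fun h => ?_) (fun h => ?_) (fun h => ?_)
    · rw [hzdef, quad_add, quad_add, quad_smul, hQk, hQk', polar_smul_right, polar_add_left,
        polar_smul_left, hkw, hk'w, smul_zero, mul_zero, add_zero, add_zero, zero_add, smul_eq_mul,
        hs', div_mul_cancel₀ _ hγ, neg_add_cancel]
    · simp only [hzdef, polar_add_right, polar_smul_right, hpk, hpk', hpw, smul_zero, add_zero]
    · simp only [hzdef, polar_add_left, polar_smul_left, hka, hk'a, haw, smul_zero, add_zero]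
    · simp only [hzdef, polar_add_left, polar_smul_left, hkb, hk'b, hbw, smul_zero, add_zero]
    · simp only [hzdef, polar_add_left, polar_smul_left, hkd, hk'd, hdw, smul_zero, add_zero]
    · simp only [hzdef, polar_add_left, polar_smul_left, hkd', hk'd', hd'w, smul_zero, add_zero]
    · obtain ⟨t, ht⟩ := Submodule.mem_span_singleton.mp h
      exact hγ (by rw [← hzk', ← ht, polar_smul_left, hpk', smul_zero])
    · obtain ⟨t, r, ht⟩ := Submodule.mem_span_pair.mp h
      have h1 := hzkk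
      rw [← ht, polar_add_left, polar_smul_left, polar_smul_left, hpk, polar_self_zero hQk,
        smul_zero, smul_zero, add_zero] at h1
      have hs0 : s = 0 := (mul_eq_zero.mp h1.symm).resolve_right hγ'
      have h2 := hzk'
      rw [← ht, polar_add_left, polar_smul_left, polar_smul_left, hpk', smul_zero, zero_add,
        smul_eq_mul, mul_eq_right₀ hγ] at h2
      rw [h2, one_smul, hzdef, hs0, zero_smul, add_zero, add_comm k w, add_left_inj] at ht
      exact hwp (Submodule.mem_span_singleton.mpr ⟨t, ht⟩)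
    · obtain ⟨t, r, ht⟩ := Submodule.mem_span_pair.mp h
      exact hγ (by rw [← hzk', ← ht, polar_add_left, polar_smul_left, polar_smul_left, hpk',
        polar_self_zero hQk', smul_zero, smul_zero, add_zero])
  push Not at hw
  set S := Submodule.span F (Set.range ![p, a, b, d, d', k, k']) with hSdef
  have hperp1 : Module.finrank F (perpS Q S) ≤ 1 := by
    have h1 := Submodule.finrank_mono (show perpS Q S ≤ Submodule.span F {p} from hw)
    rwa [finrank_span_singleton hp0] at h1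
  have hS7 : Module.finrank F S ≤ 7 := (finrank_range_le_card _).trans (by simp)
  have hn8 : Module.finrank F V ≤ 8 := by
    have := finrank_perpS hQ.nd S
    omega
  have hself : ∀ x, Q x = 0 → polar Q x x = 0 := fun x hx => polar_self_zero hx
  have hli : LinearIndependent F ![p, a, b, d, d', k, k'] := by
    rw [Fintype.linearIndependent_iff]
    intro g hg
    have e : ∀ x, ∑ i, g i * polar Q (![p, a, b, d, d', k, k'] i) x = 0 := fun x => by
      have := congrArg (fun v => polarFun Q x v) hg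
      simpa [map_sum, polarFun_apply, polar_smul_left] using this
    have eb := e b
    have ea := e a
    have ed' := e d'
    have ed := e d
    have ek' := e k'
    have ek := e k
    simp [Fin.sum_univ_seven, hpb, hdb, hd'b, hkb, hk'b, hself b hQb, hab] at eb
    simp [Fin.sum_univ_seven, hpa, hda, hd'a, hka, hk'a, hself a hQa, polar_comm (⇑Q) b a, hab] at ea
    simp [Fin.sum_univ_seven, hpd', polar_comm (⇑Q) a d', hd'a, polar_comm (⇑Q) b d', hd'b, hkd',
      hk'd', hself d' hQd', hdd] at ed'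
    simp [Fin.sum_univ_seven, hpd, polar_comm (⇑Q) a d, hda, polar_comm (⇑Q) b d, hdb, hkd,
      hk'd, hself d hQd, polar_comm (⇑Q) d' d, hdd] at ed
    simp [Fin.sum_univ_seven, hpk', polar_comm (⇑Q) a k', hk'a, polar_comm (⇑Q) b k', hk'b,
      polar_comm (⇑Q) d k', hk'd, polar_comm (⇑Q) d' k', hk'd', hself k' hQk', hγ] at ek'
    simp [Fin.sum_univ_seven, hpk, polar_comm (⇑Q) a k, hka, polar_comm (⇑Q) b k, hkb,
      polar_comm (⇑Q) d k, hkd, polar_comm (⇑Q) d' k, hkd', hself k hQk,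
      polar_comm (⇑Q) k' k, hγ] at ek
    simp [Fin.sum_univ_seven, eb, ea, ed', ed, ek', ek, hp0] at hg
    intro i
    fin_cases i <;> assumption
  have hn7 := hQ.dim
  rcases hs with h8 | h4
  · have hfull : S = ⊤ := by
      refine Submodule.eq_top_of_finrank_eq ?_
      rw [hSdef, finrank_span_eq_card hli, Fintype.card_fin]
      omega
    obtain ⟨y, hy⟩ := exists_polar_ne hQ.nd hp0
    refine hy ?_
    have hy' : y ∈ S := hfull ▸ Submodule.mem_top
    clear hy
    induction hy' using Submodule.span_induction with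
    | mem x hx =>
      obtain ⟨i, rfl⟩ := hx
      fin_cases i <;> simp [hpa, hpb, hpd, hpd', hpk, hpk', hself p hp]
    | zero => exact polar_zero_right Q p
    | add u v _ _ hu hv => rw [polar_add_right, hu, hv, add_zero]
    | smul c u _ hu => rw [polar_smul_right, hu, smul_zero]
  · have hli4 : LinearIndependent F ![p, a, d, k] := by
      have := hli.comp ![(0 : Fin 7), 1, 3, 5] (by decide)
      convert this using 1
      funext i
      fin_cases i <;> rfl
    set T := Submodule.span F (Set.range ![p, a, d, k])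
    refine absurd (h4 T ?_) (by rw [finrank_span_eq_card hli4, Fintype.card_fin]; omega)
    intro x hx
    obtain ⟨c, rfl⟩ := Submodule.mem_span_range_iff_exists_fun F |>.mp hx
    simp [Fin.sum_univ_succ, quad_add, quad_smul, polar_add_right, polar_smul_left,
      polar_smul_right, hp, hQa, hQd, hQk, hpa, hpd, hpk, polar_comm (⇑Q) a d, hda,
      polar_comm (⇑Q) a k, hka, polar_comm (⇑Q) d k, hkd]

omit hQ in
/-- Disjoint orthogonal lines carry a grid. -/
theorem grid_of_skew {L M : Ln Q} (hmeet : ¬ Meet L M) (hperp : Perp L M) : Grid L M := by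
  have hmeet : ∀ x ∈ L.1, x ∈ M.1 → x = 0 := fun x hx hy =>
    by_contra fun h => hmeet ⟨x, hx, hy, h⟩
  obtain ⟨a, c, hac, hLe, -, -, -⟩ := L.2.exists_pair
  obtain ⟨b, d, hbd, hMe, -, -, -⟩ := M.2.exists_pair
  have ma : a ∈ L.1 := hLe ▸ left_mem_pair a c
  have mc : c ∈ L.1 := hLe ▸ right_mem_pair a c
  have mb : b ∈ M.1 := hMe ▸ left_mem_pair b d
  have md : d ∈ M.1 := hMe ▸ right_mem_pair b d
  have hcoef : ∀ {x y : V} (s t : F), x ∈ L.1 → y ∈ M.1 → s • x = t • y → s • x = 0 :=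
    fun s t hx hy h => hmeet _ (L.1.smul_mem s hx) (h ▸ M.1.smul_mem t hy)
  have hT : ∀ z ∈ L.1 ⊔ M.1, Q z = 0 := fun z hz => by
    obtain ⟨x, hx, y, hy, rfl⟩ := Submodule.mem_sup.mp hz
    rw [quad_add, L.2.sing x hx, M.2.sing y hy, hperp x hx y hy, add_zero, add_zero]
  have hTp : ∀ x ∈ L.1 ⊔ M.1, ∀ y ∈ L.1 ⊔ M.1, polar Q x y = 0 := fun x hx y hy => by
    simp only [polar, hT _ (Submodule.add_mem _ hx hy), hT x hx, hT y hy, sub_zero]
  have hliLM : ∀ {x y : V}, x ∈ L.1 → y ∈ M.1 → x ≠ 0 → y ≠ 0 →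
      LinearIndependent F ![x, y] := fun {x y} hx hy hx0 hy0 =>
    linearIndependent_pair_of hx0 fun h => hy0 (hmeet y
      ((Submodule.span_le.mpr (Set.singleton_subset_iff.mpr hx)) h) hy)
  have hmk : ∀ (x y : V), x ∈ L.1 → y ∈ M.1 → x ≠ 0 → y ≠ 0 →
      IsLine Q (Submodule.span F {x, y}) := fun x y hx hy hx0 hy0 =>
    isLine_span (hliLM hx hy hx0 hy0) (L.2.sing x hx) (M.2.sing y hy) (hperp x hx y hy)
  let mk : ∀ (x y : V), x ∈ L.1 → y ∈ M.1 → x ≠ 0 → y ≠ 0 → Ln Q :=
    fun x y hx hy hx0 hy0 => ⟨_, hmk x y hx hy hx0 hy0⟩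
  have ha0 : a ≠ 0 := hac.ne_zero 0
  have hc0 : c ≠ 0 := hac.ne_zero 1
  have hb0 : b ≠ 0 := hbd.ne_zero 0
  have hd0 : d ≠ 0 := hbd.ne_zero 1
  set N := mk a b ma mb ha0 hb0
  set N' := mk c d mc md hc0 hd0
  set K₁ := mk a d ma md ha0 hd0
  set K₂ := mk c b mc mb hc0 hb0
  have hsub : ∀ (x y : V), x ∈ L.1 → y ∈ M.1 → Submodule.span F {x, y} ≤ L.1 ⊔ M.1 :=
    fun x y hx hy => Submodule.span_le.mpr (Set.insert_subset (Submodule.mem_sup_left hx)
      (Set.singleton_subset_iff.mpr (Submodule.mem_sup_right hy)))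
  have hadjL : ∀ (x y : V) (hx : x ∈ L.1) (hy : y ∈ M.1) (hx0 : x ≠ 0) (hy0 : y ≠ 0),
      Adj (mk x y hx hy hx0 hy0) L ∧ Adj (mk x y hx hy hx0 hy0) M := by
    intro x y hx hy hx0 hy0
    refine ⟨⟨fun h => hy0 (hmeet y ?_ hy), ⟨x, left_mem_pair x y, hx, hx0⟩, fun u hu v hv =>
        hTp u (hsub x y hx hy hu) v (Submodule.mem_sup_left hv)⟩,
      ⟨fun h => hx0 (hmeet x hx ?_), ⟨y, right_mem_pair x y, hy, hy0⟩, fun u hu v hv =>
        hTp u (hsub x y hx hy hu) v (Submodule.mem_sup_right hv)⟩⟩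
    · rw [← congrArg Subtype.val h]; exact right_mem_pair x y
    · rw [← congrArg Subtype.val h]; exact left_mem_pair x y
  have hac0 : c ∉ Submodule.span F {a} := (notMem_span_of_pair hac).2
  have hca0 : a ∉ Submodule.span F {c} := (notMem_span_of_pair hac).1
  have hbd0 : d ∉ Submodule.span F {b} := (notMem_span_of_pair hbd).2
  have hdb0 : b ∉ Submodule.span F {d} := (notMem_span_of_pair hbd).1
  have hin : ∀ (x y z : V), x ∈ L.1 → y ∈ M.1 → z ∈ Submodule.span F {x, y} →
      (z ∈ L.1 → z ∈ Submodule.span F {x}) ∧ (z ∈ M.1 → z ∈ Submodule.span F {y}) := by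
    intro x y z hx hy hz
    obtain ⟨s, t, rfl⟩ := Submodule.mem_span_pair.mp hz
    constructor <;> intro h
    · have h1 : t • y = 0 := hmeet _ (by
        have := L.1.sub_mem h (L.1.smul_mem s hx)
        rwa [add_sub_cancel_left] at this) (M.1.smul_mem t hy)
      rw [h1, add_zero]
      exact Submodule.smul_mem _ s (Submodule.mem_span_singleton_self x)
    · have h1 : s • x = 0 := hmeet _ (L.1.smul_mem s hx) (by
        have := M.1.sub_mem h (M.1.smul_mem t hy)
        rwa [add_sub_cancel_right] at this)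
      rw [h1, zero_add]
      exact Submodule.smul_mem _ t (Submodule.mem_span_singleton_self y)
  have hmeetN : ¬ Meet N N' := by
    rintro ⟨z, hz, hz', hz0⟩
    obtain ⟨s, t, rfl⟩ := Submodule.mem_span_pair.mp (show z ∈ Submodule.span F {a, b} from hz)
    obtain ⟨s', t', h⟩ := Submodule.mem_span_pair.mp
      (show s • a + t • b ∈ Submodule.span F {c, d} from hz')
    have h1 : s • a - s' • c = t' • d - t • b := by
      rw [sub_eq_sub_iff_add_eq_add, add_comm (t' • d), h]
    have h2 := hmeet _ (L.1.sub_mem (L.1.smul_mem s ma) (L.1.smul_mem s' mc))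
      (h1 ▸ M.1.sub_mem (M.1.smul_mem t' md) (M.1.smul_mem t mb))
    have h3 := LinearIndependent.pair_iff.mp hac s (-s') (by rw [neg_smul, ← sub_eq_add_neg, h2])
    rw [h2, eq_comm] at h1
    have h4 := LinearIndependent.pair_iff.mp hbd (-t) t' (by rw [neg_smul, neg_add_eq_sub, h1])
    exact hz0 (by rw [h3.1, neg_eq_zero.mp h4.1, zero_smul, zero_smul, add_zero])
  refine ⟨N, N', (hadjL a b ma mb ha0 hb0).1, (hadjL a b ma mb ha0 hb0).2,
    (hadjL c d mc md hc0 hd0).1, (hadjL c d mc md hc0 hd0).2, fun h => hmeetN ⟨a, left_mem_pair a b, h ▸ left_mem_pair a b, ha0⟩,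
    fun h => hmeetN h.2.1, K₁, K₂, fun h => hca0 ?_, fun K => ⟨?_, ?_⟩⟩
  · exact (hin c b a mc mb (show a ∈ K₂.1 from h ▸ left_mem_pair a d)).1 ma
  · rintro ⟨hKL, hKM, hKN, hKN'⟩
    obtain ⟨x, hxK, hxL, hx0⟩ := hKL.2.1
    obtain ⟨y, hyK, hyM, hy0⟩ := hKM.2.1
    have hKe : Submodule.span F {x, y} = K.1 := (hmk x y hxL hyM hx0 hy0).eq_of_le K.2
      (Submodule.span_le.mpr (Set.insert_subset hxK (Set.singleton_subset_iff.mpr hyK)))
    have hor : ∀ {u v : V}, u ∈ L.1 → v ∈ M.1 → (∃ z ∈ K.1, z ∈ Submodule.span F {u, v} ∧ z ≠ 0) →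
        u ∈ K.1 ∨ v ∈ K.1 := by
      rintro u v hu hv ⟨z, hzK, hz, hz0⟩
      obtain ⟨α, β, rfl⟩ := Submodule.mem_span_pair.mp hz
      rw [← hKe] at hzK
      obtain ⟨s, t, h⟩ := Submodule.mem_span_pair.mp hzK
      have h1 : s • x - α • u = β • v - t • y := by
        rw [sub_eq_sub_iff_add_eq_add, add_comm (β • v), h]
      have h2 := hmeet _ (L.1.sub_mem (L.1.smul_mem s hxL) (L.1.smul_mem α hu))
        (h1 ▸ M.1.sub_mem (M.1.smul_mem β hv) (M.1.smul_mem t hyM))
      rcases eq_or_ne α 0 with hα | hα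
      · right
        have hβ : β ≠ 0 := fun e => hz0 (by rw [hα, e, zero_smul, zero_smul, add_zero])
        rw [h2, eq_comm, sub_eq_zero] at h1
        exact mem_of_smul hβ (h1 ▸ K.1.smul_mem t hyK)
      · left
        rw [sub_eq_zero] at h2
        exact mem_of_smul hα (h2 ▸ K.1.smul_mem s hxK)
    obtain ⟨z, hzK, hzN, hz0⟩ := hKN.2.1
    obtain ⟨z', hz'K, hz'N, hz'0⟩ := hKN'.2.1
    have heq : ∀ (u v : V) (P : Ln Q), P.1 = Submodule.span F {u, v} → u ∈ K.1 → v ∈ K.1 →
        K = P := fun u v P hP hu hv => Subtype.ext (P.2.eq_of_le K.2 (hP ▸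
          Submodule.span_le.mpr (Set.insert_subset hu (Set.singleton_subset_iff.mpr hv)))).symm
    rcases hor ma mb ⟨z, hzK, hzN, hz0⟩ with h | h <;>
      rcases hor mc md ⟨z', hz'K, hz'N, hz'0⟩ with h' | h'
    · exact absurd (heq a c L hLe h h') hKL.1
    · exact Or.inl (heq a d K₁ rfl h h')
    · exact Or.inr (heq c b K₂ rfl h' h)
    · exact absurd (heq b d M hMe h h') hKM.1
  · have hadjN : ∀ (x y : V) (hx : x ∈ L.1) (hy : y ∈ M.1) (hx0 : x ≠ 0) (hy0 : y ≠ 0)
        (u v : V) (hu : u ∈ L.1) (hv : v ∈ M.1) (hu0 : u ≠ 0) (hv0 : v ≠ 0),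
        (x ∉ Submodule.span F {u} ∨ y ∉ Submodule.span F {v}) → (x = u ∨ y = v) →
        Adj (mk x y hx hy hx0 hy0) (mk u v hu hv hu0 hv0) := by
      intro x y hx hy hx0 hy0 u v hu hv hu0 hv0 hne hmt
      refine ⟨fun h => ?_, ?_, fun z hz w hw => hTp z (hsub x y hx hy hz) w (hsub u v hu hv hw)⟩
      · have h' : Submodule.span F {x, y} = Submodule.span F {u, v} := congrArg Subtype.val h
        rcases hne with hne | hne
        · exact hne ((hin u v x hu hv (h' ▸ left_mem_pair x y)).1 hx)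
        · exact hne ((hin u v y hu hv (h' ▸ right_mem_pair x y)).2 hy)
      · rcases hmt with rfl | rfl
        · exact ⟨x, left_mem_pair x y, left_mem_pair x v, hx0⟩
        · exact ⟨y, right_mem_pair x y, right_mem_pair u y, hy0⟩
    rintro (rfl | rfl)
    · exact ⟨(hadjL a d ma md ha0 hd0).1, (hadjL a d ma md ha0 hd0).2,
        hadjN a d ma md ha0 hd0 a b ma mb ha0 hb0 (Or.inr hbd0) (Or.inl rfl),
        hadjN a d ma md ha0 hd0 c d mc md hc0 hd0 (Or.inl hca0) (Or.inr rfl)⟩
    · exact ⟨(hadjL c b mc mb hc0 hb0).1, (hadjL c b mc mb hc0 hb0).2,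
        hadjN c b mc mb hc0 hb0 a b ma mb ha0 hb0 (Or.inl hac0) (Or.inr rfl),
        hadjN c b mc mb hc0 hb0 c d mc md hc0 hd0 (Or.inr hdb0) (Or.inl rfl)⟩

/-- Meeting is determined by commutation, adjacency and grids. -/
theorem meet_iff (hs : Shape Q) {L M : Ln Q} (hne : L ≠ M) (hc : Meet L M ∨ Perp L M) :
    Meet L M ↔ Adj L M ∨ ¬ Grid L M := by
  by_cases hm : Meet L M
  · refine iff_of_true hm ?_
    by_cases hp : Perp L M
    · exact Or.inl ⟨hne, hm, hp⟩
    · exact Or.inr (not_grid_of_meet hQ hs hm hp)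
  · refine iff_of_false hm fun h => h.elim (fun h => hm h.2.1) fun h => h ?_
    exact grid_of_skew hm (hc.resolve_left hm)

end CfsgLib.AutPOm
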