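import Cfsg.Agent.AutPOm.Gamma
import Cfsg.Prelude.Def_KGroupFacts

/-!
The group of semisimilarities and its map onto the automorphisms of `POmega`.
-/

set_option autoImplicit false
set_option linter.style.haveILetI false

namespace CfsgLib.AutPOm

open QuadraticMap CfsgLib.Forms CfsgLib.Quad

variable {F V : Type*} [Field F] [AddCommGroup V] [Module F V] {Q : QuadraticForm F V}

theorem Semi.ext' {S S' : Semi Q} (h1 : S.σ = S'.σ) (h2 : ∀ v, S.T v = S'.T v) (h3 : S.c = S'.c) :
    S = S' := by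
  obtain ⟨σ, T, c, _, _⟩ := S
  obtain ⟨σ', T', c', _, _⟩ := S'
  cases h1
  cases h3
  cases AddEquiv.ext h2
  rfl

/-- The identity semisimilarity. -/
def Semi.one (Q : QuadraticForm F V) : Semi Q where
  σ := RingEquiv.refl F
  T := AddEquiv.refl V
  c := 1
  smul _ _ := rfl
  quad v := by rw [Units.val_one, one_mul]; rfl

instance Semi.instGroup : Group (Semi Q) where
  mul S S' := S'.trans S
  one := Semi.one Q
  inv S := S.symm
  mul_assoc S S' S'' := by
    refine Semi.ext' rfl (fun _ => rfl) ?_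
    refine Units.ext ?_
    change (S.c : F) * S.σ (S'.c : F) * S.σ (S'.σ (S''.c : F)) =
      (S.c : F) * S.σ ((S'.c : F) * S'.σ (S''.c : F))
    rw [map_mul, mul_assoc]
  one_mul S := Semi.ext' rfl (fun _ => rfl) (Units.ext (by
    change (1 : F) * (S.c : F) = S.c
    rw [one_mul]))
  mul_one S := Semi.ext' rfl (fun _ => rfl) (Units.ext (by
    change (S.c : F) * S.σ ((1 : Fˣ) : F) = S.c
    rw [Units.val_one, map_one, mul_one]))
  inv_mul_cancel S := Semi.ext' (RingEquiv.ext fun x => S.σ.symm_apply_apply x)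
    (fun v => S.T.symm_apply_apply v) (Units.ext (by
      change S.σ.symm ((S.c⁻¹ : Fˣ) : F) * S.σ.symm (S.c : F) = 1
      rw [← map_mul, Units.inv_mul, map_one]))

theorem Semi.mul_T (S S' : Semi Q) (v : V) : (S * S').T v = S.T (S'.T v) := rfl

theorem Semi.one_T (v : V) : (1 : Semi Q).T v = v := rfl

theorem Semi.inv_T (S : Semi Q) (v : V) : S⁻¹.T v = S.T.symm v := rfl

theorem Semi.mul_c (S S' : Semi Q) : ((S * S').c : F) = (S.c : F) * S.σ (S'.c : F) := rfl

/-- The field automorphism of a semisimilarity. -/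
def sigmaHom (Q : QuadraticForm F V) : Semi Q →* RingAut F where
  toFun S := S.σ
  map_one' := rfl
  map_mul' _ _ := rfl

theorem sigmaHom_apply (S : Semi Q) : sigmaHom Q S = S.σ := rfl

theorem Semi.pow_succ_T (S : Semi Q) (n : ℕ) (v : V) : (S ^ (n + 1)).T v = S.T ((S ^ n).T v) := by
  rw [pow_succ', Semi.mul_T]

/-- Scalar maps. -/
def Semi.scalar (Q : QuadraticForm F V) (u : Fˣ) : Semi Q where
  σ := RingEquiv.refl F
  T :=
    { toFun := fun v => (u : F) • v
      invFun := fun v => ((u⁻¹ : Fˣ) : F) • v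
      left_inv := fun v => by simp [smul_smul]
      right_inv := fun v => by simp [smul_smul]
      map_add' := smul_add _ }
  c := u * u
  smul a v := smul_comm (u : F) a v
  quad v := by
    change Q ((u : F) • v) = _
    rw [quad_smul, Units.val_mul]
    rfl

theorem Semi.scalar_T (u : Fˣ) (v : V) : (Semi.scalar Q u).T v = (u : F) • v := rfl

/-- Scalars as a homomorphism. -/
def scalarHom (Q : QuadraticForm F V) : Fˣ →* Semi Q where
  toFun := Semi.scalar Q
  map_one' := Semi.ext' rfl (fun v => one_smul F v) (one_mul 1)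
  map_mul' u w := Semi.ext' rfl (fun v => mul_smul (u : F) (w : F) v) (Units.ext (by
    change ((u * w * (u * w) : Fˣ) : F) = ((u * u : Fˣ) : F) * ((w * w : Fˣ) : F)
    push_cast
    ring))

theorem scalarHom_apply (u : Fˣ) : scalarHom Q u = Semi.scalar Q u := rfl

theorem Semi.scalar_comm (S : Semi Q) (u : Fˣ) :
    S * scalarHom Q u = scalarHom Q (Units.map S.σ.toMonoidHom u) * S :=
  Semi.ext' (RingEquiv.ext fun _ => rfl) (fun v => S.smul (u : F) v) (Units.ext (by
    rw [Semi.mul_c, Semi.mul_c]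
    change (S.c : F) * S.σ ((u : F) * (u : F)) = S.σ (u : F) * S.σ (u : F) * (S.c : F)
    rw [map_mul, mul_comm]))

/-- Isometries as semisimilarities. -/
def isoHom (Q : QuadraticForm F V) : oGroup Q →* Semi Q where
  toFun := Semi.ofIso
  map_one' := Semi.ext' rfl (fun _ => rfl) rfl
  map_mul' g h := Semi.ext' rfl (fun _ => rfl) (Units.ext (one_mul (1 : F)).symm)

theorem isoHom_apply (g : oGroup Q) : isoHom Q g = Semi.ofIso g := rfl

theorem isoHom_injective : Function.Injective (isoHom Q) := fun g h e =>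
  Subtype.ext (LinearEquiv.ext fun v => congrArg (fun S : Semi Q => S.T v) e)

theorem Semi.conj_iso (S : Semi Q) (g : oGroup Q) :
    S * isoHom Q g * S⁻¹ = isoHom Q (S.oEquiv g) :=
  Semi.ext' (RingEquiv.ext fun x => S.σ.apply_symm_apply x) (fun _ => rfl) (Units.ext (by
    rw [Semi.mul_c, Semi.mul_c]
    change (S.c : F) * S.σ ((1 : Fˣ) : F) * S.σ (S.σ.symm ((S.c⁻¹ : Fˣ) : F)) = ((1 : Fˣ) : F)
    rw [RingEquiv.apply_symm_apply, Units.val_one, map_one, mul_one, Units.mul_inv]))

theorem Semi.eq_iso {S : Semi Q} (h1 : S.σ = RingEquiv.refl F) (hc : S.c = 1) :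
    ∃ g : oGroup Q, S = isoHom Q g := by
  refine ⟨⟨{ S.T with map_smul' := fun a v => ?_ }, fun v => ?_⟩, Semi.ext' h1 (fun _ => rfl) hc⟩
  · change S.T (a • v) = a • S.T v
    rw [S.smul, h1]
    rfl
  · change Q (S.T v) = Q v
    rw [S.quad, hc, h1, Units.val_one, one_mul]
    rfl

/-- The induced automorphisms as a homomorphism. -/
noncomputable def pgHom (Q : QuadraticForm F V) : Semi Q →* MulAut (PG Q) where
  toFun S := S.pgAut
  map_one' := MulEquiv.ext fun x => by
    obtain ⟨g, rfl⟩ := QuotientGroup.mk'_surjective _ x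
    rfl
  map_mul' S S' := MulEquiv.ext fun x => Semi.pgAut_trans S' S x

theorem pgHom_apply (S : Semi Q) : pgHom Q S = S.pgAut := rfl

theorem pgHom_iso_conj (g : ↥(Om Q)) :
    pgHom Q (isoHom Q g.1) = MulAut.conj (toPG Q g) := by
  refine MulEquiv.ext fun x => ?_
  obtain ⟨h, rfl⟩ := QuotientGroup.mk'_surjective _ x
  rw [pgHom_apply, Semi.pgAut_mk, MulAut.conj_apply, ← map_inv, ← map_mul, ← map_mul]
  exact congrArg (toPG Q) (Subtype.ext (Subtype.ext (LinearEquiv.ext fun v => rfl)))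

section Finite

variable [FiniteDimensional F V] [Finite F] (hQ : Big Q)
include hQ

theorem pgHom_surjective (hs : Shape Q) : Function.Surjective (pgHom Q) := fun γ => by
  obtain ⟨p, hp⟩ := CharP.exists F
  haveI : Fact p.Prime := ⟨CharP.char_is_prime F p⟩
  obtain ⟨S, hS⟩ := exists_semi_eq hQ p hs γ
  exact ⟨S, MulEquiv.ext fun x => (hS x).symm⟩

omit hQ in
theorem finite_semi : Finite (Semi Q) := by
  haveI : Finite V := Module.finite_of_finite F
  haveI : Finite (F ≃+* F) := Finite.of_injective (fun σ => (⇑σ : F → F)) DFunLike.coe_injective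
  exact Finite.of_injective (β := (F ≃+* F) × (V → V) × Fˣ) (fun S => (S.σ, ⇑S.T, S.c))
    fun S S' h => Semi.ext' (congrArg Prod.fst h) (congrFun (congrArg (fun x => x.2.1) h))
      (congrArg (fun x => x.2.2) h)

/-- Only scalars act trivially. -/
theorem mem_ker_pgHom {S : Semi Q} : pgHom Q S = 1 ↔ ∃ u : Fˣ, S = scalarHom Q u := by
  constructor
  · intro h
    obtain ⟨p, hp⟩ := CharP.exists F
    haveI : Fact p.Prime := ⟨CharP.char_is_prime F p⟩
    have hfix : ∀ (N : Ln Q) (r : V), r ∈ N.1 → r ≠ 0 → S.T r ∈ N.1 := by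
      intro N r hr hr0
      have hid : ∀ N : Ln Q, lineMap hQ p (MulEquiv.refl (PG Q)) N = N := fun N => by
        obtain ⟨x, hx, hx1⟩ := exists_ne_one_img hQ p N
        exact lineMap_eq_of_mem hQ p _ hx hx1 hx
      have h1 := semi_point hQ p (MulEquiv.refl (PG Q)) S N (by rw [hid N]; exact hr) hr0
      have h2 : (MulEquiv.refl (PG Q)).trans S.pgAut = MulEquiv.refl (PG Q) := h
      rwa [h2, hid N] at h1
    have heig : ∀ q, Q q = 0 → q ≠ 0 → ∃ a : F, S.T q = a • q := by
      intro q hq hq0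
      obtain ⟨L, M, hL, hM, -, hne⟩ := exists_star_pair hQ hq hq0
      obtain ⟨t, ht⟩ := Submodule.mem_span_singleton.mp
        (L.2.inter_eq M.2 (fun e => hne (Subtype.ext e)) hL hM hq0 (hfix L q hL hq0) (hfix M q hM hq0))
      exact ⟨t, ht.symm⟩
    have hindep : ∀ u w (cu cw : F), Q u = 0 → Q w = 0 → polar Q u w = 0 →
        LinearIndependent F ![u, w] → S.T u = cu • u → S.T w = cw • w →
        ∀ s : F, s ≠ 0 → S.σ s * cu = cw * s := by
      intro u w cu cw hu hw huw hli hgu hgw s hs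
      obtain ⟨k, hk⟩ := heig (s • u + w)
        (by rw [quad_add, quad_smul, hu, hw, polar_smul_left, huw, smul_zero, mul_zero, add_zero,
          add_zero])
        (fun e => hs (LinearIndependent.pair_iff.mp hli s 1 (by rw [one_smul]; exact e)).1)
      rw [map_add, S.smul, hgu, hgw, smul_smul, smul_add, smul_smul] at hk
      obtain ⟨h1, h2⟩ := LinearIndependent.pair_iff.mp hli (S.σ s * cu - k * s) (cw - k)
        (by rw [sub_smul, sub_smul, sub_add_sub_comm, hk, sub_self])
      rw [sub_eq_zero.mp h1, ← sub_eq_zero.mp h2]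
    obtain ⟨z, -, hz0, hQz⟩ := exists_singular_of_three (Q := Q) (⊤ : Submodule F V)
      (by rw [finrank_top]; have := hQ.dim; omega)
    obtain ⟨c, hc⟩ := heig z hQz hz0
    obtain ⟨L, -, hL, -⟩ := exists_star_pair hQ hQz hz0
    obtain ⟨w, hLe, hwz, hQw, hzw⟩ := exists_second hL hz0
    have hw0 : w ≠ 0 := fun e => hwz (e ▸ Submodule.zero_mem _)
    obtain ⟨cw, hcw⟩ := heig w hQw hw0
    have h1 := hindep z w c cw hQz hQw hzw (linearIndependent_pair_of hz0 hwz) hc hcw
    have hceq : c = cw := by simpa using h1 1 one_ne_zero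
    have hc0 : c ≠ 0 := fun e => hz0 (S.T.injective (by rw [hc, e, zero_smul, map_zero]))
    have hσ : ∀ s, S.σ s = s := fun s => by
      rcases eq_or_ne s 0 with rfl | hs
      · exact map_zero _
      · have h2 := h1 s hs
        rw [← hceq, mul_comm c s] at h2
        exact mul_right_cancel₀ hc0 h2
    have heq : ∀ u v (cu cv : F), Q u = 0 → Q v = 0 → polar Q u v = 0 → u ≠ 0 → v ≠ 0 →
        S.T u = cu • u → S.T v = cv • v → cu = cv := by
      intro u v cu cv hu hv huv hu0 hv0 hgu hgv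
      by_cases hm : v ∈ Submodule.span F {u}
      · obtain ⟨t, rfl⟩ := Submodule.mem_span_singleton.mp hm
        rw [S.smul, hgu, hσ, smul_comm] at hgv
        exact smul_left_injective F hv0 hgv
      · simpa using hindep u v cu cv hu hv huv (linearIndependent_pair_of hu0 hm) hgu hgv 1
          one_ne_zero
    have key : ∀ v ∈ Submodule.span F {x : V | Q x = 0}, S.T v = c • v := by
      intro v hv
      induction hv using Submodule.span_induction with
      | mem v hv =>
        rcases eq_or_ne v 0 with rfl | hv0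
        · rw [map_zero, smul_zero]
        obtain ⟨d, hd⟩ := heig v hv hv0
        set U := Submodule.span F (Set.range ![z, v])
        have hU : Module.finrank F U ≤ 2 := (finrank_range_le_card _).trans (by simp)
        obtain ⟨k, hk, hk0, hQk⟩ := exists_singular_of_three (Q := Q) (perpS Q U) (by
          have := finrank_perp_le hQ hU; have := hQ.dim; omega)
        obtain ⟨ck, hck⟩ := heig k hQk hk0
        rw [hd, heq z k c ck hQz hQk (hk z (Submodule.subset_span ⟨0, rfl⟩)) hz0 hk0 hc hck,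
          heq v k d ck hv hQk (hk v (Submodule.subset_span ⟨1, rfl⟩)) hv0 hk0 hd hck]
      | zero => rw [map_zero, smul_zero]
      | add x y _ _ hx hy => rw [map_add, hx, hy, smul_add]
      | smul t x _ hx => rw [S.smul, hx, hσ, smul_comm]
    rw [span_singular_top hQ.nd hQ.five] at key
    obtain ⟨a, ha⟩ := exists_aniso hQ.nd (by have := hQ.dim; omega)
    refine ⟨Units.mk0 c hc0, Semi.ext' (RingEquiv.ext hσ) (fun v => key v trivial) (Units.ext ?_)⟩
    have h2 := S.quad a
    rw [key a trivial, quad_smul, hσ] at h2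
    exact (mul_right_cancel₀ ha h2).symm
  · rintro ⟨u, rfl⟩
    refine MulEquiv.ext fun x => ?_
    obtain ⟨g, rfl⟩ := QuotientGroup.mk'_surjective _ x
    refine congrArg (toPG Q) (Subtype.ext (Subtype.ext (LinearEquiv.ext fun v => ?_)))
    change (u : F) • g.1.1 (((u⁻¹ : Fˣ) : F) • v) = g.1.1 v
    rw [map_smul, smul_smul, Units.mul_inv, one_smul]

theorem scalarHom_injective : Function.Injective (scalarHom Q) := fun u w h => by
  obtain ⟨a, ha⟩ := exists_aniso hQ.nd (by have := hQ.dim; omega)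
  have ha0 : a ≠ 0 := fun e => ha (by rw [e, QuadraticMap.map_zero])
  exact Units.ext (smul_left_injective F ha0 (congrArg (fun S : Semi Q => S.T a) h))

theorem conj_injective_PG : Function.Injective (MulAut.conj : PG Q →* MulAut (PG Q)) := by
  rw [← MonoidHom.ker_eq_bot_iff, eq_bot_iff]
  intro x hx
  obtain ⟨g, rfl⟩ := QuotientGroup.mk'_surjective _ x
  rw [MonoidHom.mem_ker, ← pgHom_iso_conj] at hx
  obtain ⟨u, hu⟩ := (mem_ker_pgHom hQ).mp hx
  have huu : ((u : F) * u) = 1 := congrArg (fun S : Semi Q => (S.c : F)) hu.symm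
  exact Subgroup.mem_bot.mpr ((QuotientGroup.eq_one_iff _).mpr
    ((center_iff hQ.nd hQ.five g).mpr ⟨u, huu, fun v => congrArg (fun S : Semi Q => S.T v) hu⟩))

/-- The automorphism group has order `|Semi| / (q - 1)`. -/
theorem card_aut_mul (hs : Shape Q) :
    Nat.card (MulAut (PG Q)) * (Nat.card F - 1) = Nat.card (Semi Q) := by
  rw [Subgroup.card_eq_card_quotient_mul_card_subgroup (pgHom Q).ker,
    Nat.card_congr (QuotientGroup.quotientKerEquivOfSurjective _ (pgHom_surjective hQ hs)).toEquiv]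
  congr 1
  have hker : (pgHom Q).ker = (scalarHom Q).range := by
    ext S
    rw [MonoidHom.mem_ker, mem_ker_pgHom hQ]
    exact ⟨fun ⟨u, hu⟩ => ⟨u, hu.symm⟩, fun ⟨u, hu⟩ => ⟨u, hu.symm⟩⟩
  rw [hker, ← Nat.card_congr (MonoidHom.ofInjective (scalarHom_injective hQ)).toEquiv,
    Nat.card_units]

end Finite

section matrices

variable {ι : Type} [Fintype ι] [DecidableEq ι] {Q : QuadraticForm F (ι → F)}

/-- The induced automorphisms of the matrix group as a homomorphism. -/
noncomputable def pomHom (Q : QuadraticForm F (ι → F)) :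
    Semi Q →* MulAut (Cfsg.POmega F ⇑Q) where
  toFun S := S.pomAut
  map_one' := MulEquiv.ext fun x => (pOmegaEquiv Q).injective (by
    change pOmegaEquiv Q ((pOmegaEquiv Q).symm (pgHom Q 1 (pOmegaEquiv Q x))) = _
    rw [MulEquiv.apply_symm_apply, map_one]
    rfl)
  map_mul' S S' := MulEquiv.ext fun x => (pOmegaEquiv Q).injective (by
    change pOmegaEquiv Q ((pOmegaEquiv Q).symm (pgHom Q (S * S') (pOmegaEquiv Q x))) =
      pOmegaEquiv Q ((pOmegaEquiv Q).symm (S.pgAut (pOmegaEquiv Q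
        ((pOmegaEquiv Q).symm (S'.pgAut (pOmegaEquiv Q x))))))
    simp only [MulEquiv.apply_symm_apply, map_mul]
    rfl)

theorem pomHom_apply (S : Semi Q) : pomHom Q S = S.pomAut := rfl

theorem pomHom_eq_one_iff {S : Semi Q} : pomHom Q S = 1 ↔ pgHom Q S = 1 := by
  constructor <;> intro h <;> refine MulEquiv.ext fun x => ?_
  · obtain ⟨y, rfl⟩ := (pOmegaEquiv Q).surjective x
    have h1 := congrArg (pOmegaEquiv Q) (DFunLike.congr_fun h y)
    rwa [pomHom_apply, Semi.pomAut, MulEquiv.trans_apply, MulEquiv.trans_apply,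
      MulEquiv.apply_symm_apply] at h1
  · rw [pomHom_apply, Semi.pomAut, MulEquiv.trans_apply, MulEquiv.trans_apply,
      ← pgHom_apply, h]
    exact (pOmegaEquiv Q).symm_apply_apply x

theorem pomHom_apply' (S : Semi Q) (x : Cfsg.POmega F ⇑Q) :
    pomHom Q S x = (pOmegaEquiv Q).symm (pgHom Q S (pOmegaEquiv Q x)) := rfl

theorem pomHom_iso_conj (g : ↥(Om Q)) :
    pomHom Q (isoHom Q g.1) = MulAut.conj ((pOmegaEquiv Q).symm (toPG Q g)) := by
  refine MulEquiv.ext fun x => ?_
  rw [pomHom_apply', pgHom_iso_conj]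
  simp only [MulAut.conj_apply, map_mul, map_inv, MulEquiv.symm_apply_apply]

/-- The map to the outer automorphism group. -/
noncomputable def outHom (Q : QuadraticForm F (ι → F)) : Semi Q →* Cfsg.Out (Cfsg.POmega F ⇑Q) :=
  (QuotientGroup.mk' (Cfsg.Inn (Cfsg.POmega F ⇑Q))).comp (pomHom Q)

variable [Finite F] (hQ : Big Q)
include hQ

theorem pomHom_surjective (hs : Shape Q) : Function.Surjective (pomHom Q) := fun β => by
  obtain ⟨S, rfl⟩ := exists_semi_pomAut hQ hs β
  exact ⟨S, rfl⟩

theorem outHom_surjective (hs : Shape Q) : Function.Surjective (outHom Q) :=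
  (QuotientGroup.mk'_surjective _).comp (pomHom_surjective hQ hs)

theorem pomHom_mem_inn_iff {S : Semi Q} :
    pomHom Q S ∈ Cfsg.Inn (Cfsg.POmega F ⇑Q) ↔
      ∃ (u : Fˣ) (g : ↥(Om Q)), S = scalarHom Q u * isoHom Q g.1 := by
  constructor
  · rintro ⟨x, hx⟩
    obtain ⟨g, hg⟩ := QuotientGroup.mk'_surjective _ (pOmegaEquiv Q x)
    have hxg : x = (pOmegaEquiv Q).symm (toPG Q g) := by rw [hg, MulEquiv.symm_apply_apply]
    rw [hxg, ← pomHom_iso_conj] at hx
    have h1 : pgHom Q (S * (isoHom Q g.1)⁻¹) = 1 := by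
      rw [← pomHom_eq_one_iff, map_mul, map_inv, ← hx, mul_inv_cancel]
    obtain ⟨u, hu⟩ := (mem_ker_pgHom hQ).mp h1
    exact ⟨u, g, mul_inv_eq_iff_eq_mul.mp hu⟩
  · rintro ⟨u, g, rfl⟩
    rw [map_mul, pomHom_eq_one_iff.mpr ((mem_ker_pgHom hQ).mpr ⟨u, rfl⟩), one_mul,
      pomHom_iso_conj]
    exact ⟨_, rfl⟩

theorem outHom_eq_one_iff {S : Semi Q} :
    outHom Q S = 1 ↔ ∃ (u : Fˣ) (g : ↥(Om Q)), S = scalarHom Q u * isoHom Q g.1 := by
  rw [← pomHom_mem_inn_iff hQ]
  exact QuotientGroup.eq_one_iff _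

theorem card_mulAut_eq : Nat.card (MulAut (Cfsg.POmega F ⇑Q)) = Nat.card (MulAut (PG Q)) :=
  Nat.card_congr (MulAut.congr (pOmegaEquiv Q)).toEquiv

theorem card_inn : Nat.card (Cfsg.Inn (Cfsg.POmega F ⇑Q)) = Nat.card (Cfsg.POmega F ⇑Q) := by
  refine (Nat.card_congr (MonoidHom.ofInjective (f := (MulAut.conj :
    Cfsg.POmega F ⇑Q →* MulAut (Cfsg.POmega F ⇑Q))) fun x y h => ?_).toEquiv).symm
  refine (pOmegaEquiv Q).injective (conj_injective_PG hQ (MulEquiv.ext fun z => ?_))
  have h1 := congrArg (pOmegaEquiv Q) (DFunLike.congr_fun h ((pOmegaEquiv Q).symm z))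
  simpa using h1

theorem card_aut_eq_out :
    Nat.card (MulAut (Cfsg.POmega F ⇑Q)) =
      Nat.card (Cfsg.Out (Cfsg.POmega F ⇑Q)) * Nat.card (Cfsg.POmega F ⇑Q) := by
  rw [← card_inn hQ]
  exact Subgroup.card_eq_card_quotient_mul_card_subgroup _

end matrices

end CfsgLib.AutPOm
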