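import Cfsg.Agent.AutPOm.Counts
import Cfsg.Agent.AutPOm.Extensions
import Cfsg.Agent.AutPOm.Frobenius
import Cfsg.Agent.AutPOm.SimSign

/-!
The outer automorphism groups of the orthogonal groups of minus type.
-/

set_option autoImplicit false
set_option linter.style.haveILetI false

namespace CfsgLib.AutPOm

open QuadraticMap CfsgLib.Forms CfsgLib.Quad

variable {F : Type*} [Field F] [Finite F] {a b : F}
  (hab : ∀ z₁ z₂ : F, z₁ ^ 2 + a * z₁ * z₂ + b * z₂ ^ 2 = 0 → z₁ = 0 ∧ z₂ = 0)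
include hab

omit hab in
theorem card_minus_index (m : ℕ) : Fintype.card ((Fin m ⊕ Fin m) ⊕ Fin 2) = 2 * (m + 1) := by
  simp
  omega

omit hab in
theorem even_finrank_minus (m : ℕ) :
    Even (Module.finrank F ((Fin m ⊕ Fin m) ⊕ Fin 2 → F)) :=
  ⟨m + 1, by rw [Module.finrank_fintype_fun_eq_card, card_minus_index]; ring⟩

theorem conjVec_quad_ne_zero (m : ℕ) : minusQ m a b (conjVec m a) ≠ 0 := by
  rw [quad_conjVec]
  exact disc_ne_zero hab

theorem out_minus_two {f : ℕ} (hf : 1 ≤ f) (hF : Nat.card F = 2 ^ f) {m : ℕ} (hm : 3 ≤ m) :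
    IsCyclic (Cfsg.Out (Cfsg.POmega F ⇑(minusQ (F := F) m a b))) ∧
      Nat.card (Cfsg.Out (Cfsg.POmega F ⇑(minusQ (F := F) m a b))) = 2 * f := by
  haveI : Fact (Nat.Prime 2) := ⟨Nat.prime_two⟩
  obtain ⟨hQ, hs⟩ := big_minusQ hab hm
  have hout := card_out_of_aut hQ hs (card_aut_minus hf hF hab hm)
  rw [if_pos rfl] at hout
  refine ⟨?_, hout⟩
  have hker := card_ker_outSigma hQ hs (minus_sigma_surjective hab m) hf hF
  rw [hout] at hker
  haveI : Finite (Cfsg.Out (Cfsg.POmega F ⇑(minusQ (F := F) m a b))) :=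
    Nat.finite_of_card_ne_zero (by omega)
  obtain ⟨T, hord, hTf, -⟩ := exists_frob_semi hab hf hF m
  refine isCyclic_of_card_two (outSigma hQ hs) (f := f) (by omega)
    (Nat.eq_of_mul_eq_mul_right (by omega) hker) hout (t := outHom _ T)
    (by rw [outSigma_outHom]; exact hord) ?_
  rw [← map_pow, hTf]
  exact outHom_refl_ne_one_of_even hQ (conjVec_quad_ne_zero hab m) (even_finrank_minus m)

theorem out_minus_odd {p f : ℕ} [Fact p.Prime] (hf : 1 ≤ f) (hF : Nat.card F = p ^ f) (hp : p ≠ 2)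
    {m : ℕ} (hm : 3 ≤ m) :
    (p ^ f % 4 = 3 ∧ Odd (m + 1) →
      Nonempty (Cfsg.Out (Cfsg.POmega F ⇑(minusQ (F := F) m a b)) ≃*
        DihedralGroup 4 × Multiplicative (ZMod f))) ∧
    (¬ (p ^ f % 4 = 3 ∧ Odd (m + 1)) →
      Nonempty (Cfsg.Out (Cfsg.POmega F ⇑(minusQ (F := F) m a b)) ≃*
        Multiplicative (ZMod 2 × ZMod (2 * f)))) := by
  haveI := Fintype.ofFinite F
  obtain ⟨hQ, hs⟩ := big_minusQ hab hm
  have h2 := two_ne_zero_of hf hF hp
  have hodd : Odd (p ^ f) := ((Fact.out : p.Prime).odd_of_ne_two hp).pow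
  have hiff := negIso_minus_iff hF hodd h2 hab m
  rw [pow_mod_four hodd] at hiff
  have hσs := minus_sigma_surjective hab m
  have hout := card_out_of_aut hQ hs (card_aut_minus hf hF hab hm)
  rw [if_neg hp] at hout
  have hker := card_ker_outSigma hQ hs hσs hf hF
  rw [hout] at hker
  haveI : Finite (Cfsg.Out (Cfsg.POmega F ⇑(minusQ (F := F) m a b))) :=
    Nat.finite_of_card_ne_zero (by rw [hout]; split_ifs <;> omega)
  -- the reflection and a similarity with non-square multiplier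
  obtain ⟨ν, hν⟩ := FiniteField.exists_nonsquare (F := F) (fun e => h2 (by
    have := ringChar.Nat.cast_ringChar (R := F)
    rw [e] at this
    exact_mod_cast this))
  have hν0 : ν ≠ 0 := fun e => hν (e ▸ ⟨0, by ring⟩)
  obtain ⟨δ, hδσ, hδc⟩ := minus_exists_mult hab m (Units.mk0 ν hν0)
  have hns : ¬ IsSquare (δ.c : F) := by rw [hδc]; exact hν
  set v := conjVec m a with hv
  have hv0 : minusQ m a b v ≠ 0 := conjVec_quad_ne_zero hab m
  set π := outSigma hQ hs with hπ
  set r := outHom _ (isoHom _ (refl (minusQ m a b) v)) with hr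
  set d := outHom _ δ with hd
  have hrk : r ∈ π.ker := by rw [MonoidHom.mem_ker, hr, outSigma_outHom]; rfl
  have hdk : d ∈ π.ker := by rw [MonoidHom.mem_ker, hd, outSigma_outHom, hδσ]; rfl
  have hr1 : r ≠ 1 := outHom_refl_ne_one_of_even hQ hv0 (even_finrank_minus m)
  have hr2 : r * r = 1 := by rw [hr, ← map_mul, ← map_mul, refl_mul_self, map_one, map_one]
  obtain ⟨e⟩ := CfsgLib.AutPSL.nonempty_ringAut_equiv (F := F) hf
    (Nat.card_eq_fintype_card.symm.trans hF)
  constructor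
  · rintro ⟨h4, hm'⟩
    rw [if_pos ⟨hm', h4⟩] at hker
    have hfodd : Odd f := by
      by_contra h
      rw [pow_mod_four ((Fact.out : p.Prime).odd_of_ne_two hp), if_neg h] at h4
      omega
    have hz : negIso (minusQ m a b) ∈ Om (minusQ m a b) := hiff.mpr (by rw [if_pos hm']; exact h4)
    have hncomm : r * d ≠ d * r := by
      intro h
      have hkey : outHom _ (δ * isoHom _ (refl (minusQ m a b) v)) = d * r := by rw [map_mul]
      rw [δ.mul_refl, map_mul, ← h] at hkey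
      have h1 : outHom _ (isoHom _ (refl (minusQ m a b) (δ.T v) * refl (minusQ m a b) v)) = 1 := by
        rw [map_mul, map_mul, mul_right_cancel hkey, ← hr, hr2]
      have hmem : refl (minusQ m a b) (δ.T v) * refl (minusQ m a b) v ∈ Om (minusQ m a b) := by
        rcases (outHom_iso_eq_one_iff hQ).mp h1 with h1 | h1
        · exact h1
        · exact (Subgroup.mul_mem_cancel_left _ hz).mp h1
      have hn : 2 ≤ Module.finrank F ((Fin m ⊕ Fin m) ⊕ Fin 2 → F) := by have := hQ.dim; omega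
      obtain ⟨θ, hθ⟩ := exists_spinor hQ.nd h2 hn
      have hq : minusQ m a b (δ.T v) = (δ.c : F) * minusQ m a b v := by
        rw [δ.quad, hδσ]; rfl
      have hne : minusQ m a b (δ.T v) ≠ 0 := by rw [hq]; exact mul_ne_zero δ.c.ne_zero hv0
      have h3 := ((mem_commutator_iff hQ.nd h2 hn hθ _).mp hmem).2
      rw [map_mul, mul_eq_one_iff_eq_inv, Int.units_inv_eq_self] at h3
      have h5 : IsSquare (minusQ m a b (δ.T v)) ↔ IsSquare (minusQ m a b v) := by
        rw [← hθ _ hne, ← hθ _ hv0, h3]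
      have h6 := (isSquare_mul_iff h2 hne hv0).mpr h5
      refine hns ?_
      have h7 := h6.mul (IsSquare.mul_self (minusQ m a b v)⁻¹)
      rw [hq] at h7
      have h9 : (δ.c : F) * minusQ m a b v * minusQ m a b v *
          ((minusQ m a b v)⁻¹ * (minusQ m a b v)⁻¹) = (δ.c : F) := by field_simp
      rwa [h9] at h7
    have h8 : Nat.card π.ker = 8 := Nat.eq_of_mul_eq_mul_right (by omega) hker
    obtain ⟨eK⟩ := nonempty_equiv_dihedral h8 (a := (⟨r, hrk⟩ : π.ker)) (b := ⟨d, hdk⟩)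
      (Subtype.ext hr2) (fun h => hncomm (congrArg Subtype.val h))
    exact nonempty_equiv_dihedral_prod π hfodd e (fun σ => by
      obtain ⟨S, hS⟩ := hσs σ
      exact ⟨outHom _ S, (outSigma_outHom hQ hs S).trans hS⟩) eK
  · intro hcase
    rw [if_neg fun h => hcase ⟨h.2, h.1⟩] at hker hout
    haveI : NeZero f := ⟨by omega⟩
    have hz : negIso (minusQ m a b) ∉ Om (minusQ m a b) := fun h => by
      have h4 := hiff.mp h
      by_cases hm' : Odd (m + 1)
      · rw [if_pos hm'] at h4; exact hcase ⟨h4, hm'⟩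
      · rw [if_neg hm'] at h4; omega
    have hk4 : Nat.card π.ker = 4 := Nat.eq_of_mul_eq_mul_right (by omega) hker
    have hsq : ∀ k ∈ π.ker, k * k = 1 := by
      intro k hk
      obtain ⟨S, rfl⟩ := outHom_surjective hQ hs k
      rw [MonoidHom.mem_ker, hπ, outSigma_outHom] at hk
      exact outHom_sq_eq_one hQ h2 (card_minus_index m) hz hk
    obtain ⟨T, hord, hTf, -⟩ := exists_frob_semi hab hf hF m
    have htf : outHom _ T ^ f = r := by rw [← map_pow, hTf]
    have hd1 : d ≠ 1 := outHom_ne_one_of_nonsquare hQ hns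
    have hdr : d ≠ r := by
      intro h
      refine outHom_ne_one_of_nonsquare (S := isoHom _ (refl (minusQ m a b) v) * δ) hQ ?_
        (by rw [map_mul, ← hr, ← hd, h, hr2])
      rw [Semi.mul_c]
      change ¬ IsSquare ((1 : F) * (δ.c : F))
      rwa [one_mul]
    have hcomm : Commute d (outHom _ T) := by
      set X := T * δ * T⁻¹ * δ⁻¹ with hX
      have hXT : X * δ * T = T * δ := by rw [hX, inv_mul_cancel_right, inv_mul_cancel_right]
      have hXσ : X.σ = RingEquiv.refl F := by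
        have h := congrArg (sigmaHom _) hXT
        simp only [map_mul, sigmaHom_apply, hδσ] at h
        exact mul_right_cancel (b := T.σ) (h.trans (one_mul T.σ).symm)
      have hc : (X.c : F) * (δ.c : F) = T.σ (δ.c : F) := by
        have h := congrArg (fun S : Semi (minusQ m a b) => (S.c : F)) hXT
        simp only [Semi.mul_c] at h
        rw [show (X * δ).σ = X.σ * δ.σ from rfl, hXσ, hδσ] at h
        change (X.c : F) * (δ.c : F) * (T.c : F) = (T.c : F) * T.σ (δ.c : F) at h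
        exact mul_right_cancel₀ T.c.ne_zero (h.trans (mul_comm _ _))
      have hdet : (X.mat : Matrix ((Fin m ⊕ Fin m) ⊕ Fin 2) ((Fin m ⊕ Fin m) ⊕ Fin 2) F).det * (δ.mat : Matrix ((Fin m ⊕ Fin m) ⊕ Fin 2) ((Fin m ⊕ Fin m) ⊕ Fin 2) F).det =
          T.σ (δ.mat : Matrix ((Fin m ⊕ Fin m) ⊕ Fin 2) ((Fin m ⊕ Fin m) ⊕ Fin 2) F).det := by
        have h := congrArg (fun S : Semi (minusQ m a b) => (S.mat : Matrix ((Fin m ⊕ Fin m) ⊕ Fin 2) ((Fin m ⊕ Fin m) ⊕ Fin 2) F).det) hXT
        simp only [Semi.det_mul] at h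
        rw [show (X * δ).σ = X.σ * δ.σ from rfl, hXσ, hδσ] at h
        change (X.mat : Matrix ((Fin m ⊕ Fin m) ⊕ Fin 2) ((Fin m ⊕ Fin m) ⊕ Fin 2) F).det * (δ.mat : Matrix ((Fin m ⊕ Fin m) ⊕ Fin 2) ((Fin m ⊕ Fin m) ⊕ Fin 2) F).det * (T.mat : Matrix ((Fin m ⊕ Fin m) ⊕ Fin 2) ((Fin m ⊕ Fin m) ⊕ Fin 2) F).det =
          (T.mat : Matrix ((Fin m ⊕ Fin m) ⊕ Fin 2) ((Fin m ⊕ Fin m) ⊕ Fin 2) F).det * T.σ (δ.mat : Matrix ((Fin m ⊕ Fin m) ⊕ Fin 2) ((Fin m ⊕ Fin m) ⊕ Fin 2) F).det at h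
        exact mul_right_cancel₀ T.det_ne_zero (h.trans (mul_comm _ _))
      have hXc : IsSquare (X.c : F) := by
        have hT : ¬ IsSquare (T.σ (δ.c : F)) := fun h => hns (by simpa using h.map T.σ.symm)
        obtain ⟨w, hw⟩ := isSquare_div_of_nonsquare h2 hT hns
        exact ⟨w, by rw [← hw, eq_div_iff δ.c.ne_zero, hc]⟩
      have hXd : (X.mat : Matrix ((Fin m ⊕ Fin m) ⊕ Fin 2) ((Fin m ⊕ Fin m) ⊕ Fin 2) F).det = (X.c : F) ^ (m + 1) := by
        have hs2 := δ.det_sq hQ.nd hδσ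
        rw [card_minus_index, mul_comm 2, pow_mul] at hs2
        have hk : (δ.mat : Matrix ((Fin m ⊕ Fin m) ⊕ Fin 2) ((Fin m ⊕ Fin m) ⊕ Fin 2) F).det = (δ.c : F) ^ (m + 1) ∨
            (δ.mat : Matrix ((Fin m ⊕ Fin m) ⊕ Fin 2) ((Fin m ⊕ Fin m) ⊕ Fin 2) F).det = -(δ.c : F) ^ (m + 1) := sq_eq_sq_iff_eq_or_eq_neg.mp hs2
        refine mul_right_cancel₀ δ.det_ne_zero (hdet.trans ?_)
        rcases hk with hk | hk <;> rw [hk]
        · rw [map_pow, ← hc, mul_pow]
        · rw [map_neg, map_pow, ← hc, mul_pow, mul_neg]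
      have h1 := outHom_eq_one_of_sign hQ h2 (card_minus_index m) hz hXσ hXc hXd
      have h2' := congrArg (outHom _) hXT
      rw [map_mul, map_mul, h1, one_mul, map_mul] at h2'
      exact h2'
    exact nonempty_equiv_two_cyclic π hk4 hsq hout (t := outHom _ T) (d := d)
      (by rw [hπ, outSigma_outHom]; exact hord) (by rw [htf]; exact hr1) hdk hd1
      (by rw [htf]; exact hdr) hcomm

end CfsgLib.AutPOm
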