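import Cfsg.Agent.AutPOm.MinusFieldMain
import Cfsg.Agent.AutPOm.OutMinus

/-!
Similarities that square to a scalar.
-/

set_option autoImplicit false
set_option linter.style.haveILetI false

namespace CfsgLib.AutPOm

open QuadraticMap CfsgLib.Forms CfsgLib.Quad Matrix

/-- The determinant of a square root of a nonsquare scalar. -/
theorem det_of_sq_nonsquare {F : Type*} [Field F] {n : Type} [Fintype n] [DecidableEq n]
    {A : Matrix n n F} {u : F} (hA : A * A = u • (1 : Matrix n n F)) (hu : ¬ IsSquare u) {k : ℕ}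
    (hk : Fintype.card n = 2 * k) : A.det = (-u) ^ k := by
  classical
  open Polynomial in
  have key : A.charpoly * (-A).charpoly = ((X : F[X]) ^ 2 - C u) ^ Fintype.card n := by
    rw [Matrix.charpoly, Matrix.charpoly, ← Matrix.det_mul]
    have h : charmatrix A * charmatrix (-A) = ((X : F[X]) ^ 2 - C u) • (1 : Matrix n n F[X]) := by
      have hmap : (A.map C) * (A.map C) = (C u) • (1 : Matrix n n F[X]) := by
        rw [← Matrix.map_mul, hA]
        ext i j
        by_cases hij : i = j <;> simp [hij]
      have e1 : charmatrix A = (X : F[X]) • (1 : Matrix n n F[X]) - A.map C := by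
        ext i j
        by_cases hij : i = j <;> simp [hij]
      have e2 : charmatrix (-A) = (X : F[X]) • (1 : Matrix n n F[X]) + A.map C := by
        ext i j
        by_cases hij : i = j <;> simp [hij]
      rw [e1, e2, mul_add, sub_mul, sub_mul, hmap, Matrix.smul_mul, Matrix.one_mul, Matrix.smul_mul,
        Matrix.mul_smul, Matrix.mul_one, Matrix.one_mul, smul_smul, pow_two, sub_smul]
      abel
    rw [h, Matrix.det_smul, Matrix.det_one, mul_one]
  open Polynomial in
  have hirr : Irreducible ((X : F[X]) ^ 2 - C u) :=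
    X_pow_sub_C_irreducible_of_prime Nat.prime_two fun b hb => hu ⟨b, by rw [← hb, pow_two]⟩
  open Polynomial in
  obtain ⟨j, -, hj⟩ := (dvd_prime_pow hirr.prime _).mp (Dvd.intro _ key)
  open Polynomial in
  have heq : A.charpoly = ((X : F[X]) ^ 2 - C u) ^ j :=
    Polynomial.eq_of_monic_of_associated A.charpoly_monic
      ((monic_X_pow_sub_C u two_ne_zero).pow j) hj
  have hdeg := congrArg Polynomial.natDegree heq
  rw [Matrix.charpoly_natDegree_eq_dim, Polynomial.natDegree_pow, Polynomial.natDegree_X_pow_sub_C,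
    hk] at hdeg
  obtain rfl : j = k := by omega
  rw [Matrix.det_eq_sign_charpoly_coeff, heq, hk, pow_mul, neg_one_sq, one_pow, one_mul,
    Polynomial.coeff_zero_eq_eval_zero, Polynomial.eval_pow]
  simp

variable {F : Type*} [Field F]

/-- A similitude of an odd dimensional non-degenerate form has square multiplier. -/
theorem isSquare_of_simil {W : Type*} [AddCommGroup W] [Module F W] [FiniteDimensional F W]
    {B : LinearMap.BilinForm F W} (hB : B.Nondegenerate) (hodd : Odd (Module.finrank F W))
    {c : F} (hc : c ≠ 0) (L : W →ₗ[F] W) (h : ∀ x y, B (L x) (L y) = c * B x y) : IsSquare c := by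
  classical
  let bs := Module.finBasis F W
  have hcomp : B.compl₁₂ L L = c • B := LinearMap.ext fun x => LinearMap.ext fun y => h x y
  have hG := congrArg (LinearMap.toMatrix₂ bs bs) hcomp
  rw [LinearMap.toMatrix₂_compl₁₂ bs bs bs bs, map_smul] at hG
  have hdet : (LinearMap.toMatrix₂ bs bs B).det ≠ 0 := by
    rw [← Matrix.nondegenerate_iff_det_ne_zero]
    exact (LinearMap.nondegenerate_toMatrix₂_iff bs bs).mpr hB
  have h' := congrArg Matrix.det hG
  rw [Matrix.det_mul, Matrix.det_mul, Matrix.det_transpose, Matrix.det_smul, mul_right_comm,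
    Fintype.card_fin] at h'
  have h1 := mul_right_cancel₀ hdet h'
  obtain ⟨k, hk⟩ := hodd
  refine ⟨(LinearMap.toMatrix bs bs L).det / c ^ k, ?_⟩
  rw [div_mul_div_comm, h1, hk, eq_div_iff (mul_ne_zero (pow_ne_zero _ hc) (pow_ne_zero _ hc))]
  ring

variable {V : Type*} [AddCommGroup V] [Module F V] [FiniteDimensional F V] {Q : QuadraticForm F V}

/-- The polar form on the fixed space of an involutive isometry is non-degenerate. -/
theorem nondeg_fixSp (hQ : (polarBilin Q).Nondegenerate) (h2 : (2 : F) ≠ 0) {g : oGroup Q}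
    (hg : g * g = 1) :
    ((polarBilin Q).compl₁₂ (fixSp g).subtype (fixSp g).subtype).Nondegenerate := by
  have key : ∀ x : fixSp g, (∀ y : fixSp g, polar Q x.1 y.1 = 0) → x = 0 := by
    intro x hx
    refine Subtype.ext ?_
    by_contra hne
    obtain ⟨v, hv⟩ := exists_polar_ne hQ hne
    refine hv ?_
    have hmem : v + g.1 v ∈ fixSp g := by
      rw [mem_fixSp, map_add]
      have : g.1 (g.1 v) = v := congrArg (fun t : oGroup Q => t.1 v) hg
      rw [this, add_comm]
    have h := hx ⟨_, hmem⟩
    change polar Q x.1 (v + g.1 v) = 0 at h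
    have hgx : polar Q x.1 (g.1 v) = polar Q x.1 v := by
      conv_lhs => rw [← mem_fixSp.mp x.2]
      simp only [polar, ← map_add]
      exact congrArg₂ (· - ·) (congrArg₂ (· - ·) (g.2 _) (g.2 _)) (g.2 _)
    rw [polar_add_right, hgx, ← two_mul, mul_eq_zero] at h
    exact h.resolve_left h2
  exact ⟨fun x hx => key x hx, fun y hy => key y fun x => (polar_comm Q _ _).trans (hy x)⟩

omit [FiniteDimensional F V] in
/-- The reflections in orthogonal vectors commute. -/
theorem refl_comm_of_orth {x y : V} (h : polar Q y x = 0) :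
    refl Q x * refl Q y = refl Q y * refl Q x := by
  rw [← mul_inv_eq_iff_eq_mul, refl_conj, refl_fix h]

section finite

variable [Finite F]

/-- A self-adjoint map without eigenvectors has an anisotropic vector orthogonal to its image. -/
theorem exists_orth_image (hQ : (polarBilin Q).Nondegenerate) (h2 : (2 : F) ≠ 0)
    (hn : 5 ≤ Module.finrank F V) (T : V →ₗ[F] V)
    (hsym : ∀ x y, polar Q (T x) y = polar Q x (T y))
    (hind : ∀ x, x ≠ 0 → ∀ t : F, T x ≠ t • x) :
    ∃ x, Q x ≠ 0 ∧ polar Q x (T x) = 0 := by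
  obtain ⟨e, -, he, hee⟩ := exists_singular_of_three
    (Q := LinearMap.BilinMap.toQuadraticMap ((polarBilin Q).compl₂ T)) ⊤ (by rw [finrank_top]; omega)
  change polar Q e (T e) = 0 at hee
  by_cases hQe : Q e = 0
  swap
  · exact ⟨e, hQe, hee⟩
  let l : V →ₗ[F] F := polarFun Q e
  let l' : V →ₗ[F] F := polarFun Q (T e)
  obtain ⟨w, hw1, hw2, hw3⟩ : ∃ w, l w = 0 ∧ l' w ≠ 0 ∧ Q w ≠ 0 := by
    by_contra hc
    push Not at hc
    obtain ⟨w₀, hw₀, hw₀'⟩ : ∃ w, l w = 0 ∧ l' w ≠ 0 := by
      by_contra hc'
      push Not at hc'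
      have hker : LinearMap.ker l ≤ LinearMap.ker l' := fun w hw => hc' w hw
      obtain ⟨t, ht⟩ := Submodule.mem_span_singleton.mp
        ((perpS_perpS hQ (Submodule.span F {e})).le (show T e ∈ perpS Q (perpS Q (Submodule.span F {e})) by
          rw [mem_perpS]
          intro w hw
          have hlw : l w = 0 := by
            change polar Q w e = 0
            rw [polar_comm]
            exact mem_perpS.mp hw e (Submodule.mem_span_singleton_self e)
          exact hker hlw))
      exact hind e he t ht.symm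
    have hzero : ∀ w ∈ LinearMap.ker l, Q w = 0 := by
      intro w hw
      by_cases hlw : l' w = 0
      swap
      · exact hc w hw hlw
      have h1 : Q (w + w₀) = 0 := hc _ (by rw [map_add, hw, hw₀, add_zero]) (by rw [map_add, hlw, zero_add]; exact hw₀')
      have h3 : Q (w + (-1 : F) • w₀) = 0 := hc _ (by rw [map_add, map_smul, hw, hw₀, smul_zero, add_zero])
        (by rw [map_add, map_smul, hlw, zero_add, neg_one_smul]; exact neg_ne_zero.mpr hw₀')
      have h0 : Q w₀ = 0 := hc _ hw₀ hw₀'
      rw [quad_add, h0] at h1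
      rw [quad_add, quad_smul, h0, polar_smul_right, smul_eq_mul] at h3
      exact (mul_eq_zero.mp (show (2 : F) * Q w = 0 by linear_combination h1 + h3)).resolve_left h2
    have hle : LinearMap.ker l ≤ perpS Q (LinearMap.ker l) := fun a ha => mem_perpS.mpr fun b hb => by
      simp only [polar, hzero _ (Submodule.add_mem _ hb ha), hzero a ha, hzero b hb, sub_zero]
    have h4 := finrank_perpS hQ (LinearMap.ker l)
    have h5 := Submodule.finrank_mono hle
    have h6 := l.finrank_range_add_finrank_ker
    have h7 : Module.finrank F (LinearMap.range l) ≤ 1 :=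
      (Submodule.finrank_le _).trans (Module.finrank_self F).le
    omega
  have hwT : polar Q e (T w) ≠ 0 := by
    rw [← hsym, polar_comm]
    exact hw2
  refine ⟨w + (-(polar Q w (T w)) / (2 * polar Q e (T w))) • e, ?_, ?_⟩
  · rw [quad_add, quad_smul, hQe, mul_zero, add_zero, polar_smul_right, smul_eq_mul]
    change Q w + _ * l w ≠ 0
    rw [hw1, mul_zero, add_zero]
    exact hw3
  · rw [map_add, map_smul]
    simp only [polar_add_left, polar_add_right, polar_smul_left, polar_smul_right, smul_eq_mul, hee,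
      mul_zero, add_zero]
    rw [show polar Q w (T e) = polar Q e (T w) by rw [← hsym, polar_comm]]
    field_simp
    ring

end finite

/-- A similarity of the minus form squaring to a scalar. -/
theorem exists_swap {K : Type*} [Field K] [Finite K] {a b : K}
    (hab : ∀ z₁ z₂ : K, z₁ ^ 2 + a * z₁ * z₂ + b * z₂ ^ 2 = 0 → z₁ = 0 ∧ z₂ = 0) {k : ℕ}
    (_hk : 3 ≤ k) (ν : Kˣ) :
    ∃ L : Semi (minusQ k a b), L.σ = RingEquiv.refl K ∧ L.c = ν ∧
      ∀ v, L.T (L.T v) = (ν : K) • v := by
  obtain ⟨w₁, w₂, hw⟩ := exists_bin_norm hab (ν : K)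
  let S := minusSemi hab k (RingEquiv.refl K) ν w₁ w₂ a (-1) hw (by simp; ring) (by simp; ring)
  let e : ((Fin k ⊕ Fin k) ⊕ Fin 2) ≃ ((Fin k ⊕ Fin k) ⊕ Fin 2) :=
    Equiv.sumCongr (Equiv.sumComm _ _) (Equiv.refl _)
  let P : oGroup (minusQ k a b) := ⟨LinearEquiv.funCongrLeft K K e, fun v => by
    change minusQ k a b (fun i => v (e i)) = minusQ k a b v
    simp [minusQ_coe, Cfsg.quadFormMinus, e, mul_comm]⟩
  refine ⟨S * isoHom _ P, rfl, Units.ext ?_, fun v => ?_⟩
  · change (ν : K) * (RingEquiv.refl K) 1 = ν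
    rw [map_one, mul_one]
  · funext i
    rcases i with (i | i) | i
    · simp [Semi.mul_T, S, minusSemi_T, minusFun, isoHom, Semi.ofIso, P, e]
    · simp [Semi.mul_T, S, minusSemi_T, minusFun, isoHom, Semi.ofIso, P, e]
    · fin_cases i <;>
        simp [Semi.mul_T, S, minusSemi_T, minusFun, isoHom, Semi.ofIso, P, e] <;>
        first
        | linear_combination (v (Sum.inr 0)) * hw
        | linear_combination (v (Sum.inr 1)) * hw

end CfsgLib.AutPOm
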