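import Cfsg.Agent.AutPOm.Frame
import Cfsg.Agent.Quad.POmega
import Mathlib.GroupTheory.Sylow
import Mathlib.GroupTheory.PGroup

/-!
Root groups in the central quotient of `Omega`; lifting elements of `p`-power order; the centre of
a Sylow subgroup is a root group.
-/

set_option autoImplicit false
set_option linter.style.haveILetI false

namespace CfsgLib.AutPOm

open QuadraticMap CfsgLib.Forms CfsgLib.Quad

variable {F V : Type*} [Field F] [AddCommGroup V] [Module F V] {Q : QuadraticForm F V}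

/-- `Omega`. -/
abbrev Om (Q : QuadraticForm F V) : Subgroup (oGroup Q) := commutator (oGroup Q)

/-- The central quotient of `Omega`. -/
abbrev PG (Q : QuadraticForm F V) : Type _ := ↥(Om Q) ⧸ Subgroup.center ↥(Om Q)

/-- The projection. -/
abbrev toPG (Q : QuadraticForm F V) : ↥(Om Q) →* PG Q := QuotientGroup.mk' _

theorem finite_oGroup [Finite F] [FiniteDimensional F V] : Finite (oGroup Q) := by
  haveI : Finite V := Module.finite_of_finite F
  haveI : Finite (V ≃ₗ[F] V) := Finite.of_injective (fun g : V ≃ₗ[F] V => (⇑g : V → V)) DFunLike.coe_injective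
  infer_instance

/-- The root group of a line in `Omega`. -/
def omGrp (Q : QuadraticForm F V) (L : Submodule F V) : Subgroup ↥(Om Q) :=
  (rootGrp Q L).subgroupOf (Om Q)

/-- The root group of a line in the central quotient. -/
def rootImg (Q : QuadraticForm F V) (L : Submodule F V) : Subgroup (PG Q) :=
  (omGrp Q L).map (toPG Q)

/-- The intersection of a subgroup with its centraliser. -/
def zc {G : Type*} [Group G] (U : Subgroup G) : Subgroup G :=
  U ⊓ Subgroup.centralizer (U : Set G)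

theorem mem_zc {G : Type*} [Group G] {U : Subgroup G} {z : G} :
    z ∈ zc U ↔ z ∈ U ∧ ∀ u ∈ U, Commute u z := Iff.rfl

theorem zc_map {G H : Type*} [Group G] [Group H] (γ : G ≃* H) (U : Subgroup G) :
    (zc U).map γ.toMonoidHom = zc (U.map γ.toMonoidHom) := by
  ext x
  obtain ⟨y, rfl⟩ := γ.surjective x
  have hmem : ∀ (K : Subgroup G) (y : G), γ y ∈ K.map γ.toMonoidHom ↔ y ∈ K := fun K y =>
    ⟨fun ⟨z, hz, he⟩ => γ.injective he ▸ hz, fun h => ⟨y, h, rfl⟩⟩
  rw [hmem, mem_zc, mem_zc, hmem]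
  refine and_congr_right fun _ => ⟨fun h u hu => ?_, fun h u hu => ?_⟩
  · obtain ⟨v, hv, rfl⟩ := hu
    exact (h v hv).map γ.toMonoidHom
  · have := h (γ u) ⟨u, hu, rfl⟩
    exact γ.injective (by rw [map_mul, map_mul, this.eq])

variable [Finite F] [FiniteDimensional F V] (hQ : Big Q) (p : ℕ) [Fact p.Prime] [CharP F p]
include hQ

theorem center_spec {c : ↥(Om Q)} (hc : c ∈ Subgroup.center ↥(Om Q)) :
    c * c = 1 ∧ (p = 2 → c = 1) := by
  rcases center_omega_subset hQ.nd hQ.five c hc with rfl | h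
  · exact ⟨one_mul 1, fun _ => rfl⟩
  constructor
  · refine Subtype.ext (Subtype.ext (LinearEquiv.ext fun v => ?_))
    change c.1.1 (c.1.1 v) = v
    rw [h, negIso_apply, negIso_apply, neg_neg]
  · rintro rfl
    refine Subtype.ext (Subtype.ext (LinearEquiv.ext fun v => ?_))
    change c.1.1 v = v
    rw [h, negIso_apply, ← neg_one_smul F v, CharTwo.neg_eq, one_smul]

theorem center_pow_prime_pow {c : ↥(Om Q)} (hc : c ∈ Subgroup.center ↥(Om Q)) (k : ℕ) :
    c ^ p ^ k = c := by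
  obtain ⟨h2, hp2⟩ := center_spec hQ p hc
  rcases (Fact.out : p.Prime).eq_two_or_odd' with hp | hp
  · rw [hp2 hp, one_pow]
  · obtain ⟨m, hm⟩ := hp.pow (n := k)
    rw [hm, pow_succ, pow_mul, pow_two, h2, one_pow, one_mul]

/-- Elements of `p`-power order are determined by their images. -/
theorem lift_unique {g h : ↥(Om Q)} {k l : ℕ} (hg : g ^ p ^ k = 1) (hh : h ^ p ^ l = 1)
    (he : toPG Q g = toPG Q h) : g = h := by
  have hz : g⁻¹ * h ∈ Subgroup.center ↥(Om Q) := QuotientGroup.eq.mp he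
  have hc : Commute g⁻¹ h := by
    have h1 := Subgroup.mem_center_iff.mp hz g
    rw [mul_inv_cancel_left] at h1
    rw [eq_comm, mul_assoc, inv_mul_eq_iff_eq_mul] at h1
    exact Commute.inv_left h1.symm
  have h1 : (g⁻¹ * h) ^ p ^ (k + l) = 1 := by
    rw [hc.mul_pow, inv_pow, pow_add, pow_mul, hg, one_pow, inv_one, one_mul, mul_comm, pow_mul,
      hh, one_pow]
  rw [center_pow_prime_pow hQ p hz] at h1
  exact inv_mul_eq_one.mp h1

theorem exists_lift {x : PG Q} {k : ℕ} (hx : x ^ p ^ k = 1) :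
    ∃ g : ↥(Om Q), toPG Q g = x ∧ g ^ p ^ k = 1 := by
  obtain ⟨g, rfl⟩ := QuotientGroup.mk'_surjective _ x
  have hc : g ^ p ^ k ∈ Subgroup.center ↥(Om Q) := by
    rw [← QuotientGroup.eq_one_iff]
    exact hx
  refine ⟨g * g ^ p ^ k, ?_, ?_⟩
  · rw [map_mul]
    change toPG Q g * (g ^ p ^ k : ↥(Om Q)) = _
    rw [(QuotientGroup.eq_one_iff _).mpr hc, mul_one]
  · rw [(Commute.self_pow g _).mul_pow, center_pow_prime_pow hQ p hc, (center_spec hQ p hc).1]

theorem commute_lift {g h : ↥(Om Q)} {k : ℕ} (hh : h ^ p ^ k = 1)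
    (hc : Commute (toPG Q g) (toPG Q h)) : Commute g h := by
  have h1 : (g * h * g⁻¹) ^ p ^ k = 1 := by rw [conj_pow, hh, mul_one, mul_inv_cancel]
  have h2 : toPG Q (g * h * g⁻¹) = toPG Q h := by
    rw [map_mul, map_mul, map_inv, hc.eq, mul_inv_cancel_right]
  exact mul_inv_eq_iff_eq_mul.mp (lift_unique hQ p h1 hh h2)

theorem rootGrp_le_Om {L : Submodule F V} (hL : IsLine Q L) : rootGrp Q L ≤ Om Q := by
  obtain ⟨u, v, -, rfl, hu, hv, huv⟩ := hL.exists_pair
  intro g hg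
  obtain ⟨t, rfl⟩ := (mem_rootGrp_pair hu hv huv).mp hg
  exact siegel_mem_commutator hQ.nd hQ.five hu (by rw [polar_smul_right, huv, smul_zero])

theorem omGrp_pow {L : Submodule F V} (hL : IsLine Q L) {g : ↥(Om Q)} (hg : g ∈ omGrp Q L) :
    g ^ p = 1 := by
  obtain ⟨u, v, -, rfl, hu, hv, huv⟩ := hL.exists_pair
  obtain ⟨t, ht⟩ := (mem_rootGrp_pair hu hv huv).mp (Subgroup.mem_subgroupOf.mp hg)
  refine Subtype.ext ?_
  rw [SubgroupClass.coe_pow, ht, siegel_pow_char hu (by rw [polar_smul_right, huv, smul_zero]) p]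
  rfl

theorem omGrp_pow_one {L : Submodule F V} (hL : IsLine Q L) {g : ↥(Om Q)} (hg : g ∈ omGrp Q L) :
    g ^ p ^ 1 = 1 := by rw [pow_one]; exact omGrp_pow hQ p hL hg

theorem exists_ne_one_omGrp {L : Submodule F V} (hL : IsLine Q L) :
    ∃ g ∈ omGrp Q L, g ≠ 1 := by
  obtain ⟨g, hg, hg1⟩ := exists_ne_one_rootGrp hQ.nd hL
  exact ⟨⟨g, rootGrp_le_Om hQ hL hg⟩, Subgroup.mem_subgroupOf.mpr hg,
    fun e => hg1 (congrArg Subtype.val e)⟩

include p in
theorem toPG_inj_omGrp {L M : Submodule F V} (hL : IsLine Q L) (hM : IsLine Q M) {g h : ↥(Om Q)}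
    (hg : g ∈ omGrp Q L) (hh : h ∈ omGrp Q M) (he : toPG Q g = toPG Q h) : g = h :=
  lift_unique hQ p (omGrp_pow_one hQ p hL hg) (omGrp_pow_one hQ p hM hh) he

include p in
theorem rootImg_inj {L M : Submodule F V} (hL : IsLine Q L) (hM : IsLine Q M)
    (h : rootImg Q L = rootImg Q M) : L = M := by
  obtain ⟨g, hg, hg1⟩ := exists_ne_one_omGrp hQ hL
  obtain ⟨g', hg', he⟩ : toPG Q g ∈ rootImg Q M := h ▸ ⟨g, hg, rfl⟩
  have := toPG_inj_omGrp hQ p hM hL hg' hg he
  subst this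
  exact line_eq_of_mem hQ.nd hL hM hg hg' fun e => hg1 (Subtype.ext e)

include p in
theorem rootImg_commute_iff {L M : Submodule F V} (hL : IsLine Q L) (hM : IsLine Q M) :
    (∀ x ∈ rootImg Q L, ∀ y ∈ rootImg Q M, Commute x y) ↔
      (∃ q ∈ L, q ∈ M ∧ q ≠ 0) ∨ (∀ x ∈ L, ∀ y ∈ M, polar Q x y = 0) := by
  rw [← rootGrp_commute_iff hQ.nd hL hM]
  constructor
  · intro h x hx y hy
    have h1 := commute_lift hQ p
      (omGrp_pow_one hQ p hM (g := ⟨y, rootGrp_le_Om hQ hM hy⟩) (Subgroup.mem_subgroupOf.mpr hy))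
      (h _ ⟨⟨x, rootGrp_le_Om hQ hL hx⟩, Subgroup.mem_subgroupOf.mpr hx, rfl⟩ _
        ⟨⟨y, rootGrp_le_Om hQ hM hy⟩, Subgroup.mem_subgroupOf.mpr hy, rfl⟩)
    exact congrArg Subtype.val h1.eq
  · rintro h _ ⟨x, hx, rfl⟩ _ ⟨y, hy, rfl⟩
    exact Commute.map (Subtype.ext (h _ hx _ hy).eq) (toPG Q)

/-- The centre of some Sylow subgroup is the given root group. -/
theorem exists_sylow_zc {L : Submodule F V} (hL : IsLine Q L) :
    ∃ U : Sylow p (PG Q), zc (U : Subgroup (PG Q)) = rootImg Q L := by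
  haveI : Finite (oGroup Q) := finite_oGroup
  obtain ⟨x, hxL, hx0⟩ := Submodule.exists_mem_ne_zero_of_ne_bot (show L ≠ ⊥ from fun e => by
    have := hL.rank
    rw [e, finrank_bot] at this
    omega)
  obtain ⟨f, a, H, ha, ha0, hQa, hli, hLa⟩ := exists_frame hQ hL hxL hx0
  obtain ⟨e, rfl⟩ : ∃ e, e = x := ⟨x, rfl⟩
  have hea : polar Q e a = 0 := ha.1
  set S₁ := perpS Q (Submodule.span F {e})
  set S₂ := wSub Q e f ⊓ perpS Q (Submodule.span F {a})
  have hS₁ : ∀ b ∈ S₁, polar Q e b = 0 := fun b hb => hb e (Submodule.mem_span_singleton_self e)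
  have hS₂ : ∀ b ∈ S₂, polar Q a b = 0 := fun b hb =>
    hb.2 a (Submodule.mem_span_singleton_self a)
  have hmemS₁ : ∀ b, polar Q e b = 0 → b ∈ S₁ := fun b hb z hz => by
    obtain ⟨t, rfl⟩ := Submodule.mem_span_singleton.mp hz
    rw [polar_smul_left, hb, smul_zero]
  have hnorm : sgGrp Q a S₂ ≤ Subgroup.normalizer (sgGrp Q e S₁ : Set (oGroup Q)) := by
    intro g hg
    have key : ∀ g ∈ sgGrp Q a S₂, ∀ h ∈ sgGrp Q e S₁, g * h * g⁻¹ ∈ sgGrp Q e S₁ := by
      intro g hg h hh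
      obtain ⟨b, hb, rfl⟩ := (mem_sgGrp hQa hS₂).mp hg
      obtain ⟨c, hc, rfl⟩ := (mem_sgGrp H.ee hS₁).mp hh
      have hbW := mem_wSub.mp hb.1
      have hfe : (siegel Q a b).1 e = e := by
        rw [siegel_apply hQa (hS₂ b hb), ha.1, hbW.1]
        simp
      rw [siegel_conj _ H.ee (hS₁ c hc), hfe]
      refine (mem_sgGrp H.ee hS₁).mpr ⟨_, hmemS₁ _ ?_, rfl⟩
      rw [← hfe, polar_oGroup, hS₁ c hc]
    refine Subgroup.mem_normalizer_iff.mpr fun h => ⟨key g hg h, fun hh => ?_⟩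
    have := key g⁻¹ (inv_mem hg) _ hh
    rwa [inv_inv, ← mul_assoc, ← mul_assoc, inv_mul_cancel, one_mul, mul_assoc, inv_mul_cancel,
      mul_one] at this
  have hpS : IsPGroup p (sgGrp Q e S₁ ⊔ sgGrp Q a S₂ : Subgroup (oGroup Q)) := by
    rw [sup_comm]
    exact (siegel_rad_group hQa hS₂ p).to_sup_of_normal_right' (siegel_rad_group H.ee hS₁ p) hnorm
  obtain ⟨U, hU⟩ := ((hpS.comap_subtype (K := Om Q)).map (toPG Q)).exists_le_sylow
  have hmemU : ∀ (g : oGroup Q) (hg : g ∈ Om Q), g ∈ sgGrp Q e S₁ ⊔ sgGrp Q a S₂ →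
      toPG Q ⟨g, hg⟩ ∈ (U : Subgroup (PG Q)) := fun g hg h => hU ⟨⟨g, hg⟩, h, rfl⟩
  have haS₂ : ∀ b, InW Q e f b → polar Q a b = 0 → b ∈ S₂ := fun b hb hab => by
    refine ⟨mem_wSub.mpr hb, fun z hz => ?_⟩
    obtain ⟨t, rfl⟩ := Submodule.mem_span_singleton.mp hz
    rw [polar_smul_left, hab, smul_zero]
  have hrootU : rootImg Q L ≤ U := by
    rintro _ ⟨g, hg, rfl⟩
    have hg' : g.1 ∈ rootGrp Q (Submodule.span F {e, a}) := hLa ▸ hg
    obtain ⟨t, ht⟩ := (mem_rootGrp_pair H.ee hQa hea).mp hg'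
    refine hmemU g.1 g.2 (Subgroup.mem_sup_left ((mem_sgGrp H.ee hS₁).mpr ⟨_, ?_, ht⟩))
    exact hmemS₁ _ (by rw [polar_smul_right, hea, smul_zero])
  have hsub : zc (U : Subgroup (PG Q)) ≤ rootImg Q L := by
    intro z hz
    obtain ⟨hzU, hzc⟩ := mem_zc.mp hz
    obtain ⟨k, hk⟩ := U.isPGroup' ⟨z, hzU⟩
    obtain ⟨g, rfl, hg⟩ := exists_lift hQ p (x := z) (k := k) (congrArg Subtype.val hk)
    have hcommute : ∀ (v b : V), Q v = 0 → polar Q v b = 0 →
        siegel Q v b ∈ sgGrp Q e S₁ ⊔ sgGrp Q a S₂ → Commute g.1 (siegel Q v b) := by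
      intro v b hv hvb hs
      have hm := siegel_mem_commutator hQ.nd hQ.five hv hvb
      have h1 := commute_lift hQ p (g := g) (h := ⟨_, hm⟩) (k := 1)
        (Subtype.ext (by rw [SubgroupClass.coe_pow, pow_one, siegel_pow_char hv hvb p]; rfl))
        (hzc _ (hmemU _ hm hs)).symm
      exact congrArg Subtype.val h1.eq
    obtain ⟨μ, hμ, c, hc, hgc⟩ := centralizer_siegel hQ H g.1 fun b hb =>
      hcommute e b H.ee hb.1
        (Subgroup.mem_sup_left ((mem_sgGrp H.ee hS₁).mpr ⟨b, hmemS₁ b hb.1, rfl⟩))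
    set n := siegel Q e c
    have hn1 : n ^ p ^ k = 1 := by
      rcases Nat.eq_zero_or_pos k with hk0 | hk0
      · subst hk0
        rw [pow_zero, pow_one] at hg ⊢
        refine Subtype.ext (LinearEquiv.ext fun v => ?_)
        have h2 : g.1.1 v = v := by rw [hg]; rfl
        have h3 : (g.1.1 e : V) = e := by rw [hg]; rfl
        rw [hgc, siegel_fix_self H.ee hc.1] at h3
        have hμ1 : μ = 1 := smul_left_injective F H.ne_zero (h3.trans (one_smul F e).symm)
        rw [hgc, hμ1, one_smul] at h2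
        exact h2
      · obtain ⟨j, rfl⟩ := Nat.exists_eq_add_of_le hk0
        rw [pow_add, pow_mul, pow_one, siegel_pow_char H.ee hc.1 p, one_pow]
    have hpow : ∀ (j : ℕ) (v : V), (g.1 ^ j).1 v = μ ^ j • (n ^ j).1 v := by
      intro j
      induction j with
      | zero => intro v; rw [pow_zero, pow_zero, pow_zero, one_smul]
      | succ j ih =>
        intro v
        rw [pow_succ, pow_succ, pow_succ]
        change (g.1 ^ j).1 (g.1.1 v) = _
        rw [hgc, map_smul, ih, smul_smul, mul_comm]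
        rfl
    have hμ1 : μ = 1 := by
      have h1 := hpow (p ^ k) e
      rw [hn1, show g.1 ^ p ^ k = 1 from congrArg Subtype.val hg] at h1
      have h2 : μ ^ p ^ k = 1 :=
        (smul_left_injective F H.ne_zero ((one_smul F e).trans h1)).symm
      rcases (Fact.out : p.Prime).eq_two_or_odd' with hp | hp
      · subst hp
        rcases mul_self_eq_one_iff.mp hμ with h | h
        · exact h
        · rw [h, CharTwo.neg_eq]
      · obtain ⟨m, hm⟩ := hp.pow (n := k)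
        rwa [hm, pow_succ, pow_mul, pow_two, hμ, one_pow, one_mul] at h2
    have hgn : g.1 = n := Subtype.ext (LinearEquiv.ext fun v => by rw [hgc, hμ1, one_smul])
    obtain ⟨t, rfl⟩ := centralizer_second hQ H ha hQa ha0 hc fun b hb hab => by
      have := hcommute a b hQa hab
        (Subgroup.mem_sup_right ((mem_sgGrp hQa hS₂).mpr ⟨b, haS₂ b hb hab, rfl⟩))
      rw [hgn] at this
      exact this.symm
    refine ⟨g, Subgroup.mem_subgroupOf.mpr ?_, rfl⟩
    rw [hgn, hLa]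
    exact siegel_mem_rootGrp (left_mem_pair e a) (Submodule.smul_mem _ t (right_mem_pair e a))
  refine ⟨U, le_antisymm hsub ?_⟩
  haveI : Nontrivial (U : Subgroup (PG Q)) := by
    obtain ⟨g, hg, hg1⟩ := exists_ne_one_omGrp hQ hL
    refine ⟨⟨⟨_, hrootU ⟨g, hg, rfl⟩⟩, 1, fun h => hg1 ?_⟩⟩
    exact toPG_inj_omGrp hQ p hL hL hg (one_mem _) (by rw [map_one]; exact congrArg Subtype.val h)
  haveI := U.isPGroup'.center_nontrivial
  obtain ⟨⟨z, hz⟩, hzne⟩ := exists_ne (1 : Subgroup.center ↥(U : Subgroup (PG Q)))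
  have hzzc : (z : PG Q) ∈ zc (U : Subgroup (PG Q)) := mem_zc.mpr ⟨z.2, fun u hu =>
    congrArg Subtype.val (Subgroup.mem_center_iff.mp hz ⟨u, hu⟩)⟩
  obtain ⟨g₀, hg₀, hzeq⟩ := hsub hzzc
  have hg₀1 : g₀.1 ≠ 1 := fun h => hzne (Subtype.ext (Subtype.ext (by
    change (z : PG Q) = 1
    rw [← hzeq, show g₀ = 1 from Subtype.ext h, map_one])))
  rintro _ ⟨y, hy, rfl⟩
  refine mem_zc.mpr ⟨hrootU ⟨y, hy, rfl⟩, fun u hu => ?_⟩
  obtain ⟨k, hk⟩ := U.isPGroup' ⟨u, hu⟩
  obtain ⟨g, rfl, -⟩ := exists_lift hQ p (x := u) (k := k) (congrArg Subtype.val hk)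
  have hc₀ : Commute g g₀ := commute_lift hQ p (omGrp_pow_one hQ p hL hg₀) (by
    rw [hzeq]; exact congrArg Subtype.val (Subgroup.mem_center_iff.mp hz ⟨_, hu⟩))
  exact Commute.map (Subtype.ext ((commute_root hQ.nd hL hg₀ hg₀1
    (congrArg Subtype.val hc₀.eq)).2 _ hy).eq) (toPG Q)

include p in
/-- Automorphisms permute root groups. -/
theorem exists_line_image (γ : PG Q ≃* PG Q) {L : Submodule F V} (hL : IsLine Q L) :
    ∃ M, IsLine Q M ∧ (rootImg Q L).map γ.toMonoidHom = rootImg Q M := by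
  haveI : Finite (oGroup Q) := finite_oGroup
  obtain ⟨U, hU⟩ := exists_sylow_zc hQ p hL
  let U' : Sylow p (PG Q) := U.mapSurjective (f := γ.toMonoidHom) γ.surjective
  obtain ⟨g, hg⟩ := MulAction.exists_smul_eq (PG Q) U U'
  obtain ⟨g, rfl⟩ := QuotientGroup.mk'_surjective _ g
  obtain ⟨u, v, hli, rfl, hu, hv, huv⟩ := hL.exists_pair
  have hli' : LinearIndependent F ![g.1.1 u, g.1.1 v] :=
    LinearIndependent.pair_iff.mpr fun a b hab => LinearIndependent.pair_iff.mp hli a b (by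
      rw [← map_smul, ← map_smul, ← map_add] at hab
      exact g.1.1.injective (hab.trans (map_zero _).symm))
  refine ⟨_, isLine_span hli' (by rw [g.1.2, hu]) (by rw [g.1.2, hv]) (by rw [polar_oGroup, huv]), ?_⟩
  rw [← hU, zc_map, show (U : Subgroup (PG Q)).map γ.toMonoidHom = (U' : Subgroup (PG Q)) from rfl,
    ← hg, Sylow.coe_subgroup_smul, Subgroup.pointwise_smul_def,
    show (MulDistribMulAction.toMonoidEnd (MulAut (PG Q)) (PG Q)) (MulAut.conj (toPG Q g)) =
      (MulAut.conj (toPG Q g)).toMonoidHom from rfl, ← zc_map, hU]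
  ext z
  constructor
  · rintro ⟨_, ⟨x, hx, rfl⟩, rfl⟩
    refine ⟨g * x * g⁻¹, Subgroup.mem_subgroupOf.mpr ?_, by simp⟩
    obtain ⟨t, ht⟩ := (mem_rootGrp_pair hu hv huv).mp (Subgroup.mem_subgroupOf.mp hx)
    push_cast
    rw [ht, siegel_conj _ hu (by rw [polar_smul_right, huv, smul_zero]), map_smul]
    exact siegel_mem_rootGrp (left_mem_pair _ _) (Submodule.smul_mem _ t (right_mem_pair _ _))
  · rintro ⟨x, hx, rfl⟩
    refine ⟨toPG Q (g⁻¹ * x * g), ⟨_, Subgroup.mem_subgroupOf.mpr ?_, rfl⟩, by simp [mul_assoc]⟩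
    obtain ⟨t, ht⟩ := (mem_rootGrp_pair (by rw [g.1.2, hu]) (by rw [g.1.2, hv])
      (by rw [polar_oGroup, huv])).mp (Subgroup.mem_subgroupOf.mp hx)
    push_cast
    rw [ht, ← map_smul, ← siegel_conj _ hu (by rw [polar_smul_right, huv, smul_zero]),
      ← mul_assoc, ← mul_assoc, inv_mul_cancel, one_mul, mul_assoc, inv_mul_cancel, mul_one]
    exact siegel_mem_rootGrp (left_mem_pair _ _) (Submodule.smul_mem _ t (right_mem_pair _ _))

end CfsgLib.AutPOm
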