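import Cfsg.Agent.AutPOm.Lift
import Cfsg.Agent.AutPOm.Geometry

/-!
The maps on lines and points induced by an automorphism of `POmega`.
-/

set_option autoImplicit false
set_option linter.style.haveILetI false

namespace CfsgLib.AutPOm

open QuadraticMap CfsgLib.Forms CfsgLib.Quad

variable {F V : Type*} [Field F] [AddCommGroup V] [Module F V] {Q : QuadraticForm F V}

/-- Two points on a common line. -/
def Collin (Q : QuadraticForm F V) (q r : V) : Prop := ∃ N : Ln Q, q ∈ N.1 ∧ r ∈ N.1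

theorem line_map_iso (g : oGroup Q) {L : Submodule F V} (hL : IsLine Q L) :
    IsLine Q (L.map g.1.toLinearMap) := by
  refine ⟨(LinearEquiv.finrank_eq (g.1.submoduleMap L)).symm.trans hL.rank, ?_⟩
  rintro _ ⟨x, hx, rfl⟩
  exact (g.2 x).trans (hL.sing x hx)

/-- The image of a line under an isometry. -/
def actLn (g : oGroup Q) (L : Ln Q) : Ln Q := ⟨L.1.map g.1.toLinearMap, line_map_iso g L.2⟩

theorem mem_actLn (g : oGroup Q) (L : Ln Q) {x : V} : g.1 x ∈ (actLn g L).1 ↔ x ∈ L.1 :=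
  ⟨fun ⟨_, hy, he⟩ => g.1.injective he ▸ hy, fun h => ⟨x, h, rfl⟩⟩

theorem conj_mem_rootGrp [FiniteDimensional F V] (g : oGroup Q) (L : Ln Q) {h : oGroup Q}
    (hh : h ∈ rootGrp Q L.1) : g * h * g⁻¹ ∈ rootGrp Q (actLn g L).1 := by
  obtain ⟨u, v, -, hLe, hu, hv, huv⟩ := L.2.exists_pair
  obtain ⟨t, rfl⟩ := (mem_rootGrp_pair hu hv huv).mp (hLe ▸ hh)
  rw [siegel_conj g hu (by rw [polar_smul_right, huv, smul_zero])]
  exact siegel_mem_rootGrp ((mem_actLn g L).mpr (hLe ▸ left_mem_pair u v))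
    ((mem_actLn g L).mpr (hLe ▸ Submodule.smul_mem _ t (right_mem_pair u v)))

variable [FiniteDimensional F V] (hQ : Big Q)
include hQ

/-- A non-orthogonal pair of lines through a point. -/
theorem exists_star_pair [Finite F] {q : V} (hq : Q q = 0) (hq0 : q ≠ 0) :
    ∃ L M : Ln Q, q ∈ L.1 ∧ q ∈ M.1 ∧ ¬ Perp L M ∧ L ≠ M := by
  obtain ⟨f, H⟩ := exists_pair_of_singular hQ hq0 hq
  obtain ⟨a, ha, ha0, hQa⟩ := exists_singular_of_three (Q := Q) (wSub Q q f) (by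
    have := finrank_wSub hQ q f
    have := hQ.dim
    omega)
  have haW := mem_wSub.mp ha
  obtain ⟨y, hy, hay⟩ : ∃ y, InW Q q f y ∧ polar Q a y ≠ 0 := by
    by_contra h
    push Not at h
    exact ha0 (eq_zero_of_inW_perp hQ H haW h)
  set b := y + (-(Q y / polar Q a y)) • a with hb
  have hbW : InW Q q f b := hy.add (haW.smul _)
  have hQb : Q b = 0 := by
    rw [hb, quad_add, quad_smul, hQa, polar_smul_right, polar_comm (⇑Q) y a, mul_zero, add_zero,
      smul_eq_mul, neg_mul, div_mul_cancel₀ _ hay, add_neg_cancel]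
  have hab : polar Q a b ≠ 0 := by
    rw [hb, polar_add_right, polar_smul_right, polar_self_zero hQa, smul_zero, add_zero]
    exact hay
  have hb0 : b ≠ 0 := fun e => hab (by rw [e, polar_zero_right])
  let L : Ln Q :=
    ⟨_, isLine_span (linearIndependent_pair_of hq0 (haW.not_mem H ha0)) hq hQa haW.1⟩
  let M : Ln Q :=
    ⟨_, isLine_span (linearIndependent_pair_of hq0 (hbW.not_mem H hb0)) hq hQb hbW.1⟩
  refine ⟨L, M, left_mem_pair q a, left_mem_pair q b,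
    fun h => hab (h a (right_mem_pair q a) b (right_mem_pair q b)), fun h => hab ?_⟩
  have hbL : b ∈ L.1 := by rw [h]; exact right_mem_pair q b
  exact L.2.perp (right_mem_pair q a) hbL

theorem point_unique [Finite F] {q r : V} (hq : Q q = 0) (hq0 : q ≠ 0)
    (h : ∀ N : Ln Q, q ∈ N.1 → r ∈ N.1) : r ∈ Submodule.span F {q} := by
  obtain ⟨L, M, hL, hM, -, hne⟩ := exists_star_pair hQ hq hq0
  exact L.2.inter_eq M.2 (fun e => hne (Subtype.ext e)) hL hM hq0 (h L hL) (h M hM)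

omit hQ in
theorem polar_zero_of_collin {q r : V} (h : Collin Q q r) : polar Q q r = 0 := by
  obtain ⟨N, h1, h2⟩ := h
  exact N.2.perp h1 h2

omit hQ in
theorem collin_of_polar {q r : V} (hq : Q q = 0) (hr : Q r = 0) (hqr : polar Q q r = 0)
    (hq0 : q ≠ 0) (hind : r ∉ Submodule.span F {q}) : Collin Q q r :=
  ⟨⟨_, isLine_span (linearIndependent_pair_of hq0 hind) hq hr hqr⟩, left_mem_pair q r,
    right_mem_pair q r⟩

variable [Finite F] (p : ℕ) [Fact p.Prime] [CharP F p] (γ : PG Q ≃* PG Q)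

/-- The image line. -/
noncomputable def lineMap (L : Ln Q) : Ln Q :=
  ⟨Classical.choose (exists_line_image hQ p γ L.2),
    (Classical.choose_spec (exists_line_image hQ p γ L.2)).1⟩

theorem lineMap_spec (L : Ln Q) :
    (rootImg Q L.1).map γ.toMonoidHom = rootImg Q (lineMap hQ p γ L).1 :=
  (Classical.choose_spec (exists_line_image hQ p γ L.2)).2

theorem lineMap_mem (L : Ln Q) {x : PG Q} (hx : x ∈ rootImg Q L.1) :
    γ x ∈ rootImg Q (lineMap hQ p γ L).1 := lineMap_spec hQ p γ L ▸ ⟨x, hx, rfl⟩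

include p in
theorem line_eq_of_img_mem {L M : Ln Q} {x : PG Q} (hL : x ∈ rootImg Q L.1)
    (hM : x ∈ rootImg Q M.1) (hx : x ≠ 1) : L = M := by
  obtain ⟨g, hg, rfl⟩ := hL
  obtain ⟨g', hg', he⟩ := hM
  have := toPG_inj_omGrp hQ p M.2 L.2 hg' hg he
  subst this
  exact Subtype.ext (line_eq_of_mem hQ.nd L.2 M.2 hg hg' fun e => hx (by
    rw [show g' = 1 from Subtype.ext e, map_one]))

include p in
theorem exists_ne_one_img (L : Ln Q) : ∃ x ∈ rootImg Q L.1, x ≠ 1 := by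
  obtain ⟨g, hg, hg1⟩ := exists_ne_one_omGrp hQ L.2
  exact ⟨_, ⟨g, hg, rfl⟩, fun e => hg1 (toPG_inj_omGrp hQ p L.2 L.2 hg (one_mem _)
    (e.trans (map_one _).symm))⟩

theorem lineMap_symm (L : Ln Q) : lineMap hQ p γ.symm (lineMap hQ p γ L) = L := by
  obtain ⟨x, hx, hx1⟩ := exists_ne_one_img hQ p L
  have h := lineMap_mem hQ p γ.symm _ (lineMap_mem hQ p γ L hx)
  rw [MulEquiv.symm_apply_apply] at h
  exact line_eq_of_img_mem hQ p h hx hx1

theorem lineMap_injective : Function.Injective (lineMap hQ p γ) := fun L M h => by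
  rw [← lineMap_symm hQ p γ L, h, lineMap_symm]

theorem lineMap_surjective : Function.Surjective (lineMap hQ p γ) := fun L =>
  ⟨lineMap hQ p γ.symm L, lineMap_symm hQ p γ.symm L⟩

/-- Commuting root groups. -/
def Comm' (L M : Ln Q) : Prop := Meet L M ∨ Perp L M

theorem comm_map {L M : Ln Q} (h : Comm' L M) :
    Comm' (lineMap hQ p γ L) (lineMap hQ p γ M) := by
  refine (rootImg_commute_iff hQ p (lineMap hQ p γ L).2 (lineMap hQ p γ M).2).mp ?_
  rw [← lineMap_spec, ← lineMap_spec]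
  rintro _ ⟨x, hx, rfl⟩ _ ⟨y, hy, rfl⟩
  exact ((rootImg_commute_iff hQ p L.2 M.2).mpr h x hx y hy).map γ.toMonoidHom

include p in
theorem adj_of_third {L M N : Ln Q} (hNL : N ≠ L) (hne : L ≠ M) (hc : Comm' L M) {x y : PG Q}
    (hx : x ∈ rootImg Q L.1) (hy : y ∈ rootImg Q M.1) (hx1 : x ≠ 1) (hy1 : y ≠ 1)
    (hxy : x * y ∈ rootImg Q N.1) : Adj L M := by
  obtain ⟨g, hg, rfl⟩ := hx
  obtain ⟨h, hh, rfl⟩ := hy
  obtain ⟨k, hk, he⟩ := hxy
  have hcomm := (rootGrp_commute_iff hQ.nd L.2 M.2).mpr hc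
  have hpow : (g * h) ^ p ^ 1 = 1 := by
    rw [Commute.mul_pow (Subtype.ext (hcomm _ hg _ hh).eq), omGrp_pow_one hQ p L.2 hg,
      omGrp_pow_one hQ p M.2 hh, one_mul]
  have hgh : k = g * h :=
    lift_unique hQ p (omGrp_pow_one hQ p N.2 hk) hpow (he.trans (map_mul _ g h).symm)
  subst hgh
  exact ⟨hne, meet_perp_of_third hQ.nd L.2 M.2 N.2 (fun e => hNL (Subtype.ext e)) hcomm
    (x := g.1) (y := h.1) hg hh (fun e => hx1 (by rw [show g = 1 from Subtype.ext e, map_one]))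
    (fun e => hy1 (by rw [show h = 1 from Subtype.ext e, map_one])) hk⟩

theorem adj_map {L M : Ln Q} (h : Adj L M) : Adj (lineMap hQ p γ L) (lineMap hQ p γ M) := by
  obtain ⟨hne, ⟨q, hqL, hqM, hq0⟩, hperp⟩ := h
  obtain ⟨N, hN, hNL, hNM, v, hv, w, hw, hli, hli', hmem⟩ :=
    exists_third L.2 M.2 (fun e => hne (Subtype.ext e)) hqL hqM hq0 hperp
  let N' : Ln Q := ⟨N, hN⟩
  have hq : Q q = 0 := L.2.sing q hqL
  have hmk : ∀ (X : Ln Q) (u : V), q ∈ X.1 → u ∈ X.1 → LinearIndependent F ![q, u] →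
      ∃ g ∈ omGrp Q X.1, g.1 = siegel Q q u ∧ toPG Q g ≠ 1 := by
    intro X u hqX huX hqu
    have hm := siegel_mem_rootGrp (Q := Q) hqX huX
    refine ⟨⟨_, rootGrp_le_Om hQ X.2 hm⟩, Subgroup.mem_subgroupOf.mpr hm, rfl, fun e => ?_⟩
    have h1 := toPG_inj_omGrp hQ p X.2 X.2 (Subgroup.mem_subgroupOf.mpr hm) (one_mem _)
      (e.trans (map_one _).symm)
    exact root_ne_one hQ.nd hqu hq (X.2.sing u huX) (X.2.perp hqX huX) one_ne_zero
      (by rw [one_smul]; exact congrArg Subtype.val h1)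
  obtain ⟨g, hg, hge, hg1⟩ := hmk L v hqL hv hli
  obtain ⟨k, hk, hke, hk1⟩ := hmk M w hqM hw hli'
  have hgk : toPG Q g * toPG Q k ∈ rootImg Q N'.1 := by
    refine ⟨g * k, Subgroup.mem_subgroupOf.mpr ?_, map_mul _ g k⟩
    rw [Subgroup.coe_mul, hge, hke]
    exact hmem
  refine adj_of_third hQ p (N := lineMap hQ p γ N') (fun e => hNL ?_)
    (fun e => hne (lineMap_injective hQ p γ e)) (comm_map hQ p γ (Or.inl ⟨q, hqL, hqM, hq0⟩))
    (lineMap_mem hQ p γ L ⟨g, hg, rfl⟩) (lineMap_mem hQ p γ M ⟨k, hk, rfl⟩)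
    (fun e => hg1 ((map_eq_one_iff γ γ.injective).mp e))
    (fun e => hk1 ((map_eq_one_iff γ γ.injective).mp e)) ?_
  · exact congrArg Subtype.val (lineMap_injective hQ p γ e)
  · rw [← map_mul]
    exact lineMap_mem hQ p γ N' hgk

theorem adj_map_iff {L M : Ln Q} :
    Adj (lineMap hQ p γ L) (lineMap hQ p γ M) ↔ Adj L M := by
  refine ⟨fun h => ?_, adj_map hQ p γ⟩
  have := adj_map hQ p γ.symm h
  rwa [lineMap_symm, lineMap_symm] at this

theorem comm_map_iff {L M : Ln Q} :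
    Comm' (lineMap hQ p γ L) (lineMap hQ p γ M) ↔ Comm' L M := by
  refine ⟨fun h => ?_, comm_map hQ p γ⟩
  have := comm_map hQ p γ.symm h
  rwa [lineMap_symm, lineMap_symm] at this

theorem grid_map {L M : Ln Q} (h : Grid L M) : Grid (lineMap hQ p γ L) (lineMap hQ p γ M) := by
  obtain ⟨N, N', h1, h2, h3, h4, h5, h6, K₁, K₂, h7, h8⟩ := h
  refine ⟨lineMap hQ p γ N, lineMap hQ p γ N', adj_map hQ p γ h1, adj_map hQ p γ h2,
    adj_map hQ p γ h3, adj_map hQ p γ h4, fun e => h5 (lineMap_injective hQ p γ e),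
    fun e => h6 ((adj_map_iff hQ p γ).mp e), lineMap hQ p γ K₁, lineMap hQ p γ K₂,
    fun e => h7 (lineMap_injective hQ p γ e), fun K => ?_⟩
  obtain ⟨K, rfl⟩ := lineMap_surjective hQ p γ K
  simp only [adj_map_iff hQ p γ, (lineMap_injective hQ p γ).eq_iff, h8]

theorem grid_map_iff {L M : Ln Q} :
    Grid (lineMap hQ p γ L) (lineMap hQ p γ M) ↔ Grid L M := by
  refine ⟨fun h => ?_, grid_map hQ p γ⟩
  have := grid_map hQ p γ.symm h
  rwa [lineMap_symm, lineMap_symm] at this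

theorem meet_map_iff (hs : Shape Q) {L M : Ln Q} (hne : L ≠ M) :
    Meet (lineMap hQ p γ L) (lineMap hQ p γ M) ↔ Meet L M := by
  have hne' : lineMap hQ p γ L ≠ lineMap hQ p γ M := fun e => hne (lineMap_injective hQ p γ e)
  by_cases hc : Comm' L M
  · rw [meet_iff hQ hs hne hc, meet_iff hQ hs hne' (comm_map hQ p γ hc), adj_map_iff, grid_map_iff]
  · exact iff_of_false (fun h => hc ((comm_map_iff hQ p γ).mp (Or.inl h)))
      fun h => hc (Or.inl h)

/-- The image point. -/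
theorem exists_point_image (hs : Shape Q) {q : V} (hq : Q q = 0) (hq0 : q ≠ 0) :
    ∃ r, Q r = 0 ∧ r ≠ 0 ∧ ∀ N : Ln Q, q ∈ N.1 ↔ r ∈ (lineMap hQ p γ N).1 := by
  obtain ⟨L, M, hqL, hqM, hnp, hne⟩ := exists_star_pair hQ hq hq0
  obtain ⟨r, hrL, hrM, hr0⟩ := (meet_map_iff hQ p γ hs hne).mpr ⟨q, hqL, hqM, hq0⟩
  have hnp' : ¬ Perp (lineMap hQ p γ L) (lineMap hQ p γ M) := fun h =>
    hnp ((adj_map_iff hQ p γ).mp
      ⟨fun e => hne (lineMap_injective hQ p γ e), ⟨r, hrL, hrM, hr0⟩, h⟩).2.2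
  refine ⟨r, (lineMap hQ p γ L).2.sing r hrL, hr0, fun N => ?_⟩
  rcases eq_or_ne N L with rfl | hNL
  · exact iff_of_true hqL hrL
  rcases eq_or_ne N M with rfl | hNM
  · exact iff_of_true hqM hrM
  constructor
  · intro h
    exact star_mem hnp' hrL hrM hr0 ((meet_map_iff hQ p γ hs hNL).mpr ⟨q, h, hqL, hq0⟩)
      ((meet_map_iff hQ p γ hs hNM).mpr ⟨q, h, hqM, hq0⟩)
  · intro h
    exact star_mem hnp hqL hqM hq0 ((meet_map_iff hQ p γ hs hNL).mp ⟨r, h, hrL, hr0⟩)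
      ((meet_map_iff hQ p γ hs hNM).mp ⟨r, h, hrM, hr0⟩)

/-- Equivariance of the line map. -/
theorem lineMap_act (g g' : ↥(Om Q)) (h : γ (toPG Q g) = toPG Q g') (L : Ln Q) :
    lineMap hQ p γ (actLn g.1 L) = actLn g'.1 (lineMap hQ p γ L) := by
  obtain ⟨x, hx, hx1⟩ := exists_ne_one_img hQ p L
  obtain ⟨y, hy, hye⟩ := lineMap_mem hQ p γ L hx
  have h1 : toPG Q g * x * (toPG Q g)⁻¹ ∈ rootImg Q (actLn g.1 L).1 := by
    obtain ⟨z, hz, rfl⟩ := hx
    exact ⟨g * z * g⁻¹, conj_mem_rootGrp g.1 L hz, by simp⟩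
  have h2 := lineMap_mem hQ p γ _ h1
  refine line_eq_of_img_mem hQ p h2 ?_ fun e => hx1 ?_
  · exact ⟨g' * y * g'⁻¹, conj_mem_rootGrp g'.1 _ hy, by
      rw [map_mul, map_mul, map_inv, hye, map_mul, map_mul, map_inv, h]⟩
  · exact conj_eq_one_iff.mp ((map_eq_one_iff γ γ.injective).mp e)

end CfsgLib.AutPOm
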