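import Cfsg.Agent.Quad.SimpleOmega

/-!
Totally singular lines and their root groups in an orthogonal group.
-/

set_option autoImplicit false
set_option linter.style.haveILetI false

namespace CfsgLib.AutPOm

open QuadraticMap CfsgLib.Forms CfsgLib.Quad

variable {F V : Type*} [Field F] [AddCommGroup V] [Module F V] {Q : QuadraticForm F V}

/-- A totally singular line. -/
structure IsLine (Q : QuadraticForm F V) (L : Submodule F V) : Prop where
  rank : Module.finrank F L = 2
  sing : ∀ x ∈ L, Q x = 0

theorem IsLine.perp {L : Submodule F V} (hL : IsLine Q L) {x y : V} (hx : x ∈ L) (hy : y ∈ L) :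
    polar Q x y = 0 := by
  simp only [polar, hL.sing _ (L.add_mem hx hy), hL.sing x hx, hL.sing y hy, sub_zero]

theorem finrank_span_pair {u v : V} (h : LinearIndependent F ![u, v]) :
    Module.finrank F (Submodule.span F {u, v}) = 2 := by
  have := finrank_span_eq_card h
  rwa [Matrix.range_cons, Matrix.range_cons, Matrix.range_empty, Set.union_empty,
    Set.singleton_union, Fintype.card_fin] at this

theorem linearIndependent_pair_of {u v : V} (hu : u ≠ 0) (hv : v ∉ Submodule.span F {u}) :
    LinearIndependent F ![u, v] := by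
  rw [LinearIndependent.pair_iff' hu]
  exact fun t ht => hv (Submodule.mem_span_singleton.mpr ⟨t, ht⟩)

theorem notMem_span_of_pair {u v : V} (h : LinearIndependent F ![u, v]) :
    u ∉ Submodule.span F {v} ∧ v ∉ Submodule.span F {u} := by
  constructor
  · intro hu
    obtain ⟨t, ht⟩ := Submodule.mem_span_singleton.mp hu
    have := LinearIndependent.pair_iff.mp h 1 (-t) (by rw [one_smul, neg_smul, ht, add_neg_cancel])
    exact one_ne_zero this.1
  · intro hv
    obtain ⟨t, ht⟩ := Submodule.mem_span_singleton.mp hv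
    have := LinearIndependent.pair_iff.mp h (-t) 1 (by rw [one_smul, neg_smul, ht, neg_add_cancel])
    exact one_ne_zero this.2

theorem quad_lin {u v : V} (hu : Q u = 0) (hv : Q v = 0) (huv : polar Q u v = 0) (a b : F) :
    Q (a • u + b • v) = 0 := by
  rw [quad_add, quad_smul, quad_smul, hu, hv, polar_smul_left, polar_smul_right, huv]
  simp

theorem polar_lin_right (x u v : V) (a b : F) :
    polar Q x (a • u + b • v) = a * polar Q x u + b * polar Q x v := by
  rw [polar_add_right, polar_smul_right, polar_smul_right, smul_eq_mul, smul_eq_mul]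

theorem isLine_span {u v : V} (h : LinearIndependent F ![u, v]) (hu : Q u = 0) (hv : Q v = 0)
    (huv : polar Q u v = 0) : IsLine Q (Submodule.span F {u, v}) := by
  refine ⟨finrank_span_pair h, fun x hx => ?_⟩
  obtain ⟨a, b, rfl⟩ := Submodule.mem_span_pair.mp hx
  exact quad_lin hu hv huv a b

theorem left_mem_pair (u v : V) : u ∈ Submodule.span F {u, v} :=
  Submodule.subset_span (Set.mem_insert _ _)

theorem right_mem_pair (u v : V) : v ∈ Submodule.span F {u, v} :=
  Submodule.subset_span (Set.mem_insert_of_mem _ rfl)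

/-- A basis of a line starting with a given vector. -/
theorem IsLine.exists_basis [FiniteDimensional F V] {L : Submodule F V} (hL : IsLine Q L) {x : V}
    (hx : x ∈ L) (hx0 : x ≠ 0) :
    ∃ v, LinearIndependent F ![x, v] ∧ L = Submodule.span F {x, v} := by
  obtain ⟨v, hv, hvx⟩ : ∃ v ∈ L, v ∉ Submodule.span F {x} := by
    by_contra hc
    push Not at hc
    have h1 := Submodule.finrank_mono (show L ≤ Submodule.span F {x} from hc)
    rw [hL.rank, finrank_span_singleton hx0] at h1
    omega
  have hli := linearIndependent_pair_of hx0 hvx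
  refine ⟨v, hli, (Submodule.eq_of_le_of_finrank_eq
    (Submodule.span_le.mpr (Set.insert_subset hx (Set.singleton_subset_iff.mpr hv))) ?_).symm⟩
  rw [finrank_span_pair hli, hL.rank]

theorem IsLine.exists_pair [FiniteDimensional F V] {L : Submodule F V} (hL : IsLine Q L) :
    ∃ u v, LinearIndependent F ![u, v] ∧ L = Submodule.span F {u, v} ∧ Q u = 0 ∧ Q v = 0 ∧
      polar Q u v = 0 := by
  obtain ⟨x, hx, hx0⟩ := Submodule.exists_mem_ne_zero_of_ne_bot (show L ≠ ⊥ from fun e => by
    have := hL.rank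
    rw [e, finrank_bot] at this
    omega)
  obtain ⟨v, hli, rfl⟩ := hL.exists_basis hx hx0
  exact ⟨x, v, hli, rfl, hL.sing x hx, hL.sing v (right_mem_pair x v), hL.perp hx (right_mem_pair x v)⟩

theorem IsLine.eq_of_le [FiniteDimensional F V] {L M : Submodule F V} (hL : IsLine Q L)
    (hM : IsLine Q M) (h : L ≤ M) : L = M :=
  Submodule.eq_of_le_of_finrank_eq h (hL.rank.trans hM.rank.symm)

/-- Two different lines share at most a point. -/
theorem IsLine.inter_eq [FiniteDimensional F V] {L M : Submodule F V} (hL : IsLine Q L)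
    (hM : IsLine Q M) (hne : L ≠ M) {x y : V} (hx : x ∈ L) (hx' : x ∈ M) (hx0 : x ≠ 0)
    (hy : y ∈ L) (hy' : y ∈ M) : y ∈ Submodule.span F {x} := by
  by_contra hc
  have hli := linearIndependent_pair_of hx0 hc
  have hle : Submodule.span F {x, y} ≤ L ⊓ M := Submodule.span_le.mpr
    (Set.insert_subset ⟨hx, hx'⟩ (Set.singleton_subset_iff.mpr ⟨hy, hy'⟩))
  have h1 := Submodule.finrank_mono hle
  rw [finrank_span_pair hli] at h1
  have h2 : L ⊓ M = L := Submodule.eq_of_le_of_finrank_le inf_le_left (by rw [hL.rank]; exact h1)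
  exact hne (hL.eq_of_le hM (inf_eq_left.mp h2))

theorem siegel_root {u v : V} (hu : Q u = 0) (hv : Q v = 0) (huv : polar Q u v = 0) (x : V) :
    (siegel Q u v).1 x = x + polar Q x u • v - polar Q x v • u := by
  rw [siegel_apply hu huv, hv, zero_mul, add_zero]

theorem siegel_basis {u v : V} (hu : Q u = 0) (hv : Q v = 0) (huv : polar Q u v = 0) (a b c d : F) :
    siegel Q (a • u + b • v) (c • u + d • v) = siegel Q u ((a * d - b * c) • v) := by
  have hvu : polar Q v u = 0 := by rw [polar_comm, huv]
  refine Subtype.ext (LinearEquiv.ext fun x => ?_)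
  rw [siegel_root (quad_lin hu hv huv a b) (quad_lin hu hv huv c d) (by
      rw [polar_lin_right, polar_add_left, polar_add_left, polar_smul_left, polar_smul_left,
        polar_smul_left, polar_smul_left, polar_self, polar_self, hu, hv, huv, hvu]
      simp),
    siegel_root hu (by rw [quad_smul, hv, mul_zero]) (by rw [polar_smul_right, huv, smul_zero]),
    polar_lin_right, polar_lin_right, polar_smul_right, smul_eq_mul]
  module

/-- The root group of a line. -/
def rootGrp (Q : QuadraticForm F V) (L : Submodule F V) : Subgroup (oGroup Q) :=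
  Subgroup.closure {g | ∃ u ∈ L, ∃ v ∈ L, g = siegel Q u v}

theorem siegel_mem_rootGrp {L : Submodule F V} {u v : V} (hu : u ∈ L) (hv : v ∈ L) :
    siegel Q u v ∈ rootGrp Q L := Subgroup.subset_closure ⟨u, hu, v, hv, rfl⟩

theorem mem_rootGrp_pair {u v : V} (hu : Q u = 0) (hv : Q v = 0) (huv : polar Q u v = 0)
    {g : oGroup Q} :
    g ∈ rootGrp Q (Submodule.span F {u, v}) ↔ ∃ t : F, g = siegel Q u (t • v) := by
  have hp : ∀ t : F, polar Q u (t • v) = 0 := fun t => by rw [polar_smul_right, huv, smul_zero]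
  constructor
  · intro hg
    induction hg using Subgroup.closure_induction with
    | mem x hx =>
      obtain ⟨p, hp', r, hr, rfl⟩ := hx
      obtain ⟨a, b, rfl⟩ := Submodule.mem_span_pair.mp hp'
      obtain ⟨c, d, rfl⟩ := Submodule.mem_span_pair.mp hr
      exact ⟨_, siegel_basis hu hv huv a b c d⟩
    | one => exact ⟨0, by rw [zero_smul, siegel_zero hu]⟩
    | mul x y _ _ hx hy =>
      obtain ⟨s, rfl⟩ := hx
      obtain ⟨t, rfl⟩ := hy
      exact ⟨s + t, by rw [add_smul, siegel_mul hu (hp s) (hp t)]⟩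
    | inv x _ hx =>
      obtain ⟨s, rfl⟩ := hx
      exact ⟨-s, by rw [neg_smul, siegel_inv hu (hp s)]⟩
  · rintro ⟨t, rfl⟩
    exact siegel_mem_rootGrp (left_mem_pair u v) (Submodule.smul_mem _ t (right_mem_pair u v))

variable [FiniteDimensional F V] (hQ : (polarBilin Q).Nondegenerate)
include hQ

theorem exists_perp_one' {U : Submodule F V} {x : V} (hx : x ∉ U) :
    ∃ w, (∀ a ∈ U, polar Q w a = 0) ∧ polar Q w x = 1 := by
  obtain ⟨w, h1, h2⟩ := (polarForm Q).exists_perp_one (polarForm_nondeg hQ) hx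
  simp only [polarForm_h] at h1 h2
  exact ⟨w, fun a ha => by rw [polar_comm]; exact h1 a ha, by rw [polar_comm]; exact h2⟩

/-- The line of a root element is determined by the displacement. -/
theorem mem_of_root_disp {u v : V} (h : LinearIndependent F ![u, v]) (hu : Q u = 0) (hv : Q v = 0)
    (huv : polar Q u v = 0) {S : Submodule F V} (hS : ∀ x, (siegel Q u v).1 x - x ∈ S) :
    u ∈ S ∧ v ∈ S := by
  obtain ⟨hu', hv'⟩ := notMem_span_of_pair h
  obtain ⟨x, hxv, hxu⟩ := exists_perp_one' hQ hu'
  obtain ⟨y, hyu, hyv⟩ := exists_perp_one' hQ hv'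
  have h1 := hS x
  have h2 := hS y
  rw [siegel_root hu hv huv, hxu, hxv v (Submodule.mem_span_singleton_self v), one_smul, zero_smul,
    sub_zero, add_sub_cancel_left] at h1
  rw [siegel_root hu hv huv, hyv, hyu u (Submodule.mem_span_singleton_self u), one_smul, zero_smul,
    add_zero, sub_sub_cancel_left] at h2
  exact ⟨neg_neg u ▸ S.neg_mem h2, h1⟩

theorem root_param_inj {u v : V} (h : LinearIndependent F ![u, v]) (hu : Q u = 0) (hv : Q v = 0)
    (huv : polar Q u v = 0) {s t : F} (hst : siegel Q u (s • v) = siegel Q u (t • v)) : s = t := by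
  obtain ⟨x, hxv, hxu⟩ := exists_perp_one' hQ (notMem_span_of_pair h).1
  have h1 : (siegel Q u (s • v)).1 x = (siegel Q u (t • v)).1 x :=
    congrArg (fun g : oGroup Q => g.1 x) hst
  rw [siegel_root hu (by rw [quad_smul, hv, mul_zero]) (by rw [polar_smul_right, huv, smul_zero]),
    siegel_root hu (by rw [quad_smul, hv, mul_zero]) (by rw [polar_smul_right, huv, smul_zero]),
    hxu, polar_smul_right, polar_smul_right, hxv v (Submodule.mem_span_singleton_self v),
    one_smul, one_smul, smul_zero, smul_zero, zero_smul, sub_zero, sub_zero] at h1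
  exact smul_left_injective F (h.ne_zero 1) (add_left_cancel h1)

theorem root_ne_one {u v : V} (h : LinearIndependent F ![u, v]) (hu : Q u = 0) (hv : Q v = 0)
    (huv : polar Q u v = 0) {t : F} (ht : t ≠ 0) : siegel Q u (t • v) ≠ 1 := fun e =>
  ht (root_param_inj hQ h hu hv huv (t := 0) (by rw [e, zero_smul, siegel_zero hu]))

omit hQ in
theorem disp_root_mem {L : Submodule F V} (hL : IsLine Q L) {g : oGroup Q} (hg : g ∈ rootGrp Q L)
    (x : V) : g.1 x - x ∈ L := by
  obtain ⟨u, v, -, rfl, hu, hv, huv⟩ := hL.exists_pair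
  obtain ⟨t, rfl⟩ := (mem_rootGrp_pair hu hv huv).mp hg
  rw [siegel_root hu (by rw [quad_smul, hv, mul_zero]) (by rw [polar_smul_right, huv, smul_zero]),
    add_sub_assoc, add_sub_cancel_left]
  exact Submodule.sub_mem _ (Submodule.smul_mem _ _ (Submodule.smul_mem _ _ (right_mem_pair u v)))
    (Submodule.smul_mem _ _ (left_mem_pair u v))

theorem line_eq_of_mem {L M : Submodule F V} (hL : IsLine Q L) (hM : IsLine Q M) {g : oGroup Q}
    (hgL : g ∈ rootGrp Q L) (hgM : g ∈ rootGrp Q M) (hg : g ≠ 1) : L = M := by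
  obtain ⟨u, v, hli, rfl, hu, hv, huv⟩ := hL.exists_pair
  obtain ⟨t, rfl⟩ := (mem_rootGrp_pair hu hv huv).mp hgL
  have ht : t ≠ 0 := fun e => hg (by rw [e, zero_smul, siegel_zero hu])
  have hli' : LinearIndependent F ![u, t • v] := linearIndependent_pair_of (hli.ne_zero 0)
    fun h => (notMem_span_of_pair hli).2 (by
      have := Submodule.smul_mem _ t⁻¹ h
      rwa [smul_smul, inv_mul_cancel₀ ht, one_smul] at this)
  obtain ⟨h1, h2⟩ := mem_of_root_disp hQ hli' hu (by rw [quad_smul, hv, mul_zero])
    (by rw [polar_smul_right, huv, smul_zero]) (disp_root_mem hM hgM)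
  refine hL.eq_of_le hM (Submodule.span_le.mpr (Set.insert_subset h1 (Set.singleton_subset_iff.mpr ?_)))
  have := M.smul_mem t⁻¹ h2
  rwa [smul_smul, inv_mul_cancel₀ ht, one_smul] at this

theorem exists_ne_one_rootGrp {L : Submodule F V} (hL : IsLine Q L) :
    ∃ g ∈ rootGrp Q L, g ≠ 1 := by
  obtain ⟨u, v, hli, rfl, hu, hv, huv⟩ := hL.exists_pair
  exact ⟨_, siegel_mem_rootGrp (left_mem_pair u v) (right_mem_pair u v), by
    rw [← one_smul F v]; exact root_ne_one hQ hli hu hv huv one_ne_zero⟩

/-- An isometry commuting with a root element stabilises its line and commutes with its group. -/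
theorem commute_root {L : Submodule F V} (hL : IsLine Q L) {g x : oGroup Q} (hx : x ∈ rootGrp Q L)
    (hx1 : x ≠ 1) (hgx : Commute g x) :
    (∀ v ∈ L, g.1 v ∈ L) ∧ ∀ y ∈ rootGrp Q L, Commute g y := by
  obtain ⟨u, v, hli, rfl, hu, hv, huv⟩ := hL.exists_pair
  obtain ⟨t, rfl⟩ := (mem_rootGrp_pair hu hv huv).mp hx
  have ht : t ≠ 0 := fun e => hx1 (by rw [e, zero_smul, siegel_zero hu])
  have hp : ∀ s : F, polar Q u (s • v) = 0 := fun s => by rw [polar_smul_right, huv, smul_zero]
  have hconj : g * siegel Q u (t • v) * g⁻¹ = siegel Q u (t • v) := by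
    rw [hgx.eq, mul_inv_cancel_right]
  rw [siegel_conj g hu (hp t)] at hconj
  have hgu : Q (g.1 u) = 0 := by rw [g.2, hu]
  have hgv : Q (g.1 v) = 0 := by rw [g.2, hv]
  have hguv : polar Q (g.1 u) (g.1 v) = 0 := by rw [polar_oGroup, huv]
  have hli' : LinearIndependent F ![g.1 u, g.1 v] := by
    refine LinearIndependent.pair_iff.mpr fun a b hab => LinearIndependent.pair_iff.mp hli a b ?_
    rw [← map_smul, ← map_smul, ← map_add] at hab
    exact g.1.injective (hab.trans (map_zero _).symm)
  have hmem : siegel Q (g.1 u) (g.1 (t • v)) ∈ rootGrp Q (Submodule.span F {u, v}) := hconj ▸ hx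
  have heq : Submodule.span F {g.1 u, g.1 v} = Submodule.span F {u, v} :=
    line_eq_of_mem hQ (isLine_span hli' hgu hgv hguv) hL
      (siegel_mem_rootGrp (left_mem_pair _ _)
        (by rw [map_smul]; exact Submodule.smul_mem _ t (right_mem_pair _ _))) hmem
      (by rw [map_smul]; exact root_ne_one hQ hli' hgu hgv hguv ht)
  have hstab : ∀ w ∈ Submodule.span F {u, v}, g.1 w ∈ Submodule.span F {u, v} := by
    intro w hw
    obtain ⟨a, b, rfl⟩ := Submodule.mem_span_pair.mp hw
    rw [← heq, map_add, map_smul, map_smul]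
    exact Submodule.mem_span_pair.mpr ⟨a, b, rfl⟩
  obtain ⟨a, b, hab⟩ := Submodule.mem_span_pair.mp (hstab u (left_mem_pair u v))
  obtain ⟨c, d, hcd⟩ := Submodule.mem_span_pair.mp (hstab v (right_mem_pair u v))
  have hgen : ∀ s : F, g * siegel Q u (s • v) * g⁻¹ = siegel Q u (((a * d - b * c) * s) • v) := by
    intro s
    rw [siegel_conj g hu (hp s), map_smul, ← hab, ← hcd, smul_add, smul_smul, smul_smul,
      siegel_basis hu hv huv]
    congr 2
    ring
  have hdet : a * d - b * c = 1 := by
    have h1 := hgen t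
    rw [siegel_conj g hu (hp t), hconj] at h1
    have h2 := root_param_inj hQ hli hu hv huv h1
    exact (mul_eq_right₀ ht).mp h2.symm
  refine ⟨hstab, fun y hy => ?_⟩
  obtain ⟨s, rfl⟩ := (mem_rootGrp_pair hu hv huv).mp hy
  have h := hgen s
  rw [hdet, one_mul] at h
  exact mul_inv_eq_iff_eq_mul.mp h

/-- Root groups commute when the lines meet or are orthogonal, and only then. -/
theorem rootGrp_commute_iff {L M : Submodule F V} (hL : IsLine Q L) (hM : IsLine Q M) :
    (∀ x ∈ rootGrp Q L, ∀ y ∈ rootGrp Q M, Commute x y) ↔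
      (∃ p ∈ L, p ∈ M ∧ p ≠ 0) ∨ (∀ x ∈ L, ∀ y ∈ M, polar Q x y = 0) := by
  constructor
  · intro h
    by_cases hmeet : ∃ p ∈ L, p ∈ M ∧ p ≠ 0
    · exact Or.inl hmeet
    push Not at hmeet
    right
    obtain ⟨u, v, hli, rfl, hu, hv, huv⟩ := hL.exists_pair
    obtain ⟨y, hy, hy1⟩ := exists_ne_one_rootGrp hQ hM
    have hst := (commute_root hQ hM hy hy1
      (h _ (siegel_mem_rootGrp (left_mem_pair u v) (right_mem_pair u v)) y hy)).1
    have key : ∀ z ∈ M, polar Q z u = 0 ∧ polar Q z v = 0 := by
      intro z hz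
      have h1 := M.sub_mem (hst z hz) hz
      rw [siegel_root hu hv huv, add_sub_assoc, add_sub_cancel_left] at h1
      have h2 : polar Q z u • v - polar Q z v • u = 0 := hmeet _
        (Submodule.sub_mem _ (Submodule.smul_mem _ _ (right_mem_pair u v))
          (Submodule.smul_mem _ _ (left_mem_pair u v))) h1
      have h3 := LinearIndependent.pair_iff.mp hli (-polar Q z v) (polar Q z u)
        (by rw [neg_smul, neg_add_eq_sub, h2])
      exact ⟨h3.2, neg_eq_zero.mp h3.1⟩
    intro x hx z hz
    obtain ⟨a, b, rfl⟩ := Submodule.mem_span_pair.mp hx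
    rw [polar_comm, polar_lin_right, (key z hz).1, (key z hz).2, mul_zero, mul_zero, add_zero]
  · rintro (⟨p, hpL, hpM, hp0⟩ | hperp)
    · obtain ⟨v, hli, rfl⟩ := hL.exists_basis hpL hp0
      obtain ⟨w, hli', rfl⟩ := hM.exists_basis hpM hp0
      have hp : Q p = 0 := hL.sing p hpL
      have hpv : polar Q p v = 0 := hL.perp hpL (right_mem_pair p v)
      have hpw : polar Q p w = 0 := hM.perp hpM (right_mem_pair p w)
      intro x hx y hy
      obtain ⟨s, rfl⟩ := (mem_rootGrp_pair hp (hL.sing v (right_mem_pair p v)) hpv).mp hx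
      obtain ⟨t, rfl⟩ := (mem_rootGrp_pair hp (hM.sing w (right_mem_pair p w)) hpw).mp hy
      have hs : polar Q p (s • v) = 0 := by rw [polar_smul_right, hpv, smul_zero]
      have ht : polar Q p (t • w) = 0 := by rw [polar_smul_right, hpw, smul_zero]
      rw [commute_iff_eq, siegel_mul hp hs ht, siegel_mul hp ht hs, add_comm]
    · obtain ⟨u, v, hli, rfl, hu, hv, huv⟩ := hL.exists_pair
      obtain ⟨c, d, hli', rfl, hc, hd, hcd⟩ := hM.exists_pair
      intro x hx y hy
      obtain ⟨s, rfl⟩ := (mem_rootGrp_pair hu hv huv).mp hx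
      obtain ⟨t, rfl⟩ := (mem_rootGrp_pair hc hd hcd).mp hy
      have hs : Q (s • v) = 0 := by rw [quad_smul, hv, mul_zero]
      have hus : polar Q u (s • v) = 0 := by rw [polar_smul_right, huv, smul_zero]
      have hfix : ∀ z ∈ Submodule.span F {c, d}, (siegel Q u (s • v)).1 z = z := fun z hz => by
        rw [siegel_root hu hs hus, polar_comm (⇑Q) z u, hperp u (left_mem_pair u v) z hz,
          polar_comm (⇑Q) z (s • v),
          hperp _ (Submodule.smul_mem _ s (right_mem_pair u v)) z hz, zero_smul, zero_smul,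
          add_zero, sub_zero]
      have h := siegel_conj (siegel Q u (s • v)) hc
        (show polar Q c (t • d) = 0 by rw [polar_smul_right, hcd, smul_zero])
      rw [hfix c (left_mem_pair c d), hfix _ (Submodule.smul_mem _ t (right_mem_pair c d))] at h
      exact mul_inv_eq_iff_eq_mul.mp h

/-- Some non-trivial product from two commuting root groups lies in a third only for lines meeting
in a totally singular plane. -/
theorem meet_perp_of_third {L M N : Submodule F V} (hL : IsLine Q L) (hM : IsLine Q M)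
    (hN : IsLine Q N) (hNL : N ≠ L)
    (hcomm : ∀ x ∈ rootGrp Q L, ∀ y ∈ rootGrp Q M, Commute x y) {x y : oGroup Q}
    (hx : x ∈ rootGrp Q L) (hy : y ∈ rootGrp Q M) (hx1 : x ≠ 1) (hy1 : y ≠ 1)
    (hxy : x * y ∈ rootGrp Q N) :
    (∃ p ∈ L, p ∈ M ∧ p ≠ 0) ∧ ∀ a ∈ L, ∀ b ∈ M, polar Q a b = 0 := by
  by_cases hmeet : ∃ p ∈ L, p ∈ M ∧ p ≠ 0
  · refine ⟨hmeet, ?_⟩
    obtain ⟨p, hpL, hpM, hp0⟩ := hmeet
    obtain ⟨v, hli, rfl⟩ := hL.exists_basis hpL hp0
    obtain ⟨w, hli', rfl⟩ := hM.exists_basis hpM hp0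
    have hp : Q p = 0 := hL.sing p hpL
    have hv : Q v = 0 := hL.sing v (right_mem_pair p v)
    have hw : Q w = 0 := hM.sing w (right_mem_pair p w)
    have hpv : polar Q p v = 0 := hL.perp hpL (right_mem_pair p v)
    have hpw : polar Q p w = 0 := hM.perp hpM (right_mem_pair p w)
    obtain ⟨s, rfl⟩ := (mem_rootGrp_pair hp hv hpv).mp hx
    obtain ⟨t, rfl⟩ := (mem_rootGrp_pair hp hw hpw).mp hy
    have hs0 : s ≠ 0 := fun e => hx1 (by rw [e, zero_smul, siegel_zero hp])
    have ht0 : t ≠ 0 := fun e => hy1 (by rw [e, zero_smul, siegel_zero hp])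
    have hpa : polar Q p (s • v + t • w) = 0 := by
      rw [polar_lin_right, hpv, hpw, mul_zero, mul_zero, add_zero]
    rw [siegel_mul hp (by rw [polar_smul_right, hpv, smul_zero])
      (by rw [polar_smul_right, hpw, smul_zero])] at hxy
    obtain ⟨z, -, hz⟩ := exists_perp_one' hQ (U := ⊥) (x := p) (by simpa using hp0)
    have hd := hN.sing _ (disp_root_mem hN hxy z)
    rw [siegel_apply hp hpa, hz, one_smul, mul_one, add_sub_assoc, add_sub_cancel_left,
      sub_eq_add_neg, ← neg_smul, quad_add, quad_smul _ _ p, hp, mul_zero, add_zero,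
      polar_smul_right, polar_comm (⇑Q) _ p, hpa, smul_zero, add_zero, quad_add, quad_smul,
      quad_smul, hv, hw, mul_zero, mul_zero, zero_add, zero_add, polar_smul_left,
      polar_smul_right, smul_eq_mul, smul_eq_mul] at hd
    have hvw : polar Q v w = 0 :=
      (mul_eq_zero.mp ((mul_eq_zero.mp hd).resolve_left hs0)).resolve_left ht0
    intro a ha b hb
    obtain ⟨a1, a2, rfl⟩ := Submodule.mem_span_pair.mp ha
    obtain ⟨b1, b2, rfl⟩ := Submodule.mem_span_pair.mp hb
    rw [polar_lin_right, polar_add_left, polar_add_left, polar_smul_left, polar_smul_left,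
      polar_smul_left, polar_smul_left, polar_self, hp, hvw, hpw, polar_comm (⇑Q) v p, hpv]
    simp
  · exfalso
    have hperp := ((rootGrp_commute_iff hQ hL hM).mp hcomm).resolve_left hmeet
    push Not at hmeet
    obtain ⟨u, v, hli, rfl, hu, hv, huv⟩ := hL.exists_pair
    obtain ⟨c, d, hli', rfl, hc, hd, hcd⟩ := hM.exists_pair
    obtain ⟨s, rfl⟩ := (mem_rootGrp_pair hu hv huv).mp hx
    obtain ⟨t, rfl⟩ := (mem_rootGrp_pair hc hd hcd).mp hy
    have hs0 : s ≠ 0 := fun e => hx1 (by rw [e, zero_smul, siegel_zero hu])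
    have key : ∀ a b : V, a ∈ Submodule.span F {u, v} → b ∈ Submodule.span F {u, v} →
        LinearIndependent F ![a, b] → ∃ z, (∀ k ∈ Submodule.span F {c, d}, polar Q z k = 0) ∧
          polar Q z b = 0 ∧ polar Q z a = 1 := by
      intro a b ha hb hab
      have hnot : a ∉ Submodule.span F {b} ⊔ Submodule.span F {c, d} := by
        intro hmem
        obtain ⟨b', hb', k, hk, hsum⟩ := Submodule.mem_sup.mp hmem
        have hbL : b' ∈ Submodule.span F {u, v} :=
          (Submodule.span_le.mpr (Set.singleton_subset_iff.mpr hb)) hb'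
        have hk0 : k = 0 := by
          refine hmeet k ?_ hk
          rw [show k = a - b' by rw [← hsum]; abel]
          exact Submodule.sub_mem _ ha hbL
        rw [hk0, add_zero] at hsum
        exact (notMem_span_of_pair hab).1 (hsum ▸ hb')
      obtain ⟨z, hz, hz1⟩ := exists_perp_one' hQ hnot
      exact ⟨z, fun k hk => hz k (Submodule.mem_sup_right hk),
        hz b (Submodule.mem_sup_left (Submodule.mem_span_singleton_self b)), hz1⟩
    have hfix : ∀ z, (∀ k ∈ Submodule.span F {c, d}, polar Q z k = 0) →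
        (siegel Q c (t • d)).1 z = z := fun z hz => by
      rw [siegel_root hc (by rw [quad_smul, hd, mul_zero])
        (by rw [polar_smul_right, hcd, smul_zero]), hz c (left_mem_pair c d),
        hz _ (Submodule.smul_mem _ t (right_mem_pair c d)), zero_smul, zero_smul, add_zero,
        sub_zero]
    have hdisp : ∀ z, (∀ k ∈ Submodule.span F {c, d}, polar Q z k = 0) →
        polar Q z u • (s • v) - (s * polar Q z v) • u ∈ N := fun z hz => by
      have h1 := disp_root_mem hN hxy z
      change (siegel Q u (s • v)).1 ((siegel Q c (t • d)).1 z) - z ∈ N at h1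
      rwa [hfix z hz, siegel_root hu (by rw [quad_smul, hv, mul_zero])
        (by rw [polar_smul_right, huv, smul_zero]), polar_smul_right, smul_eq_mul,
        add_sub_assoc, add_sub_cancel_left] at h1
    obtain ⟨z1, hz1, hz1v, hz1u⟩ := key u v (left_mem_pair u v) (right_mem_pair u v) hli
    obtain ⟨z2, hz2, hz2u, hz2v⟩ := key v u (right_mem_pair u v) (left_mem_pair u v)
      (LinearIndependent.pair_symm_iff.mp hli)
    have hvN : v ∈ N := by
      have h1 := hdisp z1 hz1
      rw [hz1u, hz1v, one_smul, mul_zero, zero_smul, sub_zero] at h1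
      have := N.smul_mem s⁻¹ h1
      rwa [smul_smul, inv_mul_cancel₀ hs0, one_smul] at this
    have huN : u ∈ N := by
      have h1 := hdisp z2 hz2
      rw [hz2u, hz2v, zero_smul, mul_one, zero_sub] at h1
      have := N.smul_mem (-s⁻¹) h1
      rwa [smul_neg, neg_smul, neg_neg, smul_smul, inv_mul_cancel₀ hs0, one_smul] at this
    exact hNL (hL.eq_of_le hN
      (Submodule.span_le.mpr (Set.insert_subset huN (Set.singleton_subset_iff.mpr hvN)))).symm

omit hQ in
/-- For lines meeting in a totally singular plane there is a third line. -/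
theorem exists_third {L M : Submodule F V} (hL : IsLine Q L) (hM : IsLine Q M) (hne : L ≠ M)
    {p : V} (hpL : p ∈ L) (hpM : p ∈ M) (hp0 : p ≠ 0)
    (hperp : ∀ a ∈ L, ∀ b ∈ M, polar Q a b = 0) :
    ∃ N, IsLine Q N ∧ N ≠ L ∧ N ≠ M ∧ ∃ v ∈ L, ∃ w ∈ M, LinearIndependent F ![p, v] ∧
      LinearIndependent F ![p, w] ∧ siegel Q p v * siegel Q p w ∈ rootGrp Q N := by
  obtain ⟨v, hli, rfl⟩ := hL.exists_basis hpL hp0
  obtain ⟨w, hli', rfl⟩ := hM.exists_basis hpM hp0
  have hp : Q p = 0 := hL.sing p hpL
  have hv : Q v = 0 := hL.sing v (right_mem_pair p v)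
  have hw : Q w = 0 := hM.sing w (right_mem_pair p w)
  have hpv : polar Q p v = 0 := hL.perp hpL (right_mem_pair p v)
  have hpw : polar Q p w = 0 := hM.perp hpM (right_mem_pair p w)
  have hvw : polar Q v w = 0 := hperp v (right_mem_pair p v) w (right_mem_pair p w)
  have hwL : w ∉ Submodule.span F {p, v} := fun h => hne ((hM.eq_of_le hL
    (Submodule.span_le.mpr (Set.insert_subset hpL (Set.singleton_subset_iff.mpr h)))).symm)
  have hvM : v ∉ Submodule.span F {p, w} := fun h => hne (hL.eq_of_le hM
    (Submodule.span_le.mpr (Set.insert_subset hpM (Set.singleton_subset_iff.mpr h))))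
  have hQvw : Q (v + w) = 0 := by rw [quad_add, hv, hw, hvw, add_zero, add_zero]
  have hpvw : polar Q p (v + w) = 0 := by rw [polar_add_right, hpv, hpw, add_zero]
  have hli3 : LinearIndependent F ![p, v + w] := linearIndependent_pair_of hp0 fun h => by
    refine hwL ?_
    have : w = (v + w) - v := by abel
    rw [this]
    exact Submodule.sub_mem _
      ((Submodule.span_mono (Set.singleton_subset_iff.mpr (Set.mem_insert _ _))) h)
      (right_mem_pair p v)
  refine ⟨_, isLine_span hli3 hp hQvw hpvw, fun e => hwL ?_, fun e => hvM ?_, v, right_mem_pair p v,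
    w, right_mem_pair p w, hli, hli', ?_⟩
  · have h1 : v + w ∈ Submodule.span F {p, v} := e ▸ right_mem_pair p (v + w)
    have := Submodule.sub_mem _ h1 (right_mem_pair p v)
    rwa [add_sub_cancel_left] at this
  · have h1 : v + w ∈ Submodule.span F {p, w} := e ▸ right_mem_pair p (v + w)
    have := Submodule.sub_mem _ h1 (right_mem_pair p w)
    rwa [add_sub_cancel_right] at this
  · rw [siegel_mul hp hpv hpw]
    exact siegel_mem_rootGrp (left_mem_pair _ _) (right_mem_pair _ _)

end CfsgLib.AutPOm
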