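import Cfsg.Agent.AutPOm.OddField

/-!
When the small group meets every inner class of the inner-diagonal group.
-/

set_option autoImplicit false
set_option linter.style.haveILetI false

namespace CfsgLib.AutPOm

open QuadraticMap CfsgLib.Forms CfsgLib.Quad Matrix

variable {F : Type*} [Field F] [Finite F] {ι : Type} [Fintype ι] [DecidableEq ι]
  {Q : QuadraticForm F (ι → F)}

omit [Finite F] in
/-- A similarity with square multiplier is a scalar times an isometry. -/
theorem exists_scalar_iso {S : Semi Q} (hσ : S.σ = RingEquiv.refl F) {s : F}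
    (hs : (S.c : F) = s * s) : ∃ (u : Fˣ) (g : oGroup Q), S = scalarHom Q u * isoHom Q g := by
  have hs0 : s ≠ 0 := fun e => S.c.ne_zero (by rw [hs, e, mul_zero])
  obtain ⟨g, hg⟩ := Semi.eq_iso (S := (scalarHom Q (Units.mk0 s hs0))⁻¹ * S)
    (RingEquiv.ext fun z => by
      change (RingEquiv.refl F).symm (S.σ z) = z
      rw [hσ]; rfl)
    (Units.ext (by
      rw [← map_inv, Semi.mul_c]
      change ((Units.mk0 s hs0)⁻¹ : Fˣ) * ((Units.mk0 s hs0)⁻¹ : Fˣ) * (S.c : F) = (1 : F)
      rw [hs, Units.val_inv_eq_inv_val, Units.val_mk0]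
      field_simp))
  exact ⟨Units.mk0 s hs0, g, by rw [← hg, mul_inv_cancel_left]⟩

theorem outHom_scalar (hQ : Big Q) (u : Fˣ) : outHom Q (scalarHom Q u) = 1 :=
  (outHom_eq_one_iff hQ).mpr ⟨u, 1, by rw [OneMemClass.coe_one, map_one, mul_one]⟩

variable {K : Type*} [Field K] [Finite K] {f : K →+* F} {κ : Type} [Fintype κ] [DecidableEq κ]
  {Q0 : QuadraticForm K (κ → K)} {Qs : QuadraticForm F (κ → F)} (hs : IsBase f Q0 Qs)
  (J : (κ → F) ≃ₗ[F] (ι → F)) (w : Fˣ) (hJ : ∀ u, Q (J u) = (w : F) * Qs u)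
  {A : Subgroup (Semi Q)} (hA : A ≤ simGroup Q) (hAs : ∀ u : Fˣ, scalarHom Q u ∈ A) (hQ : Big Q)
include hQ hA hAs

/-- In odd characteristic and odd degree the small group reaches every class. -/
theorem map_outHom_le_of_odd {σ : RingAut F} {r : ℕ} (hf : IsFixed f σ r) (hr : Odd r)
    (h2 : (2 : F) ≠ 0) (hQ0 : Big Q0)
    (hdet : ∀ g : oGroup Q, isoHom Q g ∈ A → detO Q g = 1)
    (hpairA : ∀ a b : ι → F, Q a ≠ 0 → Q b ≠ 0 → isoHom Q (refl Q a * refl Q b) ∈ A)
    (hmult : ∃ L : ↥(baseGroup (A := A) hs J w hJ), ¬ IsSquare (L.1.1.c : K)) :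
    A.map (outHom Q) ≤ (baseOut (A := A) hs J w hJ).range := by
  have h20 : (2 : K) ≠ 0 := fun e => h2 (by rw [← map_ofNat f 2, e, map_zero])
  have hn : 2 ≤ Module.finrank F (ι → F) := by have := hQ.dim; omega
  obtain ⟨θ, hθ⟩ := exists_spinor hQ.nd h2 hn
  have hsq : ∀ S ∈ A, IsSquare (S.c : F) → outHom Q S ∈ (baseOut (A := A) hs J w hJ).range := by
    rintro S hS ⟨s, hsS⟩
    obtain ⟨u, g, rfl⟩ := exists_scalar_iso (mem_simGroup.mp (hA hS)) hsS
    have hgA : isoHom Q g ∈ A := (A.mul_mem_cancel_left (hAs u)).mp hS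
    rw [map_mul, outHom_scalar hQ, one_mul]
    rcases Int.units_eq_one_or (θ g) with hg | hg
    · rw [(outHom_iso_eq_one_iff hQ).mpr (Or.inl ((mem_commutator_iff hQ.nd h2 hn hθ g).mpr
        ⟨hdet g hgA, hg⟩))]
      exact one_mem _
    · obtain ⟨a, b, ha, hb, haS, hbS⟩ := exists_classes hQ0.nd h20 (by have := hQ0.dim; omega)
      set a' := J (extVec f a)
      set b' := J (extVec f b)
      have ha' : Q a' ≠ 0 := by
        rw [hJ, hs]; exact mul_ne_zero w.ne_zero fun e => ha (f.injective (e.trans (map_zero f).symm))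
      have hb' : Q b' ≠ 0 := by
        rw [hJ, hs]; exact mul_ne_zero w.ne_zero fun e => hb (f.injective (e.trans (map_zero f).symm))
      set L : ↥(simGroup Q0) := ⟨isoHom Q0 (refl Q0 a), mem_simGroup.mpr rfl⟩ *
        ⟨isoHom Q0 (refl Q0 b), mem_simGroup.mpr rfl⟩ with hL
      have himg : transport J w hJ (hs.extHom L) = isoHom Q (refl Q a' * refl Q b') := by
        rw [hL, map_mul, map_mul, transport_extHom_refl hs J w hJ ha,
          transport_extHom_refl hs J w hJ hb, map_mul]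
      have hLA : L ∈ baseGroup (A := A) hs J w hJ := by
        change transport J w hJ (hs.extHom L) ∈ A
        rw [himg]
        exact hpairA a' b' ha' hb'
      have hkA : isoHom Q (g * (refl Q a' * refl Q b')⁻¹) ∈ A := by
        rw [map_mul, map_inv]
        exact A.mul_mem hgA (A.inv_mem (hpairA a' b' ha' hb'))
      have hpair : θ (refl Q a' * refl Q b') = -1 := by
        refine (Int.units_eq_one_or _).resolve_left fun e => hbS ?_
        rw [map_mul, mul_eq_one_iff_eq_inv, Int.units_inv_eq_self] at e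
        have h1 : IsSquare (Q a') ↔ IsSquare (Q b') := by rw [← hθ a' ha', ← hθ b' hb', e]
        have h2' := (isSquare_mul_iff h2 ha' hb').mpr h1
        rw [hJ, hJ, hs, hs, show (w : F) * f (Q0 a) * ((w : F) * f (Q0 b)) =
          ((w : F) * (w : F)) * f (Q0 a * Q0 b) by rw [map_mul]; ring] at h2'
        have h3 : IsSquare (f (Q0 a * Q0 b)) := by
          have hw : (w : F) * (w : F) ≠ 0 := mul_ne_zero w.ne_zero w.ne_zero
          refine ((isSquare_mul_iff h2 hw fun e => ?_).mp h2').mp ⟨_, rfl⟩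
          exact mul_ne_zero ha hb (f.injective (e.trans (map_zero f).symm))
        exact ((isSquare_mul_iff h20 ha hb).mp (isSquare_of_map_of_odd hf hr h2 h3)).mp haS
      refine ⟨⟨L, hLA⟩, ?_⟩
      rw [baseOut_apply, himg]
      symm
      refine mul_inv_eq_one.mp ?_
      rw [← map_inv, ← map_mul, ← map_inv, ← map_mul]
      refine (outHom_iso_eq_one_iff hQ).mpr (Or.inl ((mem_commutator_iff hQ.nd h2 hn hθ _).mpr
        ⟨hdet _ hkA, ?_⟩))
      rw [map_mul, map_inv, hg, hpair]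
      rfl
  rintro _ ⟨S, hS, rfl⟩
  by_cases hc : IsSquare (S.c : F)
  · exact hsq S hS hc
  obtain ⟨L, hLc⟩ := hmult
  set S1 := transport J w hJ (hs.extHom L.1) with hS1
  obtain ⟨h1, -, h3⟩ := hs.extHom_spec L.1
  have hS1c : (S1.c : F) = f L.1.1.c := by
    rw [hS1, transport_c, mem_simGroup.mp h1,
      show Units.map (RingEquiv.refl F).toMonoidHom w = w from Units.ext rfl, mul_inv_cancel_right, h3]
  have hns : ¬ IsSquare (S1.c : F) := by
    rw [hS1c]; exact fun h => hLc (isSquare_of_map_of_odd hf hr h2 h)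
  have h4 := hsq (S * S1) (A.mul_mem hS L.2) (by
    rw [Semi.mul_c, mem_simGroup.mp (hA hS), RingEquiv.refl_apply]
    exact (isSquare_mul_iff h2 S.c.ne_zero S1.c.ne_zero).mpr (iff_of_false hc hns))
  rw [map_mul] at h4
  have h5 : outHom Q S1 ∈ (baseOut (A := A) hs J w hJ).range := ⟨L, rfl⟩
  exact (Subgroup.mul_mem_cancel_right _ h5).mp h4

omit [Finite K] in
/-- In characteristic two every class is inner. -/
theorem map_outHom_eq_bot_of_two [CharP F 2]
    (hker : ∀ g : oGroup Q, isoHom Q g ∈ A → g ∈ Om Q) : A.map (outHom Q) = ⊥ := by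
  rw [eq_bot_iff]
  rintro _ ⟨S, hS, rfl⟩
  obtain ⟨s, hs'⟩ := isSquare_char_two (S.c : F)
  obtain ⟨u, g, rfl⟩ := exists_scalar_iso (mem_simGroup.mp (hA hS)) hs'
  rw [Subgroup.mem_bot, map_mul, outHom_scalar hQ, one_mul]
  exact (outHom_iso_eq_one_iff hQ).mpr (Or.inl (hker g ((A.mul_mem_cancel_left (hAs u)).mp hS)))

end CfsgLib.AutPOm
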