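import Cfsg.Agent.AutPOm.MinusSign
import Cfsg.Agent.AutPOm.OneClass

/-!
Field automorphisms of prime order of the orthogonal groups of minus type.
-/

set_option autoImplicit false
set_option linter.style.haveILetI false

namespace CfsgLib.AutPOm

open QuadraticMap CfsgLib.Forms CfsgLib.Quad Matrix

section similitude

variable {F : Type*} [Field F] {ι : Type} [Fintype ι] [DecidableEq ι]
  {P Q : QuadraticForm F (ι → F)}

/-- Conjugation by a similitude of quadratic spaces. -/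
def oEquivOfSim (J : (ι → F) ≃ₗ[F] (ι → F)) (w : Fˣ) (hJ : ∀ u, Q (J u) = (w : F) * P u) :
    oGroup P ≃* oGroup Q where
  toFun g := ⟨J.symm.trans (g.1.trans J), fun v => by
    change Q (J (g.1 (J.symm v))) = Q v
    rw [hJ, g.2, ← hJ, J.apply_symm_apply]⟩
  invFun g := ⟨J.trans (g.1.trans J.symm), fun v => by
    change P (J.symm (g.1 (J v))) = P v
    rw [symm_hJ hJ, g.2, hJ, ← mul_assoc, Units.inv_mul, one_mul]⟩
  left_inv g := Subtype.ext (LinearEquiv.ext fun v => by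
    change J.symm (J (g.1 (J.symm (J v)))) = g.1 v
    simp)
  right_inv g := Subtype.ext (LinearEquiv.ext fun v => by
    change J (J.symm (g.1 (J (J.symm v)))) = g.1 v
    simp)
  map_mul' g h := Subtype.ext (LinearEquiv.ext fun v => by
    change J (g.1 (h.1 (J.symm v))) = J (g.1 (J.symm (J (h.1 (J.symm v)))))
    simp)

/-- The induced isomorphism of `POmega`. -/
noncomputable def pgEquivOfSim (J : (ι → F) ≃ₗ[F] (ι → F)) (w : Fˣ)
    (hJ : ∀ u, Q (J u) = (w : F) * P u) : PG P ≃* PG Q :=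
  let e := ((oEquivOfSim J w hJ).subgroupMap (Om P)).trans
    (MulEquiv.subgroupCongr (commutator_map_equiv (oEquivOfSim J w hJ)))
  QuotientGroup.congr _ _ e (map_center_equiv e)

theorem pgEquivOfSim_pgAut (J : (ι → F) ≃ₗ[F] (ι → F)) (w : Fˣ)
    (hJ : ∀ u, Q (J u) = (w : F) * P u) (S : Semi P) (x : PG P) :
    pgEquivOfSim J w hJ (S.pgAut x) = (transport J w hJ S).pgAut (pgEquivOfSim J w hJ x) := by
  obtain ⟨g, rfl⟩ := QuotientGroup.mk'_surjective _ x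
  refine congrArg (QuotientGroup.mk' _) (Subtype.ext (Subtype.ext (LinearEquiv.ext fun v => ?_)))
  change J (S.T (g.1.1 (S.T.symm (J.symm v)))) =
    J (S.T (J.symm (J (g.1.1 (J.symm (J (S.T.symm (J.symm v))))))))
  simp

/-- The isomorphism of the matrix groups. -/
noncomputable def pomEquivOfSim (J : (ι → F) ≃ₗ[F] (ι → F)) (w : Fˣ)
    (hJ : ∀ u, Q (J u) = (w : F) * P u) : Cfsg.POmega F ⇑P ≃* Cfsg.POmega F ⇑Q :=
  ((pOmegaEquiv P).trans (pgEquivOfSim J w hJ)).trans (pOmegaEquiv Q).symm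

theorem pomEquivOfSim_pomHom (J : (ι → F) ≃ₗ[F] (ι → F)) (w : Fˣ)
    (hJ : ∀ u, Q (J u) = (w : F) * P u) (S : Semi P) (x : Cfsg.POmega F ⇑P) :
    pomEquivOfSim J w hJ (pomHom P S x) =
      pomHom Q (transport J w hJ S) (pomEquivOfSim J w hJ x) := by
  rw [pomHom_apply', pomHom_apply', pgHom_apply, pgHom_apply]
  simp only [pomEquivOfSim, MulEquiv.trans_apply, MulEquiv.apply_symm_apply, pgEquivOfSim_pgAut]

/-- A conjugate of an automorphism from a semisimilarity of finite order. -/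
theorem lift_of_conj [Finite F] (hQ : Big Q) (hs : Shape Q) {x α : MulAut (Cfsg.POmega F ⇑Q)}
    {T₀ : Semi Q} {σ : RingAut F} (hσ : T₀.σ = σ) (hT : T₀ ^ orderOf σ = 1)
    (hconj : α * x * α⁻¹ = pomHom Q T₀) :
    orderOf σ = orderOf x ∧
      ∃ Y : Semi Q, Y.σ = σ ∧ Y ^ orderOf x = 1 ∧ x = pomHom Q Y := by
  obtain ⟨S, rfl⟩ := pomHom_surjective hQ hs α
  have hYσ : (S⁻¹ * T₀ * S).σ = σ := by
    change (sigmaHom Q) (S⁻¹ * T₀ * S) = σ
    rw [map_mul, map_mul, map_inv, mul_assoc, CfsgLib.AutPSL.ringAut_comm ((sigmaHom Q) T₀),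
      inv_mul_cancel_left]
    exact hσ
  have hxY : x = pomHom Q (S⁻¹ * T₀ * S) := by
    rw [map_mul, map_mul, map_inv, ← hconj]
    group
  have hYr : (S⁻¹ * T₀ * S) ^ orderOf σ = 1 := by
    have := conj_pow (a := S⁻¹) (b := T₀) (i := orderOf σ)
    rw [inv_inv] at this
    rw [this, hT, mul_one, inv_mul_cancel]
  have hord : orderOf σ = orderOf x := by rw [hxY, orderOf_pomHom hQ rfl hYσ hYr]
  exact ⟨hord, _, hYσ, hord ▸ hYr, hxY⟩

end similitude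

universe u

variable {F : Type u} [Field F] [Finite F] {k : ℕ} {a b : F}
  (hab : ∀ z₁ z₂ : F, z₁ ^ 2 + a * z₁ * z₂ + b * z₂ ^ 2 = 0 → z₁ = 0 ∧ z₂ = 0)
include hab

/-- The chosen class character. -/
noncomputable def minusSign (hk : 2 ≤ k) : ↥(simGroup (minusQ k a b)) →* ℤˣ :=
  Classical.choose (exists_minusSign hab hk)

theorem minusSign_spec (hk : 2 ≤ k) :
    (∀ L : ↥(simGroup (minusQ k a b)),
      Cfsg.PreservesSingularClassesMinus k a b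
        (L.1.mat : Matrix ((Fin k ⊕ Fin k) ⊕ Fin 2) ((Fin k ⊕ Fin k) ⊕ Fin 2) F) ↔
        minusSign hab hk L = 1) ∧
    (∀ u, minusSign hab hk ⟨scalarHom _ u, mem_simGroup.mpr rfl⟩ = 1) ∧
    (∀ v, minusQ k a b v ≠ 0 →
      minusSign hab hk ⟨isoHom _ (refl _ v), mem_simGroup.mpr rfl⟩ = -1) ∧
    (∀ L : ↥(simGroup (minusQ k a b)),
      (L.1.mat : Matrix ((Fin k ⊕ Fin k) ⊕ Fin 2) ((Fin k ⊕ Fin k) ⊕ Fin 2) F).det =
        ((minusSign hab hk L : ℤ) : F) * (L.1.c : F) ^ (k + 1)) ∧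
    ∀ (K : Type u) [Field K] [Finite K] (f : F →+* K) (θ : K) (_ : θ ^ 2 + f a * θ + f b = 0),
      (∀ x : F, IsSquare (f x)) → ∀ he : HypSpace (minusQ (F := K) k (f a) (f b)) (k + 1) (rootHalf k θ),
        minusSign hab hk = extCls (isBase_minusQ f k a b) he :=
  Classical.choose_spec (exists_minusSign hab hk)

/-- The class-preserving similarities of the minus form. -/
noncomputable def minusDir (hk : 2 ≤ k) : Subgroup (Semi (minusQ k a b)) :=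
  (minusSign hab hk).ker.map (simGroup (minusQ k a b)).subtype

theorem mem_minusDir (hk : 2 ≤ k) {S : Semi (minusQ k a b)} :
    S ∈ minusDir hab hk ↔ ∃ h : S ∈ simGroup _, minusSign hab hk ⟨S, h⟩ = 1 := by
  constructor
  · rintro ⟨⟨S, h⟩, h1, rfl⟩
    exact ⟨h, h1⟩
  · rintro ⟨h, h1⟩
    exact ⟨⟨S, h⟩, h1, rfl⟩

theorem minusDir_le (hk : 2 ≤ k) : minusDir hab hk ≤ simGroup _ := Subgroup.map_subtype_le _

theorem scalar_mem_minusDir (hk : 2 ≤ k) (u : Fˣ) : scalarHom _ u ∈ minusDir hab hk :=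
  (mem_minusDir hab hk).mpr ⟨mem_simGroup.mpr rfl, (minusSign_spec hab hk).2.1 u⟩

theorem iso_mem_minusDir (hk : 2 ≤ k) (g : ↥(Om (minusQ k a b))) :
    isoHom _ g.1 ∈ minusDir hab hk :=
  (mem_minusDir hab hk).mpr ⟨mem_simGroup.mpr rfl, MonoidHom.mem_ker.mp
    (Abelianization.commutator_subset_ker
      ((minusSign hab hk).comp ((isoHom _).codRestrict _ fun _ => mem_simGroup.mpr rfl)) g.2)⟩

theorem minusDir_eq_map (hk : 2 ≤ k) :
    classAut F ⇑(minusQ k a b) (Cfsg.PreservesSingularClassesMinus k a b) =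
      (minusDir hab hk).map (pomHom (minusQ k a b)) := by
  rw [classAut_eq (K := minusDir hab hk) fun S hS => by
    rw [(minusSign_spec hab hk).1 ⟨S, hS⟩, mem_minusDir]
    exact ⟨fun h => ⟨hS, h⟩, fun ⟨_, h⟩ => h⟩]
  rw [inf_eq_right.mpr (minusDir_le hab hk)]

variable {K : Type*} [Field K] [Finite K] {f : K →+* F} {σ : RingAut F} {r : ℕ}

theorem minus_model (hf : IsFixed f σ r) {a₀ b₀ : K}
    (hab₀ : ∀ z₁ z₂ : K, z₁ ^ 2 + a₀ * z₁ * z₂ + b₀ * z₂ ^ 2 = 0 → z₁ = 0 ∧ z₂ = 0)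
    (Y : Semi (minusQ k a b)) (hσ : Y.σ = σ) (hY : Y ^ r = 1) :
    ∃ (J : ((Fin k ⊕ Fin k) ⊕ Fin 2 → F) ≃ₗ[F] ((Fin k ⊕ Fin k) ⊕ Fin 2 → F)) (w : Fˣ)
      (hJ : ∀ u, minusQ k a b (J u) = (w : F) * minusQ k (f a₀) (f b₀) u),
      transport J w hJ ((isBase_minusQ f k a₀ b₀).coordT σ hf.fix) = Y := by
  obtain ⟨Q1, Qe, hb, J, w, hJ, hnd, hT⟩ := exists_descent hf (minusQ_nondeg hab k) Y hσ hY
  rcases similar_even hnd (k := k) (by simp; ring) hab₀ with ⟨φ, hφ⟩ | ⟨φ, hφ⟩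
  · exfalso
    obtain ⟨J', w', hJ', -⟩ :=
      exists_transport_of_similar hf hb (isBase_plusQ f (k + 1)) hJ φ one_ne_zero hφ
    have h1 := ts_bound_minusQ hab k ((plusHalf F (k + 1)).map J'.toLinearMap) (by
      rintro _ ⟨x, hx, rfl⟩
      change minusQ k a b (J' x) = 0
      have hx' : ∀ i, x (Sum.inr i) = 0 := fun i => congrFun (LinearMap.mem_ker.mp hx) i
      rw [hJ', plusQ_coe]
      simp [Cfsg.quadFormPlus, hx'])
    rw [LinearEquiv.finrank_map_eq, finrank_plusHalf] at h1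
    omega
  · obtain ⟨J', w', hJ', hT'⟩ :=
      exists_transport_of_similar hf hb (isBase_minusQ f k a₀ b₀) hJ φ one_ne_zero hφ
    exact ⟨J', w', hJ', hT'.trans hT⟩

omit [Finite K] in
/-- The lift of a field automorphism of the minus type group. -/
theorem minus_lift (hk : 3 ≤ k) {x : MulAut (Cfsg.POmega F ⇑(minusQ k a b))}
    (hx : ∃ (a' b' : F) (ψ : Cfsg.POmega F ⇑(minusQ k a b) ≃* Cfsg.POmega F ⇑(minusQ k a' b'))
      (σ : F ≃+* F), (∀ z₁ z₂ : F, z₁ ^ 2 + a' * z₁ * z₂ + b' * z₂ ^ 2 = 0 → z₁ = 0 ∧ z₂ = 0) ∧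
        σ ≠ RingEquiv.refl F ∧ σ a' = a' ∧ σ b' = b' ∧
        Cfsg.IsFieldAutPOmegaOf ⇑(minusQ k a' b') σ ((ψ.symm.trans x).trans ψ)) :
    ∃ (σ : RingAut F) (Y : Semi (minusQ k a b)) (a' b' : F),
      (∀ z₁ z₂ : F, z₁ ^ 2 + a' * z₁ * z₂ + b' * z₂ ^ 2 = 0 → z₁ = 0 ∧ z₂ = 0) ∧
      σ a' = a' ∧ σ b' = b' ∧ orderOf σ = orderOf x ∧ Y.σ = σ ∧ Y ^ orderOf x = 1 ∧
      x = pomHom _ Y := by
  obtain ⟨hQ, hs⟩ := big_minusQ hab hk
  obtain ⟨a', b', ψ, σ, hab', -, ha', hb', hφ⟩ := hx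
  have hcoord : ∀ v, minusQ k a' b' (fun i => σ (v i)) = σ (minusQ k a' b' v) := fun v => by
    simp [minusQ_coe, Cfsg.quadFormMinus, map_sum, ha', hb']
  have hφ' := isFieldAut_iff hcoord hφ
  have hpow : ∀ n, ((coordSemi σ hcoord) ^ n).σ = (σ : RingAut F) ^ n ∧
      ((coordSemi σ hcoord) ^ n).c = 1 ∧
      ∀ v, ((coordSemi σ hcoord) ^ n).T v = fun i => ((σ : RingAut F) ^ n) (v i) := by
    intro n
    induction n with
    | zero => exact ⟨rfl, rfl, fun v => rfl⟩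
    | succ n ih =>
      refine ⟨Semi.pow_σ _ _, Units.ext ?_, fun v => ?_⟩
      · rw [pow_succ', Semi.mul_c, ih.2.1]
        change (1 : F) * σ 1 = 1
        rw [map_one, one_mul]
      · rw [Semi.pow_succ_T, ih.2.2, pow_succ']
        rfl
  have hT0 : (coordSemi σ hcoord) ^ orderOf (σ : RingAut F) = 1 := by
    obtain ⟨h1, h2, h3⟩ := hpow (orderOf (σ : RingAut F))
    refine Semi.ext' (h1.trans (pow_orderOf_eq_one _)) (fun v => ?_) h2
    rw [h3, pow_orderOf_eq_one]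
    rfl
  obtain ⟨φ, hφiso⟩ := minusQ_isometric k hab hab'
  have hJ : ∀ u, minusQ k a b (φ u) = ((1 : Fˣ) : F) * minusQ k a' b' u := fun u => by
    rw [Units.val_one, one_mul, hφiso]
  set θ : MulAut (Cfsg.POmega F ⇑(minusQ k a b)) := ψ.trans (pomEquivOfSim φ 1 hJ)
  have hconj : θ * x * θ⁻¹ = pomHom _ (transport φ 1 hJ (coordSemi σ hcoord)) := by
    refine MulEquiv.ext fun z => ?_
    obtain ⟨y, rfl⟩ := (pomEquivOfSim φ 1 hJ).surjective z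
    rw [← pomEquivOfSim_pomHom, ← hφ']
    change pomEquivOfSim φ 1 hJ (ψ (x (ψ.symm ((pomEquivOfSim φ 1 hJ).symm
      (pomEquivOfSim φ 1 hJ y))))) = _
    rw [MulEquiv.symm_apply_apply]
    rfl
  obtain ⟨hord, Y, h1, h2, h3⟩ := lift_of_conj hQ hs (σ := (σ : RingAut F))
    (T₀ := transport φ 1 hJ (coordSemi σ hcoord)) rfl (by rw [← map_pow, hT0, map_one]) hconj
  exact ⟨σ, Y, a', b', hab', ha', hb', hord, h1, h2, h3⟩

omit [Finite K] in
theorem exists_aniso_coeffs (hf : IsFixed f σ r) {a' b' : F} (ha : σ a' = a') (hb : σ b' = b')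
    (hab' : ∀ z₁ z₂ : F, z₁ ^ 2 + a' * z₁ * z₂ + b' * z₂ ^ 2 = 0 → z₁ = 0 ∧ z₂ = 0) :
    ∃ a₀ b₀ : K, f a₀ = a' ∧ f b₀ = b' ∧
      ∀ z₁ z₂ : K, z₁ ^ 2 + a₀ * z₁ * z₂ + b₀ * z₂ ^ 2 = 0 → z₁ = 0 ∧ z₂ = 0 := by
  obtain ⟨a₀, rfl⟩ := hf.surj a' ha
  obtain ⟨b₀, rfl⟩ := hf.surj b' hb
  refine ⟨a₀, b₀, rfl, rfl, fun z₁ z₂ hz => ?_⟩
  obtain ⟨e1, e2⟩ := hab' (f z₁) (f z₂) (by
    have := congrArg f hz
    simpa only [map_add, map_mul, map_pow, map_zero] using this)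
  exact ⟨f.injective (e1.trans (map_zero f).symm), f.injective (e2.trans (map_zero f).symm)⟩

theorem odd_of_aniso (hf : IsFixed f σ r) {a₀ b₀ : K}
    (hab' : ∀ z₁ z₂ : F, z₁ ^ 2 + f a₀ * z₁ * z₂ + f b₀ * z₂ ^ 2 = 0 → z₁ = 0 ∧ z₂ = 0)
    (hab₀ : ∀ z₁ z₂ : K, z₁ ^ 2 + a₀ * z₁ * z₂ + b₀ * z₂ ^ 2 = 0 → z₁ = 0 ∧ z₂ = 0) : Odd r := by
  refine Nat.not_even_iff_odd.mp fun he => ?_
  obtain ⟨z₁, z₂, hz, hz2⟩ := exists_root_of_even hf he hab₀
  exact hz2 (hab' z₁ z₂ hz).2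

omit [Finite K] in
theorem exists_flip [Finite K] (hf : IsFixed f σ r) (hk : 2 ≤ k) {a₀ b₀ : K}
    (hab₀ : ∀ z₁ z₂ : K, z₁ ^ 2 + a₀ * z₁ * z₂ + b₀ * z₂ ^ 2 = 0 → z₁ = 0 ∧ z₂ = 0)
    (J : ((Fin k ⊕ Fin k) ⊕ Fin 2 → F) ≃ₗ[F] ((Fin k ⊕ Fin k) ⊕ Fin 2 → F)) (w : Fˣ)
    (hJ : ∀ u, minusQ k a b (J u) = (w : F) * minusQ k (f a₀) (f b₀) u) :
    ∀ h ∈ simGroup (minusQ k a b), ∃ t, Commute t (transport J w hJ
      ((isBase_minusQ f k a₀ b₀).coordT σ hf.fix)) ∧ h * t ∈ minusDir hab hk := by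
  intro h hh
  rcases Int.units_eq_one_or (minusSign hab hk ⟨h, hh⟩) with e | e
  · exact ⟨1, Commute.one_left _, by rw [mul_one]; exact (mem_minusDir hab hk).mpr ⟨hh, e⟩⟩
  set z : (Fin k ⊕ Fin k) ⊕ Fin 2 → K := Pi.single (Sum.inr 0) 1
  have hz : minusQ k a₀ b₀ z ≠ 0 := by simp [z, minusQ_coe, Cfsg.quadFormMinus]
  set L : ↥(simGroup (minusQ k a₀ b₀)) := ⟨isoHom _ (refl _ z), mem_simGroup.mpr rfl⟩
  refine ⟨transport J w hJ ((isBase_minusQ f k a₀ b₀).extHom L), ?_, ?_⟩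
  · change _ * _ = _ * _
    rw [← map_mul, ← map_mul, (isBase_minusQ f k a₀ b₀).commute_coordT hf.fix]
  · have himg : transport J w hJ ((isBase_minusQ f k a₀ b₀).extHom L) =
        isoHom _ (refl (minusQ k a b) (J (extVec f z))) :=
      transport_extHom_refl (isBase_minusQ f k a₀ b₀) J w hJ hz
    have hne : minusQ k a b (J (extVec f z)) ≠ 0 := by
      rw [hJ, isBase_minusQ f k a₀ b₀]
      exact mul_ne_zero w.ne_zero fun e' => hz (f.injective (e'.trans (map_zero f).symm))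
    rw [himg]
    refine (mem_minusDir hab hk).mpr ⟨mul_mem hh (mem_simGroup.mpr rfl), ?_⟩
    rw [show (⟨h * isoHom _ (refl _ (J (extVec f z))), _⟩ : ↥(simGroup (minusQ k a b))) =
      ⟨h, hh⟩ * ⟨isoHom _ (refl _ (J (extVec f z))), mem_simGroup.mpr rfl⟩ from rfl, map_mul, e,
      (minusSign_spec hab hk).2.2.1 _ hne]
    rfl

omit [Finite K] in
theorem minus_coset (hk : 3 ≤ k) {x δ : MulAut (Cfsg.POmega F ⇑(minusQ k a b))}
    (hx : ∃ (a' b' : F) (ψ : Cfsg.POmega F ⇑(minusQ k a b) ≃* Cfsg.POmega F ⇑(minusQ k a' b'))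
      (σ : F ≃+* F), (∀ z₁ z₂ : F, z₁ ^ 2 + a' * z₁ * z₂ + b' * z₂ ^ 2 = 0 → z₁ = 0 ∧ z₂ = 0) ∧
        σ ≠ RingEquiv.refl F ∧ σ a' = a' ∧ σ b' = b' ∧
        Cfsg.IsFieldAutPOmegaOf ⇑(minusQ k a' b') σ ((ψ.symm.trans x).trans ψ))
    (hδ : δ ∈ classAut F ⇑(minusQ k a b) (Cfsg.PreservesSingularClassesMinus k a b)) :
    orderOf (δ * x) = orderOf x ↔
      Cfsg.IsConjUnder (classAut F ⇑(minusQ k a b) (Cfsg.PreservesSingularClassesMinus k a b))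
        x (δ * x) := by
  constructor
  · intro hord
    obtain ⟨hQ, hs⟩ := big_minusQ hab hk
    obtain ⟨σ, Y, a', b', hab', ha', hb', hσr, hYσ, hYr, hxY⟩ := minus_lift hab hk hx
    haveI : Finite (RingAut F) := Finite.of_injective (fun τ : RingAut F => (τ : F → F)) DFunLike.coe_injective
    haveI : Finite (CfsgLib.AutPSL.fixField σ) := Subtype.finite
    have hf : IsFixed (CfsgLib.AutPSL.fixField σ).subtype σ (orderOf x) :=
      ⟨hσr, hσr ▸ orderOf_pos σ, fun z => (CfsgLib.AutPSL.mem_fixField σ).mp z.2,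
        fun y hy => ⟨⟨y, (CfsgLib.AutPSL.mem_fixField σ).mpr hy⟩, rfl⟩⟩
    obtain ⟨a₀, b₀, -, -, hab₀⟩ := exists_aniso_coeffs hab hf ha' hb' hab'
    obtain ⟨J, w, hJ, hT⟩ := minus_model hab hf hab₀ Y hYσ hYr
    rw [minusDir_eq_map hab (by omega : 2 ≤ k)] at hδ ⊢
    rw [hxY, ← hT]
    refine isConjUnder_of_pow hQ hf (isBase_minusQ _ k a₀ b₀) J w hJ (minusDir_le hab _)
      (scalar_mem_minusDir hab _) (exists_flip hab hf _ hab₀ J w hJ)
      (fun Y' h1 h2 _ => minus_model hab hf hab₀ Y' h1 h2) hδ ?_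
    rw [hT, ← hxY]
    conv_lhs => rw [← hord]
    exact pow_orderOf_eq_one _
  · rintro ⟨h, -, e⟩
    rw [e, CfsgLib.AutPSL.orderOf_conj']

end CfsgLib.AutPOm
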