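import Cfsg.Agent.AutPOm.MinusField

/-!
The centraliser and class count of a field automorphism of the minus type groups.
-/

set_option autoImplicit false
set_option linter.style.haveILetI false

namespace CfsgLib.AutPOm

open QuadraticMap CfsgLib.Forms CfsgLib.Quad Matrix

/-- Two class characters with the same normalisation agree. -/
theorem signChar_eq {K : Type*} [Field K] [Finite K] {κ : Type} [Fintype κ] [DecidableEq κ]
    {Q0 : QuadraticForm K (κ → K)} (hQ : Big Q0) {n : ℕ} (χ χ' : ↥(simGroup Q0) →* ℤˣ)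
    (hs : ∀ u, χ ⟨scalarHom Q0 u, mem_simGroup.mpr rfl⟩ = 1)
    (hs' : ∀ u, χ' ⟨scalarHom Q0 u, mem_simGroup.mpr rfl⟩ = 1)
    (hr : ∀ v, Q0 v ≠ 0 → χ ⟨isoHom Q0 (refl Q0 v), mem_simGroup.mpr rfl⟩ = -1)
    (hr' : ∀ v, Q0 v ≠ 0 → χ' ⟨isoHom Q0 (refl Q0 v), mem_simGroup.mpr rfl⟩ = -1)
    (hd : ∀ L : ↥(simGroup Q0), (L.1.mat : Matrix κ κ K).det = ((χ L : ℤ) : K) * (L.1.c : K) ^ n)
    (hd' : ∀ L : ↥(simGroup Q0), (L.1.mat : Matrix κ κ K).det = ((χ' L : ℤ) : K) * (L.1.c : K) ^ n) :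
    χ = χ' := by
  refine MonoidHom.ext fun L => ?_
  by_cases h2 : (2 : K) = 0
  · haveI : CharP K 2 := CharTwo.of_one_ne_zero_of_two_eq_zero one_ne_zero h2
    obtain ⟨t, ht⟩ := isSquare_char_two (L.1.c : K)
    obtain ⟨u, g, hg⟩ := exists_scalar_iso (mem_simGroup.mp L.2) ht
    rw [show L = ⟨scalarHom Q0 u, mem_simGroup.mpr rfl⟩ *
        (isoHom Q0).codRestrict (simGroup Q0) (fun _ => mem_simGroup.mpr rfl) g from Subtype.ext hg,
      map_mul, map_mul, hs, hs', one_mul, one_mul]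
    have hgr : g ∈ reflGroup Q0 := by
      rw [reflGroup_eq_top hQ.nd (Or.inr (by have := hQ.dim; omega))]
      trivial
    refine (?_ : reflGroup Q0 ≤ MonoidHom.eqLocus (χ.comp ((isoHom Q0).codRestrict
      (simGroup Q0) fun _ => mem_simGroup.mpr rfl)) (χ'.comp ((isoHom Q0).codRestrict
      (simGroup Q0) fun _ => mem_simGroup.mpr rfl))) hgr
    refine (Subgroup.closure_le _).mpr ?_
    rintro _ ⟨v, rfl⟩
    by_cases hv : Q0 v = 0
    · rw [refl_eq_one hv, SetLike.mem_coe]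
      exact one_mem _
    · change χ ⟨_, _⟩ = χ' ⟨_, _⟩
      rw [hr v hv, hr' v hv]
  · have h1 := hd L
    rw [hd' L] at h1
    have h3 := mul_right_cancel₀ (pow_ne_zero _ L.1.c.ne_zero) h1
    rcases Int.units_eq_one_or (χ L) with e | e <;>
      rcases Int.units_eq_one_or (χ' L) with e' | e' <;> rw [e, e'] at h3 ⊢
    · exfalso; apply h2; simp at h3; linear_combination -h3
    · exfalso; apply h2; simp at h3; linear_combination h3

universe u v

variable {F : Type u} [Field F] [Finite F] {k : ℕ} {a b : F}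
  (hab : ∀ z₁ z₂ : F, z₁ ^ 2 + a * z₁ * z₂ + b * z₂ ^ 2 = 0 → z₁ = 0 ∧ z₂ = 0)
include hab

theorem minus_field {p e : ℕ} [Fact p.Prime] (hF : Nat.card F = p ^ e) (hk : 3 ≤ k)
    {x : MulAut (Cfsg.POmega F ⇑(minusQ k a b))}
    (hx : ∃ (a' b' : F) (ψ : Cfsg.POmega F ⇑(minusQ k a b) ≃* Cfsg.POmega F ⇑(minusQ k a' b'))
      (σ : F ≃+* F), (∀ z₁ z₂ : F, z₁ ^ 2 + a' * z₁ * z₂ + b' * z₂ ^ 2 = 0 → z₁ = 0 ∧ z₂ = 0) ∧
        σ ≠ RingEquiv.refl F ∧ σ a' = a' ∧ σ b' = b' ∧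
        Cfsg.IsFieldAutPOmegaOf ⇑(minusQ k a' b') σ ((ψ.symm.trans x).trans ψ))
    {r : ℕ} (hr : r.Prime) (hxr : orderOf x = r) (F₀ : Type v) [Field F₀] [Finite F₀]
    (hF₀ : Nat.card F₀ = p ^ (e / r)) :
    Odd r ∧ r ∣ e ∧
    (∃ a₀ b₀ : F₀, (∀ z₁ z₂ : F₀, z₁ ^ 2 + a₀ * z₁ * z₂ + b₀ * z₂ ^ 2 = 0 → z₁ = 0 ∧ z₂ = 0) ∧
      Nonempty (↥(classAut F ⇑(minusQ k a b) (Cfsg.PreservesSingularClassesMinus k a b) ⊓
          Subgroup.centralizer {x}) ≃*
        ↥(classAut F₀ ⇑(minusQ (F := F₀) k a₀ b₀) (Cfsg.PreservesSingularClassesMinus k a₀ b₀)))) ∧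
    Cfsg.splitClassCount (classAut F ⇑(minusQ k a b) (Cfsg.PreservesSingularClassesMinus k a b))
      (Cfsg.Inn (Cfsg.POmega F ⇑(minusQ k a b))) x = 1 := by
  have hk2 : 2 ≤ k := by omega
  obtain ⟨hQ, hs⟩ := big_minusQ hab hk
  obtain ⟨σ, Y, a', b', hab', ha', hb', hσr, hYσ, hYr, rfl⟩ := minus_lift hab hk hx
  rw [hxr] at hσr hYr
  obtain ⟨hre, f, hf⟩ := exists_isFixed hF σ hσr hr.ne_zero F₀ hF₀
  obtain ⟨a₀, b₀, rfl, rfl, hab₀⟩ := exists_aniso_coeffs hab hf ha' hb' hab'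
  have hrodd : Odd r := odd_of_aniso hab hf hab' hab₀
  obtain ⟨hQ0, -⟩ := big_minusQ hab₀ hk
  obtain ⟨J, w, hJ, hT⟩ := minus_model hab hf hab₀ Y hYσ hYr
  set hb := isBase_minusQ f k a₀ b₀
  have hC := centralizer_eq (A := minusDir hab hk2) hQ hf hb J w hJ (minusDir_le hab _)
    (scalar_mem_minusDir hab _)
  rw [hT] at hC
  have hmemS : ∀ L, transport J w hJ (hb.extHom L) ∈ simGroup (minusQ k a b) := fun L =>
    (mem_simGroup_transport J w hJ _).mpr (hb.extHom_spec L).1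
  set χ' := (minusSign hab hk2).comp
    (((transport J w hJ).toMonoidHom.comp hb.extHom).codRestrict _ hmemS) with hχ'
  have hχ : minusSign hab₀ hk2 = χ' := by
    refine signChar_eq hQ0 (n := k + 1) _ _ (minusSign_spec hab₀ hk2).2.1 (fun u => ?_)
      (minusSign_spec hab₀ hk2).2.2.1 (fun z hz => ?_) (minusSign_spec hab₀ hk2).2.2.2.1 (fun L => ?_)
    · rw [hχ', MonoidHom.comp_apply]
      refine (congrArg (minusSign hab hk2) (Subtype.ext ?_)).trans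
        ((minusSign_spec hab hk2).2.1 (Units.map f.toMonoidHom u))
      change transport J w hJ (hb.extHom _) = scalarHom _ _
      rw [hb.extHom_scalar, scalarHom_transport]
    · rw [hχ', MonoidHom.comp_apply]
      refine (congrArg (minusSign hab hk2) (Subtype.ext ?_)).trans
        ((minusSign_spec hab hk2).2.2.1 (J (extVec f z)) ?_)
      · change transport J w hJ (hb.extHom _) = isoHom _ _
        exact transport_extHom_refl hb J w hJ hz
      · rw [hJ, hb]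
        exact mul_ne_zero w.ne_zero fun e' => hz (f.injective (e'.trans (map_zero f).symm))
    · obtain ⟨h1, -, h3⟩ := hb.extHom_spec L
      have hcL : ((transport J w hJ (hb.extHom L)).c : F) = f L.1.c := by
        rw [transport_c, mem_simGroup.mp h1,
          show Units.map (RingEquiv.refl F).toMonoidHom w = w from Units.ext rfl,
          mul_inv_cancel_right, h3]
      apply f.injective
      rw [← hb.extHom_det, ← det_transport J w hJ (mem_simGroup.mp h1), map_mul, map_pow, map_intCast,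
        ← hcL]
      exact (minusSign_spec hab hk2).2.2.2.1 ⟨_, hmemS L⟩
  have hBA : ∀ L : ↥(simGroup (minusQ k a₀ b₀)),
      L.1 ∈ minusDir hab₀ hk2 ↔ transport J w hJ (hb.extHom L) ∈ minusDir hab hk2 := by
    intro L
    rw [mem_minusDir, mem_minusDir]
    have h1 : minusSign hab₀ hk2 L = minusSign hab hk2 ⟨_, hmemS L⟩ := by rw [hχ]; rfl
    constructor
    · intro hh
      obtain ⟨_, hh⟩ := hh
      exact ⟨hmemS L, h1 ▸ hh⟩
    · intro hh
      obtain ⟨_, hh⟩ := hh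
      exact ⟨L.2, h1.trans hh⟩
  refine ⟨hrodd, hre, ⟨a₀, b₀, hab₀, ?_⟩, ?_⟩
  · rw [minusDir_eq_map hab hk2, minusDir_eq_map hab₀ hk2]
    obtain ⟨e'⟩ := nonempty_range_baseMap_equiv hb J w hJ hQ hQ0 (A := minusDir hab hk2)
      (minusDir_le hab₀ hk2) hBA
    exact ⟨(MulEquiv.subgroupCongr hC).trans e'⟩
  rw [minusDir_eq_map hab hk2, splitClassCount_baseMap (A := minusDir hab hk2) hb J w hJ hC
    (iso_mem_minusDir hab hk2), Subgroup.relIndex_eq_one]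
  by_cases h2 : (2 : F) = 0
  · haveI : CharP F 2 := CharTwo.of_one_ne_zero_of_two_eq_zero one_ne_zero h2
    rw [map_outHom_eq_bot_of_two (minusDir_le hab hk2) (scalar_mem_minusDir hab hk2) hQ fun g hg => ?_]
    · exact bot_le
    set ε := (minusSign hab hk2).comp
      ((isoHom (minusQ k a b)).codRestrict _ fun _ => mem_simGroup.mpr rfl)
    rw [Om, commutator_char_two hQ.nd (Or.inr (by have := hQ.dim; omega)) (ε := ε)
      fun v hv => (minusSign_spec hab hk2).2.2.1 v hv]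
    obtain ⟨_, hh⟩ := (mem_minusDir hab hk2).mp hg
    exact hh
  refine map_outHom_le_of_odd hb J w hJ (minusDir_le hab hk2) (scalar_mem_minusDir hab hk2) hQ hf hrodd
    h2 hQ0 (fun g hg => ?_) (fun u v hu hv => ?_) ?_
  · obtain ⟨_, h⟩ := (mem_minusDir hab hk2).mp hg
    refine Units.ext ?_
    have hd := (minusSign_spec hab hk2).2.2.2.1 ⟨isoHom _ g, mem_simGroup.mpr rfl⟩
    rw [det_mat_isoHom, h] at hd
    rw [hd]
    change ((1 : ℤ) : F) * (1 : F) ^ (k + 1) = 1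
    simp
  · refine (mem_minusDir hab hk2).mpr ⟨mem_simGroup.mpr rfl, ?_⟩
    rw [show (⟨isoHom _ (refl (minusQ k a b) u * refl (minusQ k a b) v), _⟩ : ↥(simGroup (minusQ k a b))) =
      ⟨isoHom _ (refl _ u), mem_simGroup.mpr rfl⟩ * ⟨isoHom _ (refl _ v), mem_simGroup.mpr rfl⟩ from
        Subtype.ext (map_mul _ _ _), map_mul, (minusSign_spec hab hk2).2.2.1 u hu,
      (minusSign_spec hab hk2).2.2.1 v hv]
    rfl
  · haveI := Fintype.ofFinite F₀
    have h20 : (2 : F₀) ≠ 0 := fun h => h2 (by rw [← map_ofNat f 2, h, map_zero])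
    obtain ⟨ν, hν⟩ := FiniteField.exists_nonsquare (F := F₀) (fun h => h20 (by
      have := ringChar.Nat.cast_ringChar (R := F₀)
      rw [h] at this
      exact_mod_cast this))
    have hν0 : ν ≠ 0 := fun h => hν (h ▸ ⟨0, by ring⟩)
    obtain ⟨S, hSσ, hSc⟩ := minus_exists_mult hab₀ k (Units.mk0 ν hν0)
    obtain ⟨L, hLc, hLχ⟩ : ∃ L : ↥(simGroup (minusQ k a₀ b₀)),
        L.1.c = Units.mk0 ν hν0 ∧ minusSign hab₀ hk2 L = 1 := by
      rcases Int.units_eq_one_or (minusSign hab₀ hk2 ⟨S, mem_simGroup.mpr hSσ⟩) with e' | e'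
      · exact ⟨_, hSc, e'⟩
      obtain ⟨z, hz⟩ := exists_aniso hQ0.nd (by have := hQ0.dim; omega)
      refine ⟨⟨S, mem_simGroup.mpr hSσ⟩ * ⟨isoHom _ (refl _ z), mem_simGroup.mpr rfl⟩, ?_, ?_⟩
      · refine Units.ext ?_
        change (S.c : F₀) * S.σ 1 = ν
        rw [map_one, mul_one, hSc]
        rfl
      · rw [map_mul, e', (minusSign_spec hab₀ hk2).2.2.1 z hz]
        rfl
    refine ⟨⟨L, (hBA L).mp ((mem_minusDir hab₀ hk2).mpr ⟨L.2, hLχ⟩)⟩, ?_⟩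
    rw [hLc]
    exact hν

omit [Finite F] hab in
/-- The concrete form function of minus type is the bundled one. -/
theorem quadFormMinus_fun {K : Type*} [Field K] (k : ℕ) :
    @Cfsg.quadFormMinus k K _ = fun a b => ⇑(minusQ k a b) :=
  funext fun a => funext fun b => (minusQ_coe k a b).symm

theorem minus_field_of {p e : ℕ} [Fact p.Prime] (hF : Nat.card F = p ^ e) (hk : 3 ≤ k)
    (F₀ : Type v) [Field F₀] [Finite F₀] {r : ℕ} (hr : r.Prime) (hF₀ : Nat.card F₀ = p ^ (e / r))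
    (q : F → F → (((Fin k ⊕ Fin k) ⊕ Fin 2 → F) → F)) (hq : q = fun a b => ⇑(minusQ k a b))
    (q₀ : F₀ → F₀ → (((Fin k ⊕ Fin k) ⊕ Fin 2 → F₀) → F₀)) (hq₀ : q₀ = fun a b => ⇑(minusQ k a b))
    {x : MulAut (Cfsg.POmega F (q a b))}
    (hx : ∃ (a' b' : F) (ψ : Cfsg.POmega F (q a b) ≃* Cfsg.POmega F (q a' b'))
      (σ : F ≃+* F), (∀ z₁ z₂ : F, z₁ ^ 2 + a' * z₁ * z₂ + b' * z₂ ^ 2 = 0 → z₁ = 0 ∧ z₂ = 0) ∧
        σ ≠ RingEquiv.refl F ∧ σ a' = a' ∧ σ b' = b' ∧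
        Cfsg.IsFieldAutPOmegaOf (q a' b') σ ((ψ.symm.trans x).trans ψ))
    (hxr : orderOf x = r) :
    Odd r ∧ r ∣ e ∧
    (∃ a₀ b₀ : F₀, (∀ z₁ z₂ : F₀, z₁ ^ 2 + a₀ * z₁ * z₂ + b₀ * z₂ ^ 2 = 0 → z₁ = 0 ∧ z₂ = 0) ∧
      Nonempty (↥(classAut F (q a b) (Cfsg.PreservesSingularClassesMinus k a b) ⊓
          Subgroup.centralizer {x}) ≃*
        ↥(classAut F₀ (q₀ a₀ b₀) (Cfsg.PreservesSingularClassesMinus k a₀ b₀)))) ∧
    Cfsg.splitClassCount (classAut F (q a b) (Cfsg.PreservesSingularClassesMinus k a b))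
      (Cfsg.Inn (Cfsg.POmega F (q a b))) x = 1 := by
  subst hq hq₀
  exact minus_field hab hF hk hx hr hxr F₀ hF₀

theorem minus_coset_of (hk : 3 ≤ k) (q : F → F → (((Fin k ⊕ Fin k) ⊕ Fin 2 → F) → F))
    (hq : q = fun a b => ⇑(minusQ k a b)) {x δ : MulAut (Cfsg.POmega F (q a b))}
    (hx : ∃ (a' b' : F) (ψ : Cfsg.POmega F (q a b) ≃* Cfsg.POmega F (q a' b'))
      (σ : F ≃+* F), (∀ z₁ z₂ : F, z₁ ^ 2 + a' * z₁ * z₂ + b' * z₂ ^ 2 = 0 → z₁ = 0 ∧ z₂ = 0) ∧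
        σ ≠ RingEquiv.refl F ∧ σ a' = a' ∧ σ b' = b' ∧
        Cfsg.IsFieldAutPOmegaOf (q a' b') σ ((ψ.symm.trans x).trans ψ))
    (hδ : δ ∈ classAut F (q a b) (Cfsg.PreservesSingularClassesMinus k a b)) :
    orderOf (δ * x) = orderOf x ↔
      Cfsg.IsConjUnder (classAut F (q a b) (Cfsg.PreservesSingularClassesMinus k a b)) x (δ * x) := by
  subst hq
  exact minus_coset hab hk hx hδ

end CfsgLib.AutPOm
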