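import Cfsg.Agent.AutPOm.MinusInvol

/-!
The classes of involutory graph automorphisms of the minus type groups.
-/

set_option autoImplicit false
set_option linter.style.haveILetI false
set_option synthInstance.maxHeartbeats 400000

namespace CfsgLib.AutPOm

open QuadraticMap CfsgLib.Forms CfsgLib.Quad Matrix

universe u

variable {F : Type u} [Field F] [Finite F]

/-- The class count as an index in the outer automorphism group. -/
theorem splitClassCount_map {ι : Type} [Fintype ι] [DecidableEq ι] {Q : QuadraticForm F (ι → F)}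
    {A : Subgroup (Semi Q)} (hΩ : ∀ g : ↥(Om Q), isoHom Q g.1 ∈ A)
    (x : MulAut (Cfsg.POmega F ⇑Q)) :
    Cfsg.splitClassCount (A.map (pomHom Q)) (Cfsg.Inn (Cfsg.POmega F ⇑Q)) x =
      ((A.map (pomHom Q) ⊓ Subgroup.centralizer {x}).map
        (QuotientGroup.mk' (Cfsg.Inn (Cfsg.POmega F ⇑Q)))).relIndex (A.map (outHom Q)) := by
  have hInn : Cfsg.Inn (Cfsg.POmega F ⇑Q) ≤ A.map (pomHom Q) := by
    rintro _ ⟨y, rfl⟩
    obtain ⟨g, hg⟩ := QuotientGroup.mk'_surjective _ (pOmegaEquiv Q y)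
    refine ⟨isoHom Q g.1, hΩ g, ?_⟩
    rw [pomHom_iso_conj, hg, MulEquiv.symm_apply_apply]
  rw [CfsgLib.AutPSL.splitClassCount_eq _ _ hInn]
  have h1 : ((A.map (pomHom Q) ⊓ Subgroup.centralizer {x}).map
      (QuotientGroup.mk' (Cfsg.Inn (Cfsg.POmega F ⇑Q)))).comap
      (QuotientGroup.mk' (Cfsg.Inn (Cfsg.POmega F ⇑Q))) =
      Cfsg.Inn (Cfsg.POmega F ⇑Q) ⊔ (A.map (pomHom Q) ⊓ Subgroup.centralizer {x}) := by
    rw [Subgroup.comap_map_eq, QuotientGroup.ker_mk', sup_comm]
  rw [← h1, Subgroup.relIndex_comap, Subgroup.map_map]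
  rfl

variable {k : ℕ} {a b : F}
  (hab : ∀ z₁ z₂ : F, z₁ ^ 2 + a * z₁ * z₂ + b * z₂ ^ 2 = 0 → z₁ = 0 ∧ z₂ = 0)
  (hk : 3 ≤ k) (h2 : (2 : F) ≠ 0)
include hab hk h2

theorem minus_graph {γ : MulAut (Cfsg.POmega F ⇑(minusQ k a b))}
    (hγ : γ ∉ classAut F ⇑(minusQ k a b) (Cfsg.PreservesSingularClassesMinus k a b))
    (hγ2 : orderOf γ = 2) :
    let n := Cfsg.splitClassCount
      (classAut F ⇑(minusQ k a b) (Cfsg.PreservesSingularClassesMinus k a b))
      (Cfsg.Inn (Cfsg.POmega F ⇑(minusQ k a b))) γ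
    (n = 1 ∨ n = 2) ∧ (¬ (Even k ∧ Nat.card F % 4 = 1) → n = 2) := by
  have hk2 : 2 ≤ k := by omega
  intro n
  obtain ⟨hQ, hs⟩ := big_minusQ hab hk
  obtain ⟨S, rfl⟩ := pomHom_surjective hQ hs γ
  have hsq1 : pomHom _ (S * S) = 1 := by
    have h := pow_orderOf_eq_one (pomHom _ S)
    rw [hγ2, pow_two] at h
    rw [map_mul]; exact h
  obtain ⟨u, hu⟩ := (mem_ker_pgHom hQ).mp (pomHom_eq_one_iff.mp hsq1)
  have hσ := invol_σ_eq_refl hab hk h2 hu
  have hS := mem_simGroup.mpr hσ
  rw [minusDir_eq_map hab hk2] at hγ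
  have hχ : minusSign hab hk2 ⟨S, hS⟩ = -1 := (Int.units_eq_one_or _).resolve_left fun e =>
    hγ ⟨S, (mem_minusDir hab hk2).mpr ⟨hS, e⟩, rfl⟩
  have hn : n = Cfsg.splitClassCount
      (classAut F ⇑(minusQ k a b) (Cfsg.PreservesSingularClassesMinus k a b))
      (Cfsg.Inn (Cfsg.POmega F ⇑(minusQ k a b))) (pomHom _ S) := rfl
  rw [minusDir_eq_map hab hk2, splitClassCount_map (iso_mem_minusDir hab hk2)] at hn
  set D := (minusDir hab hk2).map (outHom (minusQ k a b)) with hD
  set C := ((minusDir hab hk2).map (pomHom (minusQ k a b)) ⊓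
    Subgroup.centralizer {pomHom _ S}).map
      (QuotientGroup.mk' (Cfsg.Inn (Cfsg.POmega F ⇑(minusQ k a b)))) with hC
  have hmem : ∀ c ∈ C, ∃ L ∈ minusDir hab hk2, c = outHom _ L ∧
      pomHom _ L * pomHom _ S = pomHom _ S * pomHom _ L := by
    rintro _ ⟨_, ⟨⟨L, hL, rfl⟩, hc⟩, rfl⟩
    exact ⟨L, hL, rfl, Subgroup.mem_centralizer_singleton_iff.mp hc⟩
  have hle : C ≤ D := by
    intro c hc
    obtain ⟨L, hL, rfl, -⟩ := hmem c hc
    exact ⟨L, hL, rfl⟩
  have hmul : n * Nat.card C = Nat.card D := by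
    rw [hn, ← Nat.card_congr (Subgroup.subgroupOfEquivOfLe hle).toEquiv, mul_comm]
    exact Subgroup.card_mul_index _
  have hcard := card_map_minusDir hab hk h2
  by_cases hsp : MinusSpecial F k
  · rw [(card_map_outHom_simGroup hab hk h2).1 hsp] at hcard
    have hD4 : Nat.card D = 4 := by rw [hD]; omega
    haveI : Finite D := Nat.finite_of_card_ne_zero (by omega)
    obtain ⟨x, y, hx, hy, hxy, hcomm⟩ := exists_pair_commute hab hk h2 hu hσ hχ
    have hz := (negIso_mem_iff_special hab hk h2).mpr hsp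
    have hzC : outHom _ (isoHom _ (refl (minusQ k a b) x * refl _ y)) ∈ C := by
      refine ⟨pomHom _ (isoHom _ (refl (minusQ k a b) x * refl _ y)), ⟨⟨_, ?_, rfl⟩, ?_⟩, rfl⟩
      · refine (mem_minusDir hab hk2).mpr ⟨mem_simGroup.mpr rfl, ?_⟩
        rw [show (⟨isoHom _ (refl (minusQ k a b) x * refl _ y), _⟩ : ↥(simGroup (minusQ k a b))) =
          ⟨isoHom _ (refl _ x), mem_simGroup.mpr rfl⟩ * ⟨isoHom _ (refl _ y), mem_simGroup.mpr rfl⟩ from
            Subtype.ext (map_mul _ _ _), map_mul, (minusSign_spec hab hk2).2.2.1 x hx,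
          (minusSign_spec hab hk2).2.2.1 y hy]
        decide
      · refine Subgroup.mem_centralizer_singleton_iff.mpr ?_
        rw [← map_mul, ← map_mul, hcomm]
    have hC1 : Nat.card C ≠ 1 := fun h => outHom_pair_ne_one hQ h2 hz hx hy hxy
      (Subgroup.mem_bot.mp (Subgroup.card_eq_one.mp h ▸ hzC))
    have hC4 : Nat.card C ≠ 4 := by
      intro h
      have heq : C = D := Subgroup.eq_of_le_of_card_ge hle (hD4.trans h.symm).le
      obtain ⟨r, hr, -, l, hl, hrl⟩ := map_outHom_comm_ne hab hk h2 hsp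
      have hcen : ∀ d ∈ D, d * outHom _ S = outHom _ S * d := by
        intro d hd
        obtain ⟨L, -, rfl, hcm⟩ := hmem d (heq.symm ▸ hd)
        exact congrArg (QuotientGroup.mk' (Cfsg.Inn (Cfsg.POmega F ⇑(minusQ k a b)))) hcm
      have hsplit : ∀ t ∈ (simGroup (minusQ k a b)).map (outHom _),
          ∃ d ∈ D, t = d ∨ t = outHom _ S * d := by
        rintro _ ⟨T, hT, rfl⟩
        rcases Int.units_eq_one_or (minusSign hab hk2 ⟨T, hT⟩) with e | e
        · exact ⟨_, (mem_map_minusDir_iff hab hk hT).mpr e, Or.inl rfl⟩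
        · refine ⟨outHom _ (S⁻¹ * T), (mem_map_minusDir_iff hab hk (mul_mem (inv_mem hS) hT)).mpr ?_,
            Or.inr (by rw [← map_mul, mul_inv_cancel_left])⟩
          rw [show (⟨S⁻¹ * T, _⟩ : ↥(simGroup (minusQ k a b))) = ⟨S, hS⟩⁻¹ * ⟨T, hT⟩ from rfl,
            map_mul, map_inv, hχ, e]
          decide
      obtain ⟨d₀, hd₀, hdd⟩ := exists_order_four hab hk h2 hsp
      haveI : IsCyclic D := by
        refine isCyclic_of_orderOf_eq_card (⟨d₀, hd₀⟩ : D) ?_
        have h1 := orderOf_dvd_natCard (⟨d₀, hd₀⟩ : D)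
        rw [hD4] at h1 ⊢
        obtain ⟨i, hi, e⟩ := (Nat.dvd_prime_pow Nat.prime_two (m := 2)).mp h1
        rw [e]
        have h3 : ¬ orderOf (⟨d₀, hd₀⟩ : D) ∣ 2 := fun hh => hdd (by
          have h6 := congrArg Subtype.val (orderOf_dvd_iff_pow_eq_one.mp hh)
          rwa [Subgroup.coe_pow, Subgroup.coe_one, pow_two] at h6)
        rw [e] at h3
        rcases i with _ | _ | _ | i
        · exact absurd (one_dvd 2) h3
        · exact absurd (dvd_refl 2) h3
        · rfl
        · omega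
      have hDc : ∀ d ∈ D, ∀ d' ∈ D, d * d' = d' * d := fun d hd d' hd' => by
        letI := IsCyclic.commGroup (α := D)
        exact congrArg Subtype.val (mul_comm (⟨d, hd⟩ : D) ⟨d', hd'⟩)
      obtain ⟨d, hd, ed⟩ := hsplit r hr
      obtain ⟨d', hd', ed'⟩ := hsplit l hl
      have hs' : ∀ d ∈ D, Commute (outHom _ S) d := fun d hd => (hcen d hd).symm
      have hdd' : Commute d d' := hDc d hd d' hd'
      refine hrl ?_
      rcases ed with rfl | rfl <;> rcases ed' with rfl | rfl
      · exact hdd'.eq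
      · exact ((hs' _ hd).symm.mul_right hdd').eq
      · exact ((hs' _ hd').mul_left hdd').eq
      · exact (((Commute.refl _).mul_right (hs' _ hd')).mul_left
          ((hs' _ hd).symm.mul_right hdd')).eq
    have hdvd : Nat.card C ∣ 4 := ⟨n, by rw [mul_comm, hmul, hD4]⟩
    obtain ⟨i, hi, e⟩ := (Nat.dvd_prime_pow Nat.prime_two (m := 2)).mp hdvd
    rcases i with _ | _ | _ | i
    · exact absurd e hC1
    · rw [e, hD4] at hmul
      exact ⟨Or.inr (by omega), fun _ => by omega⟩
    · exact absurd e hC4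
    · omega
  · rw [(card_map_outHom_simGroup hab hk h2).2 hsp] at hcard
    have hD2 : Nat.card D = 2 := by rw [hD]; omega
    rw [hD2] at hmul
    refine ⟨(Nat.dvd_prime Nat.prime_two).mp ⟨_, hmul.symm⟩, fun h => ?_⟩
    have hkodd : Odd k := by
      rcases Nat.even_or_odd k with hk' | hk'
      · exfalso
        have h4 : Nat.card F % 4 = 1 ∨ Nat.card F % 4 = 3 := by
          have := Nat.odd_iff.mp (odd_card h2)
          omega
        exact h4.elim (fun e => h ⟨hk', e⟩) fun e => hsp ⟨hk', e⟩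
      · exact hk'
    have hC : C = ⊥ := by
      refine (Subgroup.eq_bot_iff_forall _).mpr fun c hc => ?_
      obtain ⟨L, hL, rfl, hcm⟩ := hmem c hc
      obtain ⟨hLs, hLχ⟩ := (mem_minusDir hab hk2).mp hL
      have hLσ := mem_simGroup.mp hLs
      refine outHom_eq_one_of_sign hQ h2 (card_minus_index k)
        (fun hh => hsp ((negIso_mem_iff_special hab hk h2).mp hh)) hLσ ?_ ?_
      · obtain ⟨hc', heven⟩ := invol_c_eq hab hk h2 hu hσ hχ
        obtain ⟨w, hw⟩ : IsSquare (u : F) := by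
          by_contra hh
          exact Nat.not_even_iff_odd.mpr hkodd (heven hh)
        obtain ⟨s, g, hSg⟩ := exists_scalar_iso (S := S) hσ (s := w) (by rw [hc', hw])
        rw [← map_mul, ← map_mul] at hcm
        obtain ⟨v, hv⟩ := (pomHom_eq_iff hQ).mp hcm
        have hvv : (v : F) * v = 1 := by
          have h3 := congrArg (fun R : Semi (minusQ k a b) => (R.c : F)) hv
          rw [Semi.mul_c, Semi.mul_c, Semi.mul_c, hLσ, hσ] at h3
          change (L.c : F) * (S.c : F) = (v : F) * v * ((S.c : F) * (L.c : F)) at h3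
          exact mul_right_cancel₀ (mul_ne_zero S.c.ne_zero L.c.ne_zero)
            (by linear_combination -h3)
        have hs2 : (s : F) * s = (u : F) := by
          rw [← hc', hSg, Semi.mul_c]
          change _ = (s : F) * s * 1
          rw [mul_one]
        have hgg : g * g = 1 := by
          refine Subtype.ext (LinearEquiv.ext fun x => ?_)
          have h3 := congrArg (fun R : Semi (minusQ k a b) => R.T x) hu
          rw [hSg] at h3
          change (s : F) • g.1 ((s : F) • g.1 x) = (u : F) • x at h3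
          rw [map_smul, smul_smul, hs2] at h3
          exact smul_right_injective _ u.ne_zero h3
        have hd : detO (minusQ k a b) g ≠ 1 := by
          intro hg1
          have h1 := (minusSign_isoHom_eq_one hab hk h2).mpr hg1
          rw [show (⟨S, hS⟩ : ↥(simGroup (minusQ k a b))) =
            ⟨scalarHom _ s, mem_simGroup.mpr rfl⟩ * ⟨isoHom _ g, mem_simGroup.mpr rfl⟩ from
              Subtype.ext hSg, map_mul, (minusSign_spec hab hk2).2.1, one_mul, h1] at hχ
          exact absurd hχ (by decide)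
        refine isSquare_of_commute hab hk h2 hgg hd hkodd hLσ hvv fun x => ?_
        have h3 := congrArg (fun R : Semi (minusQ k a b) => R.T x) hv
        rw [hSg] at h3
        change L.T ((s : F) • g.1 x) = (v : F) • (s : F) • g.1 (L.T x) at h3
        rw [L.smul, hLσ, RingEquiv.refl_apply, smul_comm (v : F)] at h3
        exact smul_right_injective _ s.ne_zero h3
      · rw [(minusSign_spec hab hk2).2.2.2.1 ⟨L, hLs⟩, hLχ]
        simp
    rw [hC, Subgroup.card_bot, mul_one] at hmul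
    exact hmul

theorem minus_graph_of (q : (((Fin k ⊕ Fin k) ⊕ Fin 2 → F) → F)) (hq : q = ⇑(minusQ k a b))
    {γ : MulAut (Cfsg.POmega F q)}
    (hγ : γ ∉ classAut F q (Cfsg.PreservesSingularClassesMinus k a b)) (hγ2 : orderOf γ = 2) :
    let n := Cfsg.splitClassCount (classAut F q (Cfsg.PreservesSingularClassesMinus k a b))
      (Cfsg.Inn (Cfsg.POmega F q)) γ
    (n = 1 ∨ n = 2) ∧ (¬ (Even k ∧ Nat.card F % 4 = 1) → n = 2) := by
  subst hq
  exact minus_graph hab hk h2 hγ hγ2

end CfsgLib.AutPOm
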