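import Cfsg.Agent.AutPOm.MinusOutMain

/-!
Involutory graph automorphisms of the minus type groups: the similarities behind them.
-/

set_option autoImplicit false
set_option linter.style.haveILetI false
set_option synthInstance.maxHeartbeats 400000

namespace CfsgLib.AutPOm

open QuadraticMap CfsgLib.Forms CfsgLib.Quad Matrix

universe u

variable {F : Type u} [Field F] [Finite F] {k : ℕ} {a b : F}
  (hab : ∀ z₁ z₂ : F, z₁ ^ 2 + a * z₁ * z₂ + b * z₂ ^ 2 = 0 → z₁ = 0 ∧ z₂ = 0)
  (hk : 3 ≤ k) (h2 : (2 : F) ≠ 0)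
include hab hk h2

/-- An involution of the automorphism group comes from a similarity. -/
theorem invol_σ_eq_refl {S : Semi (minusQ k a b)} {u : Fˣ} (hu : S * S = scalarHom _ u) :
    S.σ = RingEquiv.refl F := by
  haveI := Fintype.ofFinite F
  obtain ⟨p, hpc⟩ := CharP.exists F
  haveI := hpc
  obtain ⟨⟨f, hf⟩, hpp, hF⟩ := FiniteField.card F p
  change Fintype.card F = p ^ f at hF
  haveI := Fact.mk hpp
  have hcard : Nat.card F = p ^ f := Nat.card_eq_fintype_card.trans hF
  have hp2 : p ≠ 2 := by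
    rintro rfl
    have h := odd_card h2
    rw [hcard, Nat.odd_pow_iff (by omega)] at h
    exact absurd h (by decide)
  have hodd : Odd p := hpp.odd_of_ne_two hp2
  by_contra hne
  obtain ⟨hQ, hs⟩ := big_minusQ hab hk
  have hσ2 : S.σ * S.σ = 1 := congrArg Semi.σ hu
  obtain ⟨e⟩ := CfsgLib.AutPSL.nonempty_ringAut_equiv (F := F) hf hF
  haveI : Finite (RingAut F) :=
    Finite.of_injective (fun τ : RingAut F => (τ : F → F)) DFunLike.coe_injective
  haveI : NeZero f := ⟨by omega⟩
  have hautcard : Nat.card (RingAut F) = f := card_ringAut hf hcard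
  obtain ⟨T, hord, hTf, -⟩ := exists_frob_semi hab hf hcard k
  obtain ⟨j, hj⟩ : ∃ j : ℕ, T.σ ^ j = S.σ := by
    have htop : Subgroup.zpowers T.σ = ⊤ := Subgroup.eq_top_of_card_eq _ (by
      rw [Nat.card_zpowers, hord, hautcard])
    exact mem_powers_iff_mem_zpowers.mpr (htop.symm ▸ Subgroup.mem_top S.σ)
  have hdvd : f ∣ j + j := by
    rw [← hord, orderOf_dvd_iff_pow_eq_one, pow_add, hj, hσ2]
  have hndvd : ¬ f ∣ j := by
    rw [← hord, orderOf_dvd_iff_pow_eq_one, hj]
    exact hne
  obtain ⟨i, hi⟩ := hdvd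
  have hiodd : Odd i := by
    by_contra h
    obtain ⟨l, rfl⟩ := Nat.not_odd_iff_even.mp h
    exact hndvd ⟨l, by rw [mul_add] at hi; omega⟩
  have hfeven : Even f := by
    rcases Nat.even_or_odd f with h | h
    · exact h
    · exact absurd (hi ▸ (⟨j, rfl⟩ : Even (j + j))) (Nat.not_even_iff_odd.mpr (h.mul hiodd))
  have hnsp : ¬ MinusSpecial F k := by
    rintro ⟨-, h⟩
    rw [hcard, pow_mod_four hodd, if_neg (Nat.not_odd_iff_even.mpr hfeven)] at h
    omega
  have hcase : ¬ (p ^ f % 4 = 3 ∧ Odd (k + 1)) := by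
    rintro ⟨h, -⟩
    rw [pow_mod_four hodd, if_neg (Nat.not_odd_iff_even.mpr hfeven)] at h
    omega
  obtain ⟨E⟩ := (out_minus_odd hab hf hcard hp2 hk).2 hcase
  have hcomm : ∀ x y : Cfsg.Out (Cfsg.POmega F ⇑(minusQ k a b)), x * y = y * x := fun x y =>
    E.injective (by rw [map_mul, map_mul]; exact mul_comm _ _)
  have hz : negIso (minusQ k a b) ∉ Om (minusQ k a b) :=
    fun h => hnsp ((negIso_mem_iff_special hab hk h2).mp h)
  obtain ⟨L, hL, hLσ⟩ : ∃ L, S = T ^ j * L ∧ L.σ = RingEquiv.refl F := by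
    refine ⟨(T ^ j)⁻¹ * S, by rw [mul_inv_cancel_left], ?_⟩
    have h : sigmaHom _ ((T ^ j)⁻¹ * S) = 1 := by
      rw [map_mul, map_inv, map_pow, sigmaHom_apply, sigmaHom_apply, hj, inv_mul_cancel]
    exact h
  have h1 := outHom_sq_eq_one hQ h2 (card_minus_index k) hz hLσ
  have h3 := outHom_scalar hQ u
  have hr := outHom_refl_ne_one_of_even hQ (conjVec_quad_ne_zero hab k) (even_finrank_minus (F := F) k)
  rw [← hu, map_mul, hL, map_mul, map_pow] at h3
  refine hr ?_
  obtain ⟨l, rfl⟩ := hiodd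
  calc outHom _ (isoHom _ (refl (minusQ k a b) (conjVec k a)))
      = outHom _ T ^ f * ((outHom _ T ^ f) ^ 2) ^ l := by
        rw [← map_pow, hTf, ← map_pow (outHom _), ← map_pow (isoHom _), pow_two, refl_mul_self,
          map_one, map_one, one_pow, mul_one]
    _ = outHom _ T ^ (j + j) := by
        rw [← pow_mul, ← pow_mul, ← pow_add, hi]
        congr 1
        ring
    _ = outHom _ T ^ j * outHom _ L * (outHom _ T ^ j * outHom _ L) := by
        rw [hcomm (outHom _ T ^ j) (outHom _ L), mul_assoc, ← mul_assoc (outHom _ T ^ j) (outHom _ L),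
          hcomm (outHom _ T ^ j) (outHom _ L), mul_assoc (outHom _ L) (outHom _ T ^ j), ← mul_assoc,
          h1, one_mul, pow_add]
    _ = 1 := h3

omit h2 in
/-- The linear map of a similarity. -/
theorem exists_simLin {S : Semi (minusQ k a b)} (hσ : S.σ = RingEquiv.refl F) :
    ∃ T : ((Fin k ⊕ Fin k) ⊕ Fin 2 → F) →ₗ[F] ((Fin k ⊕ Fin k) ⊕ Fin 2 → F), ∀ x, T x = S.T x :=
  ⟨Matrix.toLin' (S.mat : Matrix ((Fin k ⊕ Fin k) ⊕ Fin 2) ((Fin k ⊕ Fin k) ⊕ Fin 2) F), fun x => by
    rw [Matrix.toLin'_apply, ← S.T_eq_mulVec_of_refl hσ]⟩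

/-- The multiplier of a graph involution. -/
theorem invol_c_eq {S : Semi (minusQ k a b)} {u : Fˣ} (hu : S * S = scalarHom _ u)
    (hσ : S.σ = RingEquiv.refl F)
    (hχ : minusSign hab (by omega : 2 ≤ k) ⟨S, mem_simGroup.mpr hσ⟩ = -1) :
    S.c = u ∧ (¬ IsSquare (u : F) → Even k) := by
  have hk2 : 2 ≤ k := by omega
  have hTT : ∀ x, S.T (S.T x) = (u : F) • x := fun x => congrArg (fun R : Semi _ => R.T x) hu
  have hcc : (S.c : F) * S.c = (u : F) * u := by
    have h := congrArg (fun R : Semi _ => (R.c : F)) hu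
    rw [Semi.mul_c, hσ] at h
    exact h
  by_cases hsq : IsSquare (u : F)
  · refine ⟨Units.ext ((mul_self_eq_mul_self_iff.mp hcc).resolve_right fun hc => ?_),
      fun h => absurd hsq h⟩
    obtain ⟨w, hw⟩ := hsq
    have hw0 : w ≠ 0 := fun e => u.ne_zero (by rw [hw, e, mul_zero])
    obtain ⟨T, hT⟩ := exists_simLin hab hk hσ
    have hTT' : ∀ x, T (T x) = (w * w) • x := fun x => by rw [hT, hT, hTT, hw]
    have hts : ∀ e : F, e * e = w * w → Module.finrank F (LinearMap.ker (T - e • LinearMap.id)) ≤ k := by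
      intro e he
      refine ts_bound_minusQ hab k _ fun x hx => ?_
      rw [LinearMap.mem_ker, LinearMap.sub_apply, LinearMap.smul_apply, LinearMap.id_apply, sub_eq_zero,
        hT] at hx
      have h := S.quad x
      rw [hx, quad_smul, hσ, RingEquiv.refl_apply, hc, he, ← hw] at h
      exact (mul_eq_zero.mp (show (2 : F) * (u : F) * minusQ k a b x = 0 by linear_combination h)).resolve_left
        (mul_ne_zero h2 u.ne_zero)
    have hsup : LinearMap.ker (T - w • LinearMap.id) ⊔ LinearMap.ker (T - (-w) • LinearMap.id) = ⊤ := by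
      refine Submodule.eq_top_iff'.mpr fun x => Submodule.mem_sup.mpr
        ⟨(2⁻¹ : F) • (x + w⁻¹ • T x), ?_, (2⁻¹ : F) • (x - w⁻¹ • T x), ?_, ?_⟩
      · rw [LinearMap.mem_ker, LinearMap.sub_apply, LinearMap.smul_apply, LinearMap.id_apply, sub_eq_zero]
        simp only [map_smul, map_add, hTT', smul_add, smul_smul]
        rw [add_comm]
        congr 1 <;> congr 1 <;> field_simp
      · rw [LinearMap.mem_ker, LinearMap.sub_apply, LinearMap.smul_apply, LinearMap.id_apply, sub_eq_zero]
        simp only [map_smul, map_sub, hTT', smul_sub, smul_smul, neg_mul, neg_smul, sub_neg_eq_add]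
        rw [sub_eq_neg_add]
        congr 1
        · congr 1; congr 1; field_simp
        · congr 1; field_simp
      · rw [← smul_add, add_add_sub_cancel, ← two_smul F x, smul_smul, inv_mul_cancel₀ h2, one_smul]
    have h3 := Submodule.finrank_add_le_finrank_add_finrank
      (LinearMap.ker (T - w • LinearMap.id)) (LinearMap.ker (T - (-w) • LinearMap.id))
    rw [hsup, finrank_top, Module.finrank_fintype_fun_eq_card, card_minus_index] at h3
    have h4 := hts w rfl
    have h5 := hts (-w) (by ring)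
    omega
  · have hA : (S.mat : Matrix ((Fin k ⊕ Fin k) ⊕ Fin 2) ((Fin k ⊕ Fin k) ⊕ Fin 2) F) *
        (S.mat : Matrix ((Fin k ⊕ Fin k) ⊕ Fin 2) ((Fin k ⊕ Fin k) ⊕ Fin 2) F) = (u : F) • 1 := by
      refine Matrix.toLin'.injective (LinearMap.ext fun v => ?_)
      rw [Matrix.toLin'_apply, Matrix.toLin'_apply, ← Matrix.mulVec_mulVec,
        ← S.T_eq_mulVec_of_refl hσ, ← S.T_eq_mulVec_of_refl hσ, hTT, Matrix.smul_mulVec,
        Matrix.one_mulVec]
    have h3 := (minusSign_spec hab hk2).2.2.2.1 ⟨S, mem_simGroup.mpr hσ⟩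
    rw [det_of_sq_nonsquare hA hsq (card_minus_index k), hχ] at h3
    simp only [Units.val_neg, Units.val_one, Int.cast_neg, Int.cast_one, neg_mul, one_mul] at h3
    have hne := pow_ne_zero (k + 1) u.ne_zero
    rcases mul_self_eq_mul_self_iff.mp hcc with hc | hc
    · refine ⟨Units.ext hc, fun _ => ?_⟩
      by_contra hk'
      rw [hc, Even.neg_pow (Nat.not_even_iff_odd.mp hk').add_one] at h3
      exact hne ((mul_eq_zero.mp (show (2 : F) * (u : F) ^ (k + 1) = 0 by linear_combination h3)).resolve_left h2)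
    · exfalso
      rw [hc] at h3
      exact pow_ne_zero (k + 1) (neg_ne_zero.mpr u.ne_zero)
        ((mul_eq_zero.mp (show (2 : F) * (-(u : F)) ^ (k + 1) = 0 by linear_combination h3)).resolve_left h2)

/-- The fixed spaces of an involutive isometry of determinant `-1`. -/
theorem fixSp_invol {g : oGroup (minusQ k a b)} (hg : g * g = 1)
    (hd : detO (minusQ k a b) g ≠ 1) :
    Odd (Module.finrank F (fixSp g)) ∧
      Module.finrank F (fixSp g) + Module.finrank F (fixSp (negIso _ * g)) = 2 * (k + 1) ∧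
      negIso _ * g * (negIso _ * g) = 1 := by
  obtain ⟨hQ, -⟩ := big_minusQ hab hk
  have hn : Module.finrank F ((Fin k ⊕ Fin k) ⊕ Fin 2 → F) = 2 * (k + 1) := by
    rw [Module.finrank_fintype_fun_eq_card, card_minus_index]
  have hgg : ∀ x, g.1 (g.1 x) = x := fun x => congrArg (fun t : oGroup (minusQ k a b) => t.1 x) hg
  have hneg : ∀ x, (negIso (minusQ k a b) * g).1 x = -(g.1 x) := fun x => rfl
  refine ⟨?_, ?_, Subtype.ext (LinearEquiv.ext fun x => ?_)⟩
  · have h := parity_eq hQ.nd (Or.inr (by omega)) (ε := detSign hQ.nd h2) (fun v hv => detSign_refl hv) g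
    rw [hn] at h
    by_contra hev
    rw [(((even_two_mul (k + 1)).add (Nat.not_odd_iff_even.mp hev))).neg_one_pow, detSign_eq_one] at h
    exact hd h
  · rw [← hn, ← finrank_top F ((Fin k ⊕ Fin k) ⊕ Fin 2 → F)]
    have hinf : fixSp g ⊓ fixSp (negIso _ * g) = ⊥ := by
      refine (Submodule.eq_bot_iff _).mpr fun x hx => ?_
      obtain ⟨h1, h3⟩ := hx
      rw [SetLike.mem_coe, mem_fixSp] at h1 h3
      rw [hneg, h1, neg_eq_iff_add_eq_zero, ← two_smul F x, smul_eq_zero] at h3
      exact h3.resolve_left h2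
    have hsup : fixSp g ⊔ fixSp (negIso _ * g) = ⊤ := by
      refine Submodule.eq_top_iff'.mpr fun x => Submodule.mem_sup.mpr
        ⟨(2⁻¹ : F) • (x + g.1 x), ?_, (2⁻¹ : F) • (x - g.1 x), ?_, ?_⟩
      · rw [mem_fixSp, map_smul, map_add, hgg, add_comm]
      · rw [mem_fixSp, hneg, map_smul, map_sub, hgg, ← smul_neg, neg_sub]
      · rw [← smul_add, add_add_sub_cancel, ← two_smul F x, smul_smul, inv_mul_cancel₀ h2, one_smul]
    have h := Submodule.finrank_sup_add_finrank_inf_eq (fixSp g) (fixSp (negIso _ * g))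
    rw [hsup, hinf, finrank_bot, add_zero] at h
    exact h.symm
  · change -(g.1 (-(g.1 x))) = x
    rw [map_neg, neg_neg, hgg]

/-- A similarity commuting up to sign with an involution of determinant `-1`, in the case
`k` odd, has square multiplier. -/
theorem isSquare_of_commute {g : oGroup (minusQ k a b)} (hg : g * g = 1)
    (hd : detO (minusQ k a b) g ≠ 1) (hk' : Odd k) {L : Semi (minusQ k a b)}
    (hσ : L.σ = RingEquiv.refl F) {v : F} (hv : v * v = 1)
    (hcomm : ∀ x, L.T (g.1 x) = v • g.1 (L.T x)) : IsSquare (L.c : F) := by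
  obtain ⟨hQ, -⟩ := big_minusQ hab hk
  obtain ⟨hodd, hsum, -⟩ := fixSp_invol hab hk h2 hg hd
  obtain ⟨T, hT⟩ := exists_simLin hab hk hσ
  rcases mul_self_eq_one_iff.mp hv with rfl | rfl
  · have hmaps : ∀ x ∈ fixSp g, T x ∈ fixSp g := fun x hx => by
      rw [mem_fixSp] at hx ⊢
      have h := hcomm x
      rw [hx, one_smul] at h
      rw [hT]; exact h.symm
    refine isSquare_of_simil (nondeg_fixSp hQ.nd h2 hg) hodd L.c.ne_zero (T.restrict hmaps) fun x y => ?_
    change polar (minusQ k a b) (T x.1) (T y.1) = _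
    rw [hT, hT, L.polar_map, hσ]
    rfl
  · exfalso
    have hinj : Function.Injective T := fun x y h => L.T.injective (by rwa [← hT, ← hT])
    have h1 : (fixSp g).map T ≤ fixSp (negIso _ * g) := by
      rintro _ ⟨x, hx, rfl⟩
      rw [SetLike.mem_coe, mem_fixSp] at hx
      rw [mem_fixSp]
      have h := hcomm x
      rw [hx, neg_one_smul] at h
      change -(g.1 (T x)) = T x
      rw [hT]; exact h.symm
    have h3 : (fixSp (negIso _ * g)).map T ≤ fixSp g := by
      rintro _ ⟨x, hx, rfl⟩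
      rw [SetLike.mem_coe, mem_fixSp] at hx
      rw [mem_fixSp]
      have h := hcomm x
      change -(g.1 x) = x at hx
      rw [neg_eq_iff_eq_neg.mp hx, ← hT, map_neg, neg_one_smul, neg_inj, hT] at h
      rw [hT]; exact h.symm
    have h4 := Submodule.finrank_mono h1
    have h5 := Submodule.finrank_mono h3
    rw [← (Submodule.equivMapOfInjective T hinj _).finrank_eq] at h4 h5
    obtain ⟨i, hi⟩ := hodd
    obtain ⟨j, hj⟩ := hk'
    omega

/-- A graph involution commutes with a pair of reflections of mixed class. -/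
theorem exists_pair_commute {S : Semi (minusQ k a b)} {u : Fˣ} (hu : S * S = scalarHom _ u)
    (hσ : S.σ = RingEquiv.refl F)
    (hχ : minusSign hab (by omega : 2 ≤ k) ⟨S, mem_simGroup.mpr hσ⟩ = -1) :
    ∃ x y, minusQ k a b x ≠ 0 ∧ minusQ k a b y ≠ 0 ∧
      ¬ IsSquare (minusQ k a b x * minusQ k a b y) ∧
      S * isoHom _ (refl _ x * refl _ y) = isoHom _ (refl _ x * refl _ y) * S := by
  have hk2 : 2 ≤ k := by omega
  obtain ⟨hQ, -⟩ := big_minusQ hab hk
  obtain ⟨hc, -⟩ := invol_c_eq hab hk h2 hu hσ hχ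
  by_cases hsq : IsSquare (u : F)
  · obtain ⟨w, hw⟩ := hsq
    obtain ⟨s, g, hS⟩ := exists_scalar_iso (S := S) hσ (s := w) (by rw [hc, hw])
    have hgg : g * g = 1 := by
      refine Subtype.ext (LinearEquiv.ext fun x => ?_)
      have h := congrArg (fun R : Semi (minusQ k a b) => R.T x) hu
      have hs2 : (s : F) * s = (u : F) := by
        rw [← hc, hS, Semi.mul_c]
        change _ = (s : F) * s * 1
        rw [mul_one]
      rw [hS] at h
      change (s : F) • g.1 ((s : F) • g.1 x) = (u : F) • x at h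
      rw [map_smul, smul_smul, hs2] at h
      exact smul_right_injective _ u.ne_zero h
    have hd : detO (minusQ k a b) g ≠ 1 := by
      intro h
      have h1 := (minusSign_isoHom_eq_one hab hk h2).mpr h
      rw [show (⟨S, mem_simGroup.mpr hσ⟩ : ↥(simGroup (minusQ k a b))) =
        ⟨scalarHom _ s, mem_simGroup.mpr rfl⟩ * ⟨isoHom _ g, mem_simGroup.mpr rfl⟩ from
          Subtype.ext hS, map_mul, (minusSign_spec hab hk2).2.1, one_mul, h1] at hχ
      exact absurd hχ (by decide)
    obtain ⟨hodd, hsum, hgg'⟩ := fixSp_invol hab hk h2 hgg hd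
    obtain ⟨g', hg', h2le, hR⟩ : ∃ g' : oGroup (minusQ k a b), g' * g' = 1 ∧
        2 ≤ Module.finrank F (fixSp g') ∧ ∀ x ∈ fixSp g', refl (minusQ k a b) (g.1 x) = refl _ x := by
      by_cases h : 2 ≤ Module.finrank F (fixSp g)
      · exact ⟨g, hgg, h, fun x hx => by rw [mem_fixSp.mp hx]⟩
      · refine ⟨negIso _ * g, hgg', by omega, fun x hx => ?_⟩
        have h := mem_fixSp.mp hx
        change -(g.1 x) = x at h
        rw [neg_eq_iff_eq_neg.mp h, ← neg_one_smul F x, refl_smul (neg_ne_zero.mpr one_ne_zero)]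
    have hnd : (polarBilin ((minusQ k a b).comp (fixSp g').subtype)).Nondegenerate := by
      rw [show polarBilin ((minusQ k a b).comp (fixSp g').subtype) =
        (polarBilin (minusQ k a b)).compl₁₂ (fixSp g').subtype (fixSp g').subtype from
          LinearMap.ext fun x => LinearMap.ext fun y => rfl]
      exact nondeg_fixSp hQ.nd h2 hg'
    obtain ⟨ν, hν⟩ := exists_nonsquare_unit h2
    obtain ⟨⟨x, hx⟩, hqx⟩ := exists_value hnd h2 h2le (1 : F)
    obtain ⟨⟨y, hy⟩, hqy⟩ := exists_value hnd h2 h2le (ν : F)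
    change minusQ k a b x = 1 at hqx
    change minusQ k a b y = (ν : F) at hqy
    refine ⟨x, y, hqx ▸ one_ne_zero, hqy ▸ ν.ne_zero, by rwa [hqx, hqy, one_mul], ?_⟩
    have hcomm : g * (refl _ x * refl _ y) = refl _ x * refl _ y * g := by
      rw [← mul_inv_eq_iff_eq_mul,
        show g * (refl (minusQ k a b) x * refl _ y) * g⁻¹ =
          g * refl _ x * g⁻¹ * (g * refl _ y * g⁻¹) by group, refl_conj, refl_conj, hR x hx, hR y hy]
    have hsc : scalarHom _ s * isoHom _ (refl (minusQ k a b) x * refl _ y) =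
        isoHom _ (refl _ x * refl _ y) * scalarHom _ s :=
      Semi.ext' rfl (fun z => by
        change (s : F) • (refl (minusQ k a b) x * refl _ y).1 z =
          (refl (minusQ k a b) x * refl _ y).1 ((s : F) • z)
        rw [map_smul]) (Units.ext (by
        rw [Semi.mul_c, Semi.mul_c]
        change (s : F) * s * (1 : F) = 1 * ((s : F) * s)
        rw [one_mul, mul_one]))
    rw [hS, mul_assoc, ← map_mul, hcomm, map_mul, ← mul_assoc, hsc, mul_assoc]
  · have hTT : ∀ x, S.T (S.T x) = (u : F) • x := fun x => congrArg (fun R : Semi _ => R.T x) hu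
    obtain ⟨T, hT⟩ := exists_simLin hab hk hσ
    obtain ⟨x, hx, hxT⟩ := exists_orth_image hQ.nd h2 (by have := hQ.dim; omega) T (fun x y => by
        have h := S.polar_map x (S.T y)
        rw [hTT, hσ, RingEquiv.refl_apply, hc, polar_smul_right, smul_eq_mul] at h
        rw [hT, hT]
        exact mul_left_cancel₀ u.ne_zero h) (fun x hx t h => hsq ⟨t, by
        have h1 : (u : F) • x = (t * t) • x := by
          rw [← hTT, ← hT, ← hT, h, map_smul, h, smul_smul]
        exact smul_left_injective F hx h1⟩)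
    have hqy : minusQ k a b (S.T x) = (u : F) * minusQ k a b x := by
      rw [S.quad, hσ, hc]; rfl
    refine ⟨x, S.T x, hx, hqy ▸ mul_ne_zero u.ne_zero hx, fun h => hsq ?_, ?_⟩
    · rw [hqy] at h
      have h7 := h.mul (IsSquare.mul_self (minusQ k a b x)⁻¹)
      rwa [show minusQ k a b x * ((u : F) * minusQ k a b x) *
        ((minusQ k a b x)⁻¹ * (minusQ k a b x)⁻¹) = (u : F) by field_simp] at h7
    · rw [map_mul, ← mul_assoc, S.mul_refl, mul_assoc, S.mul_refl, hTT, refl_smul u.ne_zero,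
        ← mul_assoc, ← map_mul, ← map_mul, refl_comm_of_orth]
      rw [← hT]
      exact hxT

end CfsgLib.AutPOm
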