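import Cfsg.Agent.AutPOm.InvSim

/-!
The similarity groups of the minus form modulo the inner automorphisms.
-/

set_option autoImplicit false
set_option linter.style.haveILetI false

namespace CfsgLib.AutPOm

open QuadraticMap CfsgLib.Forms CfsgLib.Quad Matrix

/-- A homomorphism from a subgroup with kernel a normal subgroup inside it. -/
theorem exists_hom_of_equiv {X C : Type*} [Group X] [Group C] (N : Subgroup X) [N.Normal]
    (H : Subgroup X) (e : ↥(H.map (QuotientGroup.mk' N)) ≃* C) :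
    ∃ φ : ↥H →* C, Function.Surjective φ ∧ φ.ker = N.subgroupOf H := by
  refine ⟨e.toMonoidHom.comp ((QuotientGroup.mk' N).subgroupMap H),
    e.surjective.comp (MonoidHom.subgroupMap_surjective _ _), ?_⟩
  ext x
  rw [MonoidHom.mem_ker, Subgroup.mem_subgroupOf, MonoidHom.comp_apply, MulEquiv.coe_toMonoidHom,
    MulEquiv.map_eq_one_iff, ← QuotientGroup.eq_one_iff, Subtype.ext_iff]
  rfl

/-- The quadratic class of a unit. -/
noncomputable def sqClass {F : Type*} [Field F] [Finite F] (h2 : (2 : F) ≠ 0) : Fˣ →* ℤˣ where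
  toFun u := haveI := Classical.propDecidable (IsSquare (u : F)); if IsSquare (u : F) then 1 else -1
  map_one' := by rw [if_pos]; rw [Units.val_one]; exact IsSquare.one
  map_mul' u v := by
    have h := isSquare_mul_iff h2 u.ne_zero v.ne_zero
    by_cases hu : IsSquare (u : F) <;> by_cases hv : IsSquare (v : F) <;>
      simp [hu, hv, h]

theorem sqClass_eq_one {F : Type*} [Field F] [Finite F] {h2 : (2 : F) ≠ 0} {u : Fˣ} :
    sqClass h2 u = 1 ↔ IsSquare (u : F) := by
  simp only [sqClass, MonoidHom.coe_mk, OneHom.coe_mk]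
  split_ifs with h <;> simp [h]

theorem nonempty_units_int_equiv : Nonempty (ℤˣ × ℤˣ ≃* Multiplicative (ZMod 2 × ZMod 2)) := by
  haveI : Fact (Nat.Prime 2) := ⟨Nat.prime_two⟩
  let e : ℤˣ ≃* Multiplicative (ZMod 2) := mulEquivOfPrimeCardEq (p := 2)
    (by rw [Nat.card_eq_fintype_card]; rfl) (by rw [Nat.card_eq_fintype_card]; rfl)
  exact ⟨(MulEquiv.prodCongr e e).trans (MulEquiv.prodMultiplicative (ZMod 2) (ZMod 2)).symm⟩

section generic

variable {F : Type*} [Field F] [Finite F] {ι : Type} [Fintype ι] [DecidableEq ι]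
  {Q : QuadraticForm F (ι → F)}

omit [Finite F] in
/-- The inner automorphisms come from isometries of determinant one. -/
theorem inn_le_psoAut :
    Cfsg.Inn (Cfsg.POmega F ⇑Q) ≤ Cfsg.psoAut F ⇑Q := by
  rintro _ ⟨y, rfl⟩
  obtain ⟨g, hg⟩ := QuotientGroup.mk'_surjective _ (pOmegaEquiv Q y)
  rw [psoAut_eq]
  refine ⟨isoHom Q g.1, ⟨g.1, Abelianization.commutator_subset_ker (detO Q) g.2, rfl⟩, ?_⟩
  rw [pomHom_iso_conj, hg, MulEquiv.symm_apply_apply]

variable (hQ : Big Q) (h2 : (2 : F) ≠ 0)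
include hQ h2

/-- Two pairs of reflections of mixed class have the same outer image. -/
theorem outHom_pair_eq {a b c d : ι → F} (ha : Q a ≠ 0) (hb : Q b ≠ 0) (hc : Q c ≠ 0) (hd : Q d ≠ 0)
    (hab : ¬ IsSquare (Q a * Q b)) (hcd : ¬ IsSquare (Q c * Q d)) :
    outHom Q (isoHom Q (refl Q a * refl Q b)) = outHom Q (isoHom Q (refl Q c * refl Q d)) := by
  have hn : 2 ≤ Module.finrank F (ι → F) := by have := hQ.dim; omega
  obtain ⟨θ, hθ⟩ := exists_spinor hQ.nd h2 hn
  have key : ∀ x y, Q x ≠ 0 → Q y ≠ 0 → ¬ IsSquare (Q x * Q y) →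
      θ (refl Q x * refl Q y) = -1 := fun x y hx hy h => by
    refine (Int.units_eq_one_or _).resolve_left fun e => h ?_
    rw [isSquare_mul_iff h2 hx hy, ← hθ x hx, ← hθ y hy]
    rw [map_mul, mul_eq_one_iff_eq_inv, Int.units_inv_eq_self] at e
    rw [e]
  rw [← mul_inv_eq_one, ← map_inv, ← map_inv, ← map_mul, ← map_mul, outHom_iso_eq_one_iff hQ]
  refine Or.inl ((mem_commutator_iff hQ.nd h2 hn hθ _).mpr ⟨?_, ?_⟩)
  · simp only [map_mul, map_inv]
    refine Units.ext ?_
    simp only [Units.val_mul, Units.val_inv_eq_inv_val, detO_refl ha, detO_refl hb, detO_refl hc,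
      detO_refl hd]
    norm_num
  · rw [map_mul, map_inv, key a b ha hb hab, key c d hc hd hcd, mul_inv_cancel]

/-- A pair of reflections of mixed class is outer when `-1` lies in `Omega`. -/
theorem outHom_pair_ne_one (hz : negIso Q ∈ Om Q) {a b : ι → F} (ha : Q a ≠ 0) (hb : Q b ≠ 0)
    (hab : ¬ IsSquare (Q a * Q b)) : outHom Q (isoHom Q (refl Q a * refl Q b)) ≠ 1 := by
  intro h
  have hn : 2 ≤ Module.finrank F (ι → F) := by have := hQ.dim; omega
  obtain ⟨θ, hθ⟩ := exists_spinor hQ.nd h2 hn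
  have hmem : refl Q a * refl Q b ∈ Om Q := by
    rcases (outHom_iso_eq_one_iff hQ).mp h with h1 | h1
    · exact h1
    · exact (Subgroup.mul_mem_cancel_left _ hz).mp h1
  have h3 := ((mem_commutator_iff hQ.nd h2 hn hθ _).mp hmem).2
  rw [map_mul, mul_eq_one_iff_eq_inv, Int.units_inv_eq_self] at h3
  exact hab ((isSquare_mul_iff h2 ha hb).mpr (by rw [← hθ a ha, ← hθ b hb, h3]))

/-- The commutator of a similarity with non-square multiplier and a reflection. -/
theorem outHom_refl_conj {S : Semi Q} (hσ : S.σ = RingEquiv.refl F) (hc : ¬ IsSquare (S.c : F))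
    {v : ι → F} (hv : Q v ≠ 0) :
    Q (S.T v) ≠ 0 ∧ ¬ IsSquare (Q (S.T v) * Q v) ∧
      outHom Q S * outHom Q (isoHom Q (refl Q v)) =
        outHom Q (isoHom Q (refl Q (S.T v) * refl Q v)) * outHom Q (isoHom Q (refl Q v)) *
          outHom Q S := by
  have hq : Q (S.T v) = (S.c : F) * Q v := by rw [S.quad, hσ]; rfl
  have hne : Q (S.T v) ≠ 0 := by rw [hq]; exact mul_ne_zero S.c.ne_zero hv
  refine ⟨hne, fun h => hc ?_, ?_⟩
  · rw [hq, mul_assoc] at h
    have h7 := h.mul (IsSquare.mul_self (Q v)⁻¹)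
    have h9 : (S.c : F) * (Q v * Q v) * ((Q v)⁻¹ * (Q v)⁻¹) = (S.c : F) := by field_simp
    rwa [h9] at h7
  · rw [← map_mul, S.mul_refl, ← map_mul, ← map_mul, ← map_mul, mul_assoc (refl Q (S.T v)),
      refl_mul_self, mul_one]

end generic

/-- Whether the index of the inner group is four. -/
def MinusSpecial (F : Type*) (k : ℕ) : Prop := Even k ∧ Nat.card F % 4 = 3

set_option synthInstance.maxHeartbeats 400000

universe u

variable {F : Type u} [Field F] [Finite F] {k : ℕ} {a b : F}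
  (hab : ∀ z₁ z₂ : F, z₁ ^ 2 + a * z₁ * z₂ + b * z₂ ^ 2 = 0 → z₁ = 0 ∧ z₂ = 0)
  (hk : 3 ≤ k) (h2 : (2 : F) ≠ 0)

theorem odd_card (h2 : (2 : F) ≠ 0) : Odd (Nat.card F) := by
  haveI := Fintype.ofFinite F
  rw [Nat.card_eq_fintype_card]
  exact Nat.odd_iff.mpr (FiniteField.odd_card_of_char_ne_two fun h => h2 (by
    have := ringChar.Nat.cast_ringChar (R := F)
    rw [h] at this
    exact_mod_cast this))

theorem exists_nonsquare_unit (h2 : (2 : F) ≠ 0) : ∃ ν : Fˣ, ¬ IsSquare (ν : F) := by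
  haveI := Fintype.ofFinite F
  obtain ⟨ν, hν⟩ := FiniteField.exists_nonsquare (F := F) (fun h => h2 (by
    have := ringChar.Nat.cast_ringChar (R := F)
    rw [h] at this
    exact_mod_cast this))
  exact ⟨Units.mk0 ν fun h => hν (h ▸ ⟨0, by ring⟩), hν⟩

include hab hk

/-- The similarities modulo the inner group. -/
theorem map_outHom_simGroup :
    (simGroup (minusQ k a b)).map (outHom _) =
      (outSigma (big_minusQ hab hk).1 (big_minusQ hab hk).2).ker := by
  obtain ⟨hQ, hs⟩ := big_minusQ hab hk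
  ext x
  constructor
  · rintro ⟨S, hS, rfl⟩
    rw [MonoidHom.mem_ker, outSigma_outHom]
    exact mem_simGroup.mp hS
  · intro hx
    obtain ⟨S, rfl⟩ := outHom_surjective hQ hs x
    rw [MonoidHom.mem_ker, outSigma_outHom] at hx
    exact ⟨S, mem_simGroup.mpr hx, rfl⟩

include h2

theorem negIso_mem_iff_special : negIso (minusQ k a b) ∈ Om (minusQ k a b) ↔ MinusSpecial F k := by
  haveI := Fintype.ofFinite F
  obtain ⟨p, hpc⟩ := CharP.exists F
  haveI := hpc
  obtain ⟨⟨f, hf⟩, hpp, hF⟩ := FiniteField.card F p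
  change Fintype.card F = p ^ f at hF
  haveI := Fact.mk hpp
  have hcard : Nat.card F = p ^ f := Nat.card_eq_fintype_card.trans hF
  have hodd : Odd (p ^ f) := hcard ▸ odd_card h2
  have hiff := negIso_minus_iff hcard hodd h2 hab k
  rw [pow_mod_four hodd] at hiff
  rw [hiff, MinusSpecial, hcard]
  rcases Nat.even_or_odd k with hk' | hk'
  · rw [if_pos hk'.add_one]
    exact ⟨fun h => ⟨hk', h⟩, fun h => h.2⟩
  · rw [if_neg (Nat.not_odd_iff_even.mpr hk'.add_one)]
    exact ⟨fun h => by omega, fun h => absurd h.1 (Nat.not_even_iff_odd.mpr hk')⟩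

theorem card_map_outHom_simGroup :
    (MinusSpecial F k → Nat.card ↥((simGroup (minusQ k a b)).map (outHom _)) = 8) ∧
      (¬ MinusSpecial F k → Nat.card ↥((simGroup (minusQ k a b)).map (outHom _)) = 4) := by
  haveI := Fintype.ofFinite F
  obtain ⟨p, hpc⟩ := CharP.exists F
  haveI := hpc
  obtain ⟨⟨f, hf⟩, hpp, hF⟩ := FiniteField.card F p
  change Fintype.card F = p ^ f at hF
  haveI := Fact.mk hpp
  have hcard : Nat.card F = p ^ f := Nat.card_eq_fintype_card.trans hF
  have hp : p ≠ 2 := by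
    rintro rfl
    have h := odd_card h2
    rw [hcard, Nat.odd_pow_iff (by omega)] at h
    exact absurd h (by decide)
  obtain ⟨hQ, hs⟩ := big_minusQ hab hk
  have hout := card_out_of_aut hQ hs (card_aut_minus hf hcard hab hk)
  rw [if_neg hp] at hout
  have hker := card_ker_outSigma hQ hs (minus_sigma_surjective hab k) hf hcard
  rw [hout] at hker
  have h := Nat.eq_of_mul_eq_mul_right (by omega) hker
  rw [map_outHom_simGroup hab hk, h, MinusSpecial, hcard]
  have hiff : Odd (k + 1) ↔ Even k := Nat.odd_add_one.trans Nat.not_odd_iff_even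
  constructor
  · intro hc; rw [if_pos ⟨hiff.mpr hc.1, hc.2⟩]
  · intro hc; rw [if_neg fun hh => hc ⟨hiff.mp hh.1, hh.2⟩]

omit h2 in
theorem mem_map_minusDir_iff {S : Semi (minusQ k a b)} (hS : S ∈ simGroup _) :
    outHom _ S ∈ (minusDir hab (by omega : 2 ≤ k)).map (outHom _) ↔
      minusSign hab (by omega : 2 ≤ k) ⟨S, hS⟩ = 1 := by
  have hk2 : 2 ≤ k := by omega
  refine ⟨?_, fun h => ⟨S, (mem_minusDir hab hk2).mpr ⟨hS, h⟩, rfl⟩⟩
  rintro ⟨T, hT, he⟩
  obtain ⟨u, g, hg⟩ := (outHom_eq_one_iff (big_minusQ hab hk).1).mp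
    (show outHom _ (T⁻¹ * S) = 1 by rw [map_mul, map_inv, he, inv_mul_cancel])
  have hmem : S ∈ minusDir hab hk2 := by
    rw [show S = T * (scalarHom _ u * isoHom _ g.1) by rw [← hg, mul_inv_cancel_left]]
    exact mul_mem hT (mul_mem (scalar_mem_minusDir hab hk2 u) (iso_mem_minusDir hab hk2 g))
  obtain ⟨_, h⟩ := (mem_minusDir hab hk2).mp hmem
  exact h

omit h2 in
theorem minusSign_isoHom (g : oGroup (minusQ k a b)) :
    (detO _ g : F) =
      ((minusSign hab (by omega : 2 ≤ k) ⟨isoHom _ g, mem_simGroup.mpr rfl⟩ : ℤ) : F) := by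
  have h := (minusSign_spec hab (by omega : 2 ≤ k)).2.2.2.1 ⟨isoHom _ g, mem_simGroup.mpr rfl⟩
  rw [det_mat_isoHom] at h
  rw [h]
  change _ * (1 : F) ^ (k + 1) = _
  rw [one_pow, mul_one]

theorem minusSign_isoHom_eq_one {g : oGroup (minusQ k a b)} :
    minusSign hab (by omega : 2 ≤ k) ⟨isoHom _ g, mem_simGroup.mpr rfl⟩ = 1 ↔ detO _ g = 1 := by
  have h := minusSign_isoHom hab hk g
  constructor
  · intro e
    rw [e] at h
    exact Units.ext (by rw [h]; simp)
  · intro e
    refine (Int.units_eq_one_or _).resolve_right fun e' => ?_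
    rw [e, e'] at h
    simp at h
    exact h2 (by linear_combination h)

/-- The conformal group modulo the special orthogonal group. -/
theorem exists_pgo_mod_pso :
    ∃ φ : ↥(Cfsg.pgoAut F ⇑(minusQ k a b)) →* Multiplicative (ZMod 2 × ZMod 2),
      Function.Surjective φ ∧
        φ.ker = (Cfsg.psoAut F ⇑(minusQ k a b)).subgroupOf (Cfsg.pgoAut F ⇑(minusQ k a b)) := by
  have hk2 : 2 ≤ k := by omega
  obtain ⟨hQ, -⟩ := big_minusQ hab hk
  obtain ⟨e⟩ := nonempty_units_int_equiv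
  rw [pgoAut_eq, psoAut_eq]
  set π := (pomHom (minusQ k a b)).subgroupMap (simGroup _)
  let cHom : ↥(simGroup (minusQ k a b)) →* Fˣ :=
    { toFun := fun S => S.1.c
      map_one' := rfl
      map_mul' := fun S T => Units.ext (by
        change ((S.1 * T.1).c : F) = _
        rw [Semi.mul_c, mem_simGroup.mp S.2]
        rfl) }
  set ψ : ↥(simGroup (minusQ k a b)) →* ℤˣ × ℤˣ :=
    (minusSign hab hk2).prod ((sqClass h2).comp cHom) with hψ
  have hψ1 : ∀ S, ψ S = 1 ↔ minusSign hab hk2 S = 1 ∧ IsSquare (S.1.c : F) := fun S => by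
    rw [hψ, MonoidHom.prod_apply, Prod.mk_eq_one, MonoidHom.comp_apply, sqClass_eq_one]
    rfl
  have hπs : Function.Surjective π := MonoidHom.subgroupMap_surjective _ _
  have hker : π.ker ≤ ψ.ker := by
    intro S hS
    have h1 : pomHom _ S.1 = 1 := congrArg Subtype.val (MonoidHom.mem_ker.mp hS)
    obtain ⟨u, hu⟩ := (mem_ker_pgHom hQ).mp (pomHom_eq_one_iff.mp h1)
    rw [MonoidHom.mem_ker, hψ1]
    refine ⟨?_, ?_⟩
    · rw [show S = ⟨scalarHom _ u, mem_simGroup.mpr rfl⟩ from Subtype.ext hu]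
      exact (minusSign_spec hab hk2).2.1 u
    · rw [hu]; exact ⟨(u : F), rfl⟩
  set φ := π.liftOfSurjective hπs ⟨ψ, hker⟩
  have hφ : ∀ S, φ (π S) = ψ S := fun S => MonoidHom.liftOfRightInverse_comp_apply _ _ _ _ S
  refine ⟨e.toMonoidHom.comp φ, e.surjective.comp fun z => ?_, ?_⟩
  · obtain ⟨v, hv⟩ := CfsgLib.Quad.exists_aniso hQ.nd (by have := hQ.dim; omega)
    obtain ⟨ν, hν⟩ := exists_nonsquare_unit h2
    obtain ⟨S, hSσ, hSc⟩ := minus_exists_mult hab k ν
    set R : ↥(simGroup (minusQ k a b)) := ⟨isoHom _ (refl _ v), mem_simGroup.mpr rfl⟩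
    set D : ↥(simGroup (minusQ k a b)) := ⟨S, mem_simGroup.mpr hSσ⟩
    have hR : ψ R = (-1, 1) := by
      rw [hψ, MonoidHom.prod_apply]
      refine Prod.ext ((minusSign_spec hab hk2).2.2.1 v hv) ((sqClass_eq_one (h2 := h2) (u := cHom R)).mpr ?_)
      exact IsSquare.one
    have hD : (ψ D).2 = -1 := by
      refine (Int.units_eq_one_or _).resolve_left fun h => hν ?_
      rw [← hSc]
      exact (sqClass_eq_one (h2 := h2) (u := cHom D)).mp h
    refine (Int.units_eq_one_or z.1).elim (fun h1 => ?_) (fun h1 => ?_) <;>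
      rcases Int.units_eq_one_or z.2 with h3 | h3
    · exact ⟨π 1, by rw [hφ, map_one]; exact Prod.ext h1.symm h3.symm⟩
    · rcases Int.units_eq_one_or (ψ D).1 with h4 | h4
      · exact ⟨π D, by rw [hφ]; exact Prod.ext (h4.trans h1.symm) (hD.trans h3.symm)⟩
      · exact ⟨π (R * D), by
          rw [hφ, map_mul, hR]
          exact Prod.ext (by rw [Prod.fst_mul, h4, h1]; decide) (by rw [Prod.snd_mul, hD, h3]; decide)⟩
    · exact ⟨π R, by rw [hφ, hR]; exact Prod.ext h1.symm h3.symm⟩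
    · rcases Int.units_eq_one_or (ψ D).1 with h4 | h4
      · exact ⟨π (R * D), by
          rw [hφ, map_mul, hR]
          exact Prod.ext (by rw [Prod.fst_mul, h4, h1]; decide) (by rw [Prod.snd_mul, hD, h3]; decide)⟩
      · exact ⟨π D, by rw [hφ]; exact Prod.ext (h4.trans h1.symm) (hD.trans h3.symm)⟩
  · ext x
    obtain ⟨S, rfl⟩ := hπs x
    rw [MonoidHom.mem_ker, MonoidHom.comp_apply, MulEquiv.coe_toMonoidHom, MulEquiv.map_eq_one_iff,
      hφ, hψ1, Subgroup.mem_subgroupOf]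
    change _ ↔ pomHom _ S.1 ∈ _
    constructor
    · rintro ⟨hχ, s, hs⟩
      obtain ⟨u, g, hg⟩ := exists_scalar_iso (mem_simGroup.mp S.2) hs
      refine ⟨isoHom _ g, ⟨g, MonoidHom.mem_ker.mpr ?_, rfl⟩, ?_⟩
      · refine (minusSign_isoHom_eq_one hab hk h2).mp ?_
        rw [show S = ⟨scalarHom _ u, mem_simGroup.mpr rfl⟩ * ⟨isoHom _ g, mem_simGroup.mpr rfl⟩ from
          Subtype.ext hg, map_mul, (minusSign_spec hab hk2).2.1, one_mul] at hχ
        exact hχ
      · rw [hg, map_mul, pomHom_eq_one_iff.mpr ((mem_ker_pgHom hQ).mpr ⟨u, rfl⟩), one_mul]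
    · rintro ⟨_, ⟨g, hg, rfl⟩, he⟩
      obtain ⟨u, hu⟩ := (pomHom_eq_iff hQ).mp he.symm
      refine ⟨?_, ?_⟩
      · rw [show S = ⟨scalarHom _ u, mem_simGroup.mpr rfl⟩ * ⟨isoHom _ g, mem_simGroup.mpr rfl⟩ from
          Subtype.ext hu, map_mul, (minusSign_spec hab hk2).2.1, one_mul]
        exact (minusSign_isoHom_eq_one hab hk h2).mpr (MonoidHom.mem_ker.mp hg)
      · rw [hu, Semi.mul_c]
        exact ⟨(u : F), by change (u : F) * u * 1 = _; rw [mul_one]⟩

end CfsgLib.AutPOm
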