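import Cfsg.Agent.AutPOm.MinusOut

/-!
The special orthogonal and inner-diagonal groups of the minus form over the inner group.
-/

set_option autoImplicit false
set_option linter.style.haveILetI false
set_option synthInstance.maxHeartbeats 400000

namespace CfsgLib.AutPOm

open QuadraticMap CfsgLib.Forms CfsgLib.Quad Matrix

universe u

variable {F : Type u} [Field F] [Finite F] {k : ℕ} {a b : F}
  (hab : ∀ z₁ z₂ : F, z₁ ^ 2 + a * z₁ * z₂ + b * z₂ ^ 2 = 0 → z₁ = 0 ∧ z₂ = 0)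
  (hk : 3 ≤ k) (h2 : (2 : F) ≠ 0)
include hab hk h2

/-- When `-1` is outside `Omega`, the special orthogonal group gives inner automorphisms only. -/
theorem psoAut_eq_inn (h : ¬ MinusSpecial F k) :
    Cfsg.psoAut F ⇑(minusQ k a b) = Cfsg.Inn (Cfsg.POmega F ⇑(minusQ k a b)) := by
  obtain ⟨hQ, -⟩ := big_minusQ hab hk
  refine le_antisymm ?_ (inn_le_psoAut)
  rw [psoAut_eq]
  rintro _ ⟨_, ⟨g, hg, rfl⟩, rfl⟩
  exact (QuotientGroup.eq_one_iff _).mp (outHom_eq_one_of_det hQ h2 (even_finrank_minus k)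
    (fun hh => h ((negIso_mem_iff_special hab hk h2).mp hh)) (MonoidHom.mem_ker.mp hg))

/-- When `-1` is in `Omega`, the special orthogonal group exceeds the inner group by two. -/
theorem relIndex_inn_psoAut (h : MinusSpecial F k) :
    (Cfsg.Inn (Cfsg.POmega F ⇑(minusQ k a b))).relIndex (Cfsg.psoAut F ⇑(minusQ k a b)) = 2 := by
  obtain ⟨hQ, -⟩ := big_minusQ hab hk
  have hz := (negIso_mem_iff_special hab hk h2).mpr h
  have hn : 2 ≤ Module.finrank F ((Fin k ⊕ Fin k) ⊕ Fin 2 → F) := by have := hQ.dim; omega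
  obtain ⟨θ, hθ⟩ := exists_spinor hQ.nd h2 hn
  obtain ⟨ν, hν⟩ := exists_nonsquare_unit h2
  obtain ⟨x, hx⟩ := exists_value hQ.nd h2 hn (1 : F)
  obtain ⟨y, hy⟩ := exists_value hQ.nd h2 hn (ν : F)
  have hx0 : minusQ k a b x ≠ 0 := hx ▸ one_ne_zero
  have hy0 : minusQ k a b y ≠ 0 := hy ▸ ν.ne_zero
  have hxy : ¬ IsSquare (minusQ k a b x * minusQ k a b y) := by rwa [hx, hy, one_mul]
  set P := refl (minusQ k a b) x * refl (minusQ k a b) y with hP
  have hPdet : detO _ P = 1 := Units.ext (by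
    rw [hP, map_mul, Units.val_mul, detO_refl hx0, detO_refl hy0]; norm_num)
  have hθP : θ P = -1 := by
    refine (Int.units_eq_one_or _).resolve_left fun e => hxy ?_
    rw [isSquare_mul_iff h2 hx0 hy0, ← hθ x hx0, ← hθ y hy0]
    rw [hP, map_mul, mul_eq_one_iff_eq_inv, Int.units_inv_eq_self] at e
    rw [e]
  rw [Subgroup.relIndex, Subgroup.index_eq_two_iff]
  refine ⟨⟨pomHom _ (isoHom _ P), psoAut_eq (Q := minusQ k a b) ▸ ⟨_, ⟨P, MonoidHom.mem_ker.mpr hPdet, rfl⟩, rfl⟩⟩,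
    fun z => ?_⟩
  obtain ⟨z, hz'⟩ := z
  have hz'' := hz'
  rw [psoAut_eq] at hz''
  obtain ⟨_, ⟨g, hg, rfl⟩, rfl⟩ := hz''
  simp only [Subgroup.mem_subgroupOf, Subgroup.coe_mul]
  have hin : ∀ g : oGroup (minusQ k a b),
      pomHom _ (isoHom _ g) ∈ Cfsg.Inn (Cfsg.POmega F ⇑(minusQ k a b)) ↔ detO _ g = 1 ∧ θ g = 1 := by
    intro g
    refine (QuotientGroup.eq_one_iff _).symm.trans ((outHom_iso_eq_one_iff hQ).trans ?_)
    rw [Subgroup.mul_mem_cancel_left _ hz, or_self, mem_commutator_iff hQ.nd h2 hn hθ]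
  rw [← map_mul, ← map_mul, hin, hin]
  have hgd := MonoidHom.mem_ker.mp hg
  simp only [map_mul, hgd, hPdet, hθP, one_mul, true_and]
  rcases Int.units_eq_one_or (θ g) with e | e <;> rw [e] <;> decide

/-- The class-preserving similarities modulo the inner group form half of all similarities. -/
theorem card_map_minusDir :
    2 * Nat.card ↥((minusDir hab (by omega : 2 ≤ k)).map (outHom _)) =
      Nat.card ↥((simGroup (minusQ k a b)).map (outHom _)) := by
  have hk2 : 2 ≤ k := by omega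
  obtain ⟨hQ, -⟩ := big_minusQ hab hk
  set D := (minusDir hab hk2).map (outHom (minusQ k a b))
  set K := (simGroup (minusQ k a b)).map (outHom _)
  have hle : D ≤ K := Subgroup.map_mono (minusDir_le hab hk2)
  obtain ⟨v, hv⟩ := CfsgLib.Quad.exists_aniso hQ.nd (by have := hQ.dim; omega)
  have hidx : (D.subgroupOf K).index = 2 := by
    rw [Subgroup.index_eq_two_iff]
    refine ⟨⟨outHom _ (isoHom _ (refl _ v)), _, mem_simGroup.mpr rfl, rfl⟩, fun z => ?_⟩
    obtain ⟨_, S, hS, rfl⟩ := z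
    simp only [Subgroup.mem_subgroupOf, Subgroup.coe_mul]
    rw [← map_mul, mem_map_minusDir_iff hab hk (mul_mem hS (mem_simGroup.mpr rfl)),
      mem_map_minusDir_iff hab hk hS,
      show (⟨S * isoHom _ (refl (minusQ k a b) v), _⟩ : ↥(simGroup (minusQ k a b))) =
        ⟨S, hS⟩ * ⟨isoHom _ (refl _ v), mem_simGroup.mpr rfl⟩ from rfl, map_mul,
      (minusSign_spec hab hk2).2.2.1 v hv]
    rcases Int.units_eq_one_or (minusSign hab hk2 ⟨S, hS⟩) with e | e <;> rw [e] <;> decide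
  rw [← Subgroup.card_mul_index (D.subgroupOf K), hidx,
    Nat.card_congr (Subgroup.subgroupOfEquivOfLe hle).toEquiv, mul_comm]

/-- Some class-preserving similarity has outer image of order four. -/
theorem exists_order_four (h : MinusSpecial F k) :
    ∃ d ∈ (minusDir hab (by omega : 2 ≤ k)).map (outHom _), d * d ≠ 1 := by
  have hk2 : 2 ≤ k := by omega
  obtain ⟨hQ, -⟩ := big_minusQ hab hk
  obtain ⟨ν, hν⟩ := exists_nonsquare_unit h2
  obtain ⟨L, hLσ, hLc, hLT⟩ := exists_swap hab hk ν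
  have hA : (L.mat : Matrix ((Fin k ⊕ Fin k) ⊕ Fin 2) ((Fin k ⊕ Fin k) ⊕ Fin 2) F) *
      (L.mat : Matrix ((Fin k ⊕ Fin k) ⊕ Fin 2) ((Fin k ⊕ Fin k) ⊕ Fin 2) F) = (ν : F) • 1 := by
    refine Matrix.toLin'.injective (LinearMap.ext fun v => ?_)
    rw [Matrix.toLin'_apply, Matrix.toLin'_apply, ← Matrix.mulVec_mulVec,
      ← L.T_eq_mulVec_of_refl hLσ, ← L.T_eq_mulVec_of_refl hLσ, hLT, Matrix.smul_mulVec,
      Matrix.one_mulVec]
  have hdet := det_of_sq_nonsquare hA hν (card_minus_index k)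
  have hχ : minusSign hab hk2 ⟨L, mem_simGroup.mpr hLσ⟩ = -1 := by
    refine (Int.units_eq_one_or _).resolve_left fun e => h2 ?_
    have h3 := (minusSign_spec hab hk2).2.2.2.1 ⟨L, mem_simGroup.mpr hLσ⟩
    rw [hdet, e, hLc, Odd.neg_pow h.1.add_one] at h3
    simp at h3
    exact (mul_eq_zero.mp (show (2 : F) * (ν : F) ^ (k + 1) = 0 by linear_combination -h3)).resolve_right
      (pow_ne_zero _ ν.ne_zero)
  obtain ⟨v, hv⟩ := CfsgLib.Quad.exists_aniso hQ.nd (by have := hQ.dim; omega)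
  set r := outHom (minusQ k a b) (isoHom _ (refl _ v))
  set l := outHom (minusQ k a b) L
  refine ⟨l * r, ?_, ?_⟩
  · rw [← map_mul, mem_map_minusDir_iff hab hk (mul_mem (mem_simGroup.mpr hLσ) (mem_simGroup.mpr rfl)),
      show (⟨L * isoHom _ (refl (minusQ k a b) v), _⟩ : ↥(simGroup (minusQ k a b))) =
        ⟨L, mem_simGroup.mpr hLσ⟩ * ⟨isoHom _ (refl _ v), mem_simGroup.mpr rfl⟩ from rfl, map_mul,
      hχ, (minusSign_spec hab hk2).2.2.1 v hv]
    decide
  · obtain ⟨hne, hns, hcomm⟩ := outHom_refl_conj hQ h2 hLσ (by rw [hLc]; exact hν) hv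
    have hll : l * l = 1 := by
      rw [← map_mul, show L * L = scalarHom _ ν from Semi.ext' (RingEquiv.ext fun z => by
          change L.σ (L.σ z) = z
          rw [hLσ]; rfl) (fun w => hLT w) (Units.ext (by
          rw [Semi.mul_c, hLσ, hLc]; rfl)), outHom_scalar hQ]
    have hrr : r * r = 1 := by rw [← map_mul, ← map_mul, refl_mul_self, map_one, map_one]
    intro e
    apply outHom_pair_ne_one hQ h2 ((negIso_mem_iff_special hab hk h2).mpr h) hne hv hns
    calc _ = l * r * (l⁻¹ * r⁻¹) := by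
          rw [show l * r = _ from hcomm]; simp only [l, r]; group
      _ = l * r * (l * r) := by rw [inv_eq_of_mul_eq_one_left hll, inv_eq_of_mul_eq_one_left hrr]
      _ = 1 := e

end CfsgLib.AutPOm
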