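import Cfsg.Agent.AutPOm.MinusOutIndex

/-!
The structure of the outer similarity groups of the minus form.
-/

set_option autoImplicit false
set_option linter.style.haveILetI false
set_option synthInstance.maxHeartbeats 400000

namespace CfsgLib.AutPOm

open QuadraticMap CfsgLib.Forms CfsgLib.Quad Matrix

universe u

theorem two_ne_zero_of_odd_card {K : Type*} [Field K] [Fintype K] (h : Odd (Fintype.card K)) :
    (2 : K) ≠ 0 :=
  Ring.two_ne_zero fun h' => by
    have h1 := FiniteField.even_card_of_char_two h'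
    have := Nat.odd_iff.mp h
    omega

variable {F : Type u} [Field F] [Finite F] {k : ℕ} {a b : F}
  (hab : ∀ z₁ z₂ : F, z₁ ^ 2 + a * z₁ * z₂ + b * z₂ ^ 2 = 0 → z₁ = 0 ∧ z₂ = 0)
  (hk : 3 ≤ k) (h2 : (2 : F) ≠ 0)
include hab hk h2

theorem map_outHom_comm_ne (h : MinusSpecial F k) :
    ∃ r ∈ (simGroup (minusQ k a b)).map (outHom _), r * r = 1 ∧
      ∃ l ∈ (simGroup (minusQ k a b)).map (outHom _), r * l ≠ l * r := by
  obtain ⟨hQ, -⟩ := big_minusQ hab hk
  obtain ⟨v, hv⟩ := CfsgLib.Quad.exists_aniso hQ.nd (by have := hQ.dim; omega)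
  obtain ⟨ν, hν⟩ := exists_nonsquare_unit h2
  obtain ⟨S, hSσ, hSc⟩ := minus_exists_mult hab k ν
  refine ⟨_, ⟨isoHom _ (refl _ v), mem_simGroup.mpr rfl, rfl⟩, ?_, _, ⟨S, mem_simGroup.mpr hSσ, rfl⟩,
    fun e => ?_⟩
  · rw [← map_mul, ← map_mul, refl_mul_self, map_one, map_one]
  obtain ⟨hne, hns, hc⟩ := outHom_refl_conj hQ h2 hSσ (by rw [hSc]; exact hν) hv
  apply outHom_pair_ne_one hQ h2 ((negIso_mem_iff_special hab hk h2).mpr h) hne hv hns
  rw [← e, mul_assoc] at hc
  exact mul_eq_right.mp hc.symm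

theorem exists_pgo_mod_inn :
    (MinusSpecial F k → ∃ φ : ↥(Cfsg.pgoAut F ⇑(minusQ k a b)) →* DihedralGroup 4,
      Function.Surjective φ ∧ φ.ker =
        (Cfsg.Inn (Cfsg.POmega F ⇑(minusQ k a b))).subgroupOf (Cfsg.pgoAut F ⇑(minusQ k a b))) ∧
    (¬ MinusSpecial F k →
      ∃ φ : ↥(Cfsg.pgoAut F ⇑(minusQ k a b)) →* Multiplicative (ZMod 2 × ZMod 2),
        Function.Surjective φ ∧ φ.ker =
          (Cfsg.Inn (Cfsg.POmega F ⇑(minusQ k a b))).subgroupOf (Cfsg.pgoAut F ⇑(minusQ k a b))) := by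
  refine ⟨fun h => ?_, fun h => ?_⟩
  · obtain ⟨r, hr, hrr, l, hl, hrl⟩ := map_outHom_comm_ne hab hk h2 h
    obtain ⟨e⟩ := nonempty_equiv_dihedral ((card_map_outHom_simGroup hab hk h2).1 h)
      (a := (⟨r, hr⟩ : ↥((simGroup (minusQ k a b)).map (outHom _)))) (b := ⟨l, hl⟩)
      (Subtype.ext hrr) (fun e => hrl (congrArg Subtype.val e))
    refine exists_hom_of_equiv _ _ ((MulEquiv.subgroupCongr ?_).trans e)
    rw [pgoAut_eq, Subgroup.map_map]
    rfl
  · rw [← psoAut_eq_inn hab hk h2 h]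
    exact exists_pgo_mod_pso hab hk h2

theorem exists_inndiag_mod_inn :
    (MinusSpecial F k →
      ∃ φ : ↥(classAut F ⇑(minusQ k a b) (Cfsg.PreservesSingularClassesMinus k a b)) →*
        Multiplicative (ZMod 4), Function.Surjective φ ∧ φ.ker =
          (Cfsg.Inn (Cfsg.POmega F ⇑(minusQ k a b))).subgroupOf _) ∧
    (¬ MinusSpecial F k →
      ∃ φ : ↥(classAut F ⇑(minusQ k a b) (Cfsg.PreservesSingularClassesMinus k a b)) →*
        Multiplicative (ZMod 2), Function.Surjective φ ∧ φ.ker =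
          (Cfsg.Inn (Cfsg.POmega F ⇑(minusQ k a b))).subgroupOf _) := by
  have hk2 : 2 ≤ k := by omega
  have hcard := card_map_minusDir hab hk h2
  have hmap : (classAut F ⇑(minusQ k a b) (Cfsg.PreservesSingularClassesMinus k a b)).map
      (QuotientGroup.mk' (Cfsg.Inn (Cfsg.POmega F ⇑(minusQ k a b)))) =
      (minusDir hab hk2).map (outHom _) := by
    rw [minusDir_eq_map hab hk2, Subgroup.map_map]
    rfl
  refine ⟨fun h => ?_, fun h => ?_⟩
  · rw [(card_map_outHom_simGroup hab hk h2).1 h] at hcard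
    have h4 : Nat.card ↥((minusDir hab hk2).map (outHom _)) = 4 := by omega
    obtain ⟨d, hd, hdd⟩ := exists_order_four hab hk h2 h
    haveI : Finite ↥((minusDir hab hk2).map (outHom (minusQ k a b))) :=
      Nat.finite_of_card_ne_zero (by omega)
    haveI : IsCyclic ↥((minusDir hab hk2).map (outHom (minusQ k a b))) := by
      refine isCyclic_of_orderOf_eq_card ⟨d, hd⟩ ?_
      have h1 := orderOf_dvd_natCard (⟨d, hd⟩ : ↥((minusDir hab hk2).map (outHom (minusQ k a b))))
      rw [h4] at h1 ⊢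
      have h3 : ¬ orderOf (⟨d, hd⟩ : ↥((minusDir hab hk2).map (outHom (minusQ k a b)))) ∣ 2 :=
        fun hh => hdd (by
          have h6 := congrArg Subtype.val (orderOf_dvd_iff_pow_eq_one.mp hh)
          rwa [Subgroup.coe_pow, Subgroup.coe_one, pow_two] at h6)
      obtain ⟨i, hi, e⟩ := (Nat.dvd_prime_pow Nat.prime_two (m := 2)).mp h1
      rw [e] at h3 ⊢
      rcases i with _ | _ | _ | i
      · exact absurd (one_dvd 2) h3
      · exact absurd (dvd_refl 2) h3
      · rfl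
      · omega
    exact exists_hom_of_equiv _ _ ((MulEquiv.subgroupCongr hmap).trans
      (mulEquivOfCyclicCardEq (by rw [h4, Nat.card_eq_fintype_card]; rfl)))
  · rw [(card_map_outHom_simGroup hab hk h2).2 h] at hcard
    haveI : Fact (Nat.Prime 2) := ⟨Nat.prime_two⟩
    have h22 : Nat.card ↥((minusDir hab hk2).map (outHom (minusQ k a b))) = 2 := by omega
    exact exists_hom_of_equiv _ _ ((MulEquiv.subgroupCongr hmap).trans
      (mulEquivOfPrimeCardEq (p := 2) h22 (by rw [Nat.card_eq_fintype_card]; rfl)))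

end CfsgLib.AutPOm
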