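import Cfsg.Agent.AutPOm.Split
import Cfsg.Agent.AutPOm.Counts
import Cfsg.Agent.Quad.SmallIso
import Mathlib.RingTheory.AdjoinRoot

/-!
The class-preserving similarities of the minus form, read over a quadratic extension.
-/

set_option autoImplicit false
set_option linter.style.haveILetI false

namespace CfsgLib.AutPOm

open QuadraticMap CfsgLib.Forms CfsgLib.Quad Matrix

section root

variable {F : Type*} [Field F]

/-- The totally singular subspace given by a root of the binary part. -/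
def rootHalf (k : ℕ) (θ : F) : Submodule F ((Fin k ⊕ Fin k) ⊕ Fin 2 → F) :=
  LinearMap.ker ((LinearMap.funLeft F F (Sum.inl ∘ Sum.inr)).prod
    (LinearMap.proj (Sum.inr 0) - θ • LinearMap.proj (Sum.inr 1)) :
      ((Fin k ⊕ Fin k) ⊕ Fin 2 → F) →ₗ[F] (Fin k → F) × F)

theorem hypSpace_minus_of_root [Finite F] {k : ℕ} (hk : 2 ≤ k) {a b θ : F}
    (hθ : θ ^ 2 + a * θ + b = 0) (hd : (polarBilin (minusQ (F := F) k a b)).Nondegenerate) :
    HypSpace (minusQ k a b) (k + 1) (rootHalf k θ) := by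
  refine ⟨hd, by simp [Module.finrank_fintype_fun_eq_card]; ring, by omega, fun x hx => ?_, ?_⟩
  · have h : (∀ i, x (.inl (.inr i)) = 0) ∧ x (.inr 0) = θ * x (.inr 1) := by
      simpa [rootHalf, Prod.ext_iff, funext_iff, LinearMap.funLeft_apply, sub_eq_zero] using hx
    simp only [minusQ_coe, Cfsg.quadFormMinus, h.1, mul_zero, Finset.sum_const_zero, zero_add, h.2]
    linear_combination x (.inr 1) ^ 2 * hθ
  · set φ := ((LinearMap.funLeft F F (Sum.inl ∘ Sum.inr)).prod
      (LinearMap.proj (Sum.inr 0) - θ • LinearMap.proj (Sum.inr 1)) :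
        ((Fin k ⊕ Fin k) ⊕ Fin 2 → F) →ₗ[F] (Fin k → F) × F)
    have h1 := φ.finrank_range_add_finrank_ker
    rw [LinearMap.range_eq_top.mpr ?_, finrank_top, Module.finrank_prod, Module.finrank_self,
      Module.finrank_fintype_fun_eq_card, Module.finrank_fintype_fun_eq_card] at h1
    · simp only [Fintype.card_sum, Fintype.card_fin] at h1
      change Module.finrank F (LinearMap.ker φ) = k + 1
      omega
    · rintro ⟨g, y⟩
      refine ⟨Sum.elim (Sum.elim 0 g) ![y, 0], ?_⟩
      simp [φ, Prod.ext_iff, funext_iff, LinearMap.funLeft_apply]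

/-- The extended minus form is non-degenerate. -/
theorem nondeg_ext [Finite F] {K : Type*} [Field K] [Finite K] (f : F →+* K) {k : ℕ} {a b : F}
    (hab : ∀ z₁ z₂ : F, z₁ ^ 2 + a * z₁ * z₂ + b * z₂ ^ 2 = 0 → z₁ = 0 ∧ z₂ = 0) :
    (polarBilin (minusQ (F := K) k (f a) (f b))).Nondegenerate := by
  have hs := isBase_minusQ f k a b
  set G := LinearMap.toMatrix₂' F (polarBilin (minusQ k a b))
  have hG : G.det ≠ 0 := by
    rw [← Matrix.nondegenerate_iff_det_ne_zero]
    exact LinearMap.nondegenerate_toMatrix₂'_iff.mpr (minusQ_nondeg hab k)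
  rw [← LinearMap.nondegenerate_toMatrix₂'_iff, Matrix.nondegenerate_iff_det_ne_zero]
  have hmap : LinearMap.toMatrix₂' K (polarBilin (minusQ (F := K) k (f a) (f b))) = G.map f := by
    ext i j
    rw [LinearMap.toMatrix₂'_apply, Matrix.map_apply]
    simp only [G, LinearMap.toMatrix₂'_apply]
    simp only [polarBilin_apply_apply]
    rw [← extVec_single f, ← extVec_single f, hs.polar]
  rw [hmap]
  exact fun e => hG (f.injective ((f.map_det G).trans (e.trans (map_zero f).symm)))

end root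

section character

variable {F K : Type*} [Field F] [Field K] [Finite F] {ι : Type} [Fintype ι] [DecidableEq ι]
  {Q : QuadraticForm F (ι → F)} {Qe : QuadraticForm K (ι → K)} {f : F →+* K} {n : ℕ}
  {U : Submodule K (ι → K)}

/-- The class character of the extended space. -/
noncomputable def extCls (hb : IsBase f Q Qe) (he : HypSpace Qe n U) : ↥(simGroup Q) →* ℤˣ :=
  he.cls.comp hb.extHom

omit [Finite F] in
theorem extCls_scalar (hb : IsBase f Q Qe) (he : HypSpace Qe n U) (u : Fˣ) :
    extCls hb he ⟨scalarHom Q u, mem_simGroup.mpr rfl⟩ = 1 := by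
  rw [extCls, MonoidHom.comp_apply, hb.extHom_scalar, he.cls_scalar]

omit [Finite F] in
theorem extCls_refl [Finite K] (hb : IsBase f Q Qe) (he : HypSpace Qe n U) {v : ι → F} (hv : Q v ≠ 0) :
    extCls hb he ⟨isoHom Q (refl Q v), mem_simGroup.mpr rfl⟩ = -1 := by
  have h := transport_extHom_refl (Q := Qe) hb (LinearEquiv.refl K _) 1
    (fun u => by rw [Units.val_one, one_mul]; rfl) hv
  have hid : ∀ S : Semi Qe, transport (Q := Qe) (LinearEquiv.refl K _) 1
      (fun u => by rw [Units.val_one, one_mul]; rfl) S = S := fun S =>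
    Semi.ext' rfl (fun _ => rfl) (by rw [transport_c, map_one, inv_one, mul_one, mul_one])
  rw [hid] at h
  rw [extCls, MonoidHom.comp_apply, h, LinearEquiv.refl_apply]
  exact he.cls_refl (by rw [hb]; exact fun e => hv (f.injective (e.trans (map_zero f).symm)))

omit [Finite F] in
theorem extCls_det [Finite K] (hb : IsBase f Q Qe) (he : HypSpace Qe n U)
    (hsq : ∀ x : F, IsSquare (f x)) (hι : Fintype.card ι = 2 * n) (L : ↥(simGroup Q)) :
    (L.1.mat : Matrix ι ι F).det = ((extCls hb he L : ℤ) : F) * (L.1.c : F) ^ n := by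
  obtain ⟨hσ, hm, hc⟩ := hb.extHom_spec L
  obtain ⟨s, hs⟩ := hsq (L.1.c : F)
  have hs0 : s ≠ 0 := fun e => (hb.extHom L).c.ne_zero (by rw [hc, hs, e, mul_zero])
  obtain ⟨g, hg⟩ := Semi.eq_iso (S := (scalarHom Qe (Units.mk0 s hs0))⁻¹ * hb.extHom L)
    (RingEquiv.ext fun z => by
      change (RingEquiv.refl K).symm ((hb.extHom L).σ z) = z
      rw [mem_simGroup.mp hσ]; rfl)
    (Units.ext (by
      rw [← map_inv, Semi.mul_c, hc, hs]
      change ((Units.mk0 s hs0)⁻¹ : Kˣ) * ((Units.mk0 s hs0)⁻¹ : Kˣ) * (s * s) = (1 : K)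
      rw [Units.val_inv_eq_inv_val, Units.val_mk0]
      field_simp))
  have hL : hb.extHom L = scalarHom Qe (Units.mk0 s hs0) * isoHom Qe g := by
    rw [← hg, mul_inv_cancel_left]
  apply f.injective
  rw [map_mul, map_pow, map_intCast, ← hb.extHom_det, hs, extCls, MonoidHom.comp_apply, hL, map_mul,
    he.cls_scalar, one_mul, Semi.det_mul, det_mat_scalarHom, det_mat_isoHom, he.cls_iso_det g, hι]
  change s ^ (2 * n) * ((he.cls (isoHom Qe g) : ℤ) : K) = _
  rw [← pow_two s, ← pow_mul]
  ring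

/-- Any two extensions give the same character. -/
theorem extCls_unique {K' : Type*} [Field K'] [Finite K] [Finite K'] {f' : F →+* K'}
    {Qe' : QuadraticForm K' (ι → K')} {U' : Submodule K' (ι → K')}
    (hQ : (polarBilin Q).Nondegenerate)
    (hb : IsBase f Q Qe) (he : HypSpace Qe n U) (hsq : ∀ x : F, IsSquare (f x))
    (hb' : IsBase f' Q Qe') (he' : HypSpace Qe' n U') (hsq' : ∀ x : F, IsSquare (f' x))
    (hι : Fintype.card ι = 2 * n) : extCls hb he = extCls hb' he' := by
  refine MonoidHom.ext fun L => ?_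
  by_cases h2 : (2 : F) = 0
  · haveI : CharP F 2 := CharTwo.of_one_ne_zero_of_two_eq_zero one_ne_zero h2
    obtain ⟨t, ht⟩ := isSquare_char_two (L.1.c : F)
    have ht0 : t ≠ 0 := fun e => L.1.c.ne_zero (by rw [ht, e, mul_zero])
    obtain ⟨g, hg⟩ := Semi.eq_iso (S := (scalarHom Q (Units.mk0 t ht0))⁻¹ * L.1)
      (RingEquiv.ext fun z => by
        change (RingEquiv.refl F).symm (L.1.σ z) = z
        rw [mem_simGroup.mp L.2]; rfl)
      (Units.ext (by
        rw [← map_inv, Semi.mul_c]
        change ((Units.mk0 t ht0)⁻¹ : Fˣ) * ((Units.mk0 t ht0)⁻¹ : Fˣ) * (L.1.c : F) = (1 : F)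
        rw [ht, Units.val_inv_eq_inv_val, Units.val_mk0]
        field_simp))
    have hL : L = ⟨scalarHom Q (Units.mk0 t ht0), mem_simGroup.mpr rfl⟩ *
        (isoHom Q).codRestrict (simGroup Q) (fun _ => mem_simGroup.mpr rfl) g :=
      Subtype.ext (by
        change L.1 = scalarHom Q _ * isoHom Q g
        rw [← hg, mul_inv_cancel_left])
    rw [hL, map_mul, map_mul, extCls_scalar, extCls_scalar, one_mul, one_mul]
    have hgr : g ∈ reflGroup Q := by
      rw [reflGroup_eq_top hQ (Or.inr (by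
        rw [Module.finrank_fintype_fun_eq_card, hι]; have := he.ne_two; omega))]
      trivial
    refine (?_ : reflGroup Q ≤ MonoidHom.eqLocus ((extCls hb he).comp ((isoHom Q).codRestrict
      (simGroup Q) fun _ => mem_simGroup.mpr rfl)) ((extCls hb' he').comp ((isoHom Q).codRestrict
      (simGroup Q) fun _ => mem_simGroup.mpr rfl))) hgr
    refine (Subgroup.closure_le _).mpr ?_
    rintro _ ⟨v, rfl⟩
    by_cases hv : Q v = 0
    · rw [refl_eq_one hv, SetLike.mem_coe]
      exact one_mem _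
    · change extCls hb he ⟨_, _⟩ = extCls hb' he' ⟨_, _⟩
      rw [extCls_refl hb he hv, extCls_refl hb' he' hv]
  · have h1 := extCls_det hb he hsq hι L
    rw [extCls_det hb' he' hsq' hι L] at h1
    have h3 := mul_right_cancel₀ (pow_ne_zero _ L.1.c.ne_zero) h1
    rcases Int.units_eq_one_or (extCls hb he L) with e | e <;>
      rcases Int.units_eq_one_or (extCls hb' he' L) with e' | e' <;> rw [e, e'] at h3 ⊢
    · exfalso; apply h2; simp at h3; linear_combination -h3
    · exfalso; apply h2; simp at h3; linear_combination h3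

end character

section definition

universe u

variable {F : Type u} [Field F] [Finite F] {k : ℕ} {a b : F}
  (hab : ∀ z₁ z₂ : F, z₁ ^ 2 + a * z₁ * z₂ + b * z₂ ^ 2 = 0 → z₁ = 0 ∧ z₂ = 0)
include hab

omit [Finite F] in
/-- A root of the binary part in a quadratic extension, and squares. -/
theorem quad_ext_facts [Finite F] {K : Type*} [Field K] [Finite K] [Algebra F K]
    (hK : Module.finrank F K = 2) :
    (∃ θ : K, θ ^ 2 + algebraMap F K a * θ + algebraMap F K b = 0) ∧
      ∀ x : F, IsSquare (algebraMap F K x) := by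
  have hcard : Nat.card K = Nat.card F ^ 2 := by rw [Module.natCard_eq_pow_finrank (K := F), hK]
  refine ⟨?_, fun x => ?_⟩
  · obtain ⟨θ, hθ, -⟩ := exists_quad_root hcard hab
    exact ⟨-θ, by linear_combination hθ⟩
  · by_cases hx : IsSquare x
    · exact hx.map (algebraMap F K)
    obtain ⟨θ, hθ, -⟩ := exists_quad_root (a := (0 : F)) (b := -x) hcard (fun z₁ z₂ h => by
      by_cases hz : z₂ = 0
      · subst hz; simpa using h
      · exact absurd ⟨z₁ / z₂, by field_simp; linear_combination -h⟩ hx)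
    refine ⟨θ, ?_⟩
    simp only [map_zero, map_neg] at hθ
    linear_combination -hθ

/-- The class character of the minus form. -/
theorem exists_minusSign (hk : 2 ≤ k) : ∃ χ : ↥(simGroup (minusQ k a b)) →* ℤˣ,
    (∀ L : ↥(simGroup (minusQ k a b)),
      Cfsg.PreservesSingularClassesMinus k a b (L.1.mat : Matrix ((Fin k ⊕ Fin k) ⊕ Fin 2) ((Fin k ⊕ Fin k) ⊕ Fin 2) F) ↔ χ L = 1) ∧
    (∀ u, χ ⟨scalarHom _ u, mem_simGroup.mpr rfl⟩ = 1) ∧
    (∀ v, minusQ k a b v ≠ 0 → χ ⟨isoHom _ (refl _ v), mem_simGroup.mpr rfl⟩ = -1) ∧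
    (∀ L : ↥(simGroup (minusQ k a b)), (L.1.mat : Matrix ((Fin k ⊕ Fin k) ⊕ Fin 2) ((Fin k ⊕ Fin k) ⊕ Fin 2) F).det =
      ((χ L : ℤ) : F) * (L.1.c : F) ^ (k + 1)) ∧
    ∀ (K : Type u) [Field K] [Finite K] (f : F →+* K) (θ : K) (hθ : θ ^ 2 + f a * θ + f b = 0),
      (∀ x : F, IsSquare (f x)) → ∀ he : HypSpace (minusQ (F := K) k (f a) (f b)) (k + 1) (rootHalf k θ),
        χ = extCls (isBase_minusQ f k a b) he := by
  set p : Polynomial F := Polynomial.X ^ 2 + Polynomial.C a * Polynomial.X + Polynomial.C b with hp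
  have hdeg : p.natDegree = 2 := by rw [hp]; compute_degree!
  haveI hirr : Fact (Irreducible p) := ⟨(Polynomial.irreducible_iff_roots_eq_zero_of_degree_le_three
    (by omega) (by omega)).mpr (Multiset.eq_zero_of_forall_notMem fun x hx => by
      have h := (Polynomial.mem_roots'.mp hx).2
      simp [hp] at h
      exact one_ne_zero (hab x 1 (by linear_combination h)).2)⟩
  have hp0 : p ≠ 0 := hirr.out.ne_zero
  haveI : Module.Finite F (AdjoinRoot p) := (AdjoinRoot.powerBasis hp0).finite
  haveI : Finite (AdjoinRoot p) := Module.finite_of_finite F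
  have hfr : Module.finrank F (AdjoinRoot p) = 2 := by
    rw [(AdjoinRoot.powerBasis hp0).finrank, AdjoinRoot.powerBasis_dim, hdeg]
  have hι : Fintype.card ((Fin k ⊕ Fin k) ⊕ Fin 2) = 2 * (k + 1) := by simp; ring
  have key : ∀ (K : Type u) [Field K] [Finite K] [Algebra F K], Module.finrank F K = 2 →
      ∃ (θ : K) (he : HypSpace (minusQ (F := K) k (algebraMap F K a) (algebraMap F K b)) (k + 1)
        (rootHalf k θ)), ∀ x : F, IsSquare (algebraMap F K x) := by
    intro K _ _ _ hK
    obtain ⟨⟨θ, hθ⟩, hsq⟩ := quad_ext_facts hab hK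
    exact ⟨θ, hypSpace_minus_of_root hk hθ (nondeg_ext _ hab), hsq⟩
  obtain ⟨θ₀, he₀, hsq₀⟩ := key (AdjoinRoot p) hfr
  refine ⟨extCls (isBase_minusQ _ k a b) he₀, fun L => ?_, extCls_scalar _ _,
    fun v hv => extCls_refl _ _ hv, extCls_det _ _ hsq₀ hι, fun K _ _ f θ hθ hsq he =>
      extCls_unique (minusQ_nondeg hab k) _ _ hsq₀ _ _ hsq hι⟩
  have hiff : ∀ (K : Type u) [Field K] [Algebra F K] [Finite K] (θ : K)
      (he : HypSpace (minusQ (F := K) k (algebraMap F K a) (algebraMap F K b)) (k + 1) (rootHalf k θ))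
      (_ : ∀ x : F, IsSquare (algebraMap F K x)),
      Cfsg.PreservesSingularClasses (Cfsg.quadFormMinus k K (algebraMap F K a) (algebraMap F K b))
        ((L.1.mat : Matrix ((Fin k ⊕ Fin k) ⊕ Fin 2) ((Fin k ⊕ Fin k) ⊕ Fin 2) F).map (algebraMap F K)) ↔
        extCls (isBase_minusQ (algebraMap F (AdjoinRoot p)) k a b) he₀ L = 1 := by
    intro K _ _ _ θ he hsq
    rw [← minusQ_coe, extCls_unique (minusQ_nondeg hab k) (isBase_minusQ (algebraMap F (AdjoinRoot p)) k a b)
      he₀ hsq₀ (isBase_minusQ (algebraMap F K) k a b) he hsq hι]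
    obtain ⟨h1, h2, -⟩ := (isBase_minusQ (algebraMap F K) k a b).extHom_spec L
    exact he.preserves_iff fun v => by
      rw [Semi.T_eq_mulVec_of_refl (mem_simGroup.mp h1), h2]
  constructor
  · rintro ⟨K, hfield, halg, hK, hpres⟩
    letI := hfield
    letI := halg
    haveI : Module.Finite F K := Module.finite_of_finrank_eq_succ hK
    haveI : Finite K := Module.finite_of_finite F
    obtain ⟨θ, he, hsq⟩ := key K hK
    exact (hiff K θ he hsq).mp hpres
  · intro h
    exact ⟨AdjoinRoot p, inferInstance, inferInstance, hfr, (hiff _ θ₀ he₀ hsq₀).mpr h⟩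

end definition

end CfsgLib.AutPOm
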