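import Cfsg.Agent.AutPOm.BaseChange
import Cfsg.Agent.AutPSL.FieldClasses

/-!
Semilinear similarities of finite order as transported coordinatewise maps.
-/

set_option autoImplicit false
set_option linter.style.haveILetI false

namespace CfsgLib.AutPOm

open QuadraticMap CfsgLib.Forms CfsgLib.Quad Matrix

section transport

variable {F V W : Type*} [Field F] [AddCommGroup V] [Module F V] [AddCommGroup W] [Module F W]
  {P : QuadraticForm F V} {Q : QuadraticForm F W}

/-- Transport of semisimilarities along a similitude of spaces. -/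
def transportFun (J : V ≃ₗ[F] W) (w : Fˣ) (hJ : ∀ u, Q (J u) = (w : F) * P u) (S : Semi P) :
    Semi Q where
  σ := S.σ
  T := (J.symm.toAddEquiv.trans S.T).trans J.toAddEquiv
  c := S.c * w * (Units.map S.σ.toMonoidHom w)⁻¹
  smul a v := by
    change J (S.T (J.symm (a • v))) = S.σ a • J (S.T (J.symm v))
    rw [map_smul, S.smul, map_smul]
  quad v := by
    change Q (J (S.T (J.symm v))) = _
    rw [hJ, S.quad]
    conv_rhs => rw [← J.apply_symm_apply v, hJ, map_mul]
    rw [Units.val_mul, Units.val_mul, Units.val_inv_eq_inv_val]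
    change _ = (S.c : F) * (w : F) * (S.σ (w : F))⁻¹ * (S.σ (w : F) * S.σ (P (J.symm v)))
    have : S.σ (w : F) ≠ 0 := fun e => w.ne_zero (S.σ.injective (e.trans (map_zero _).symm))
    field_simp

theorem symm_hJ {J : V ≃ₗ[F] W} {w : Fˣ} (hJ : ∀ u, Q (J u) = (w : F) * P u) (v : W) :
    P (J.symm v) = ((w⁻¹ : Fˣ) : F) * Q v := by
  conv_rhs => rw [← J.apply_symm_apply v, hJ, ← mul_assoc, Units.inv_mul, one_mul]

/-- Transport as an isomorphism of semisimilarity groups. -/
def transport (J : V ≃ₗ[F] W) (w : Fˣ) (hJ : ∀ u, Q (J u) = (w : F) * P u) : Semi P ≃* Semi Q where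
  toFun := transportFun J w hJ
  invFun := transportFun J.symm w⁻¹ (symm_hJ hJ)
  left_inv S := Semi.ext' rfl (fun v => by
    change J.symm (J (S.T (J.symm (J v)))) = S.T v
    simp) (by
    change S.c * w * (Units.map S.σ.toMonoidHom w)⁻¹ * w⁻¹ * (Units.map S.σ.toMonoidHom w⁻¹)⁻¹ = S.c
    rw [map_inv, inv_inv, mul_right_comm (S.c * w), mul_inv_cancel_right, inv_mul_cancel_right])
  right_inv S := Semi.ext' rfl (fun v => by
    change J (J.symm (S.T (J (J.symm v)))) = S.T v
    simp) (by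
    change S.c * w⁻¹ * (Units.map S.σ.toMonoidHom w⁻¹)⁻¹ * w * (Units.map S.σ.toMonoidHom w)⁻¹ = S.c
    rw [map_inv, inv_inv, mul_right_comm (S.c * w⁻¹), inv_mul_cancel_right, mul_inv_cancel_right])
  map_mul' S S' := Semi.ext' rfl (fun v => by
    change J (S.T (S'.T (J.symm v))) = J (S.T (J.symm (J (S'.T (J.symm v)))))
    simp) (by
    refine Units.ext ?_
    rw [Semi.mul_c]
    change ((S * S').c : F) * (w : F) * ((Units.map (S * S').σ.toMonoidHom w)⁻¹ : Fˣ) =
      ((S.c * w * (Units.map S.σ.toMonoidHom w)⁻¹ : Fˣ) : F) *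
        S.σ ((S'.c * w * (Units.map S'.σ.toMonoidHom w)⁻¹ : Fˣ) : F)
    rw [Semi.mul_c]
    simp only [Units.val_mul, Units.val_inv_eq_inv_val, map_mul, map_inv₀]
    change (S.c : F) * S.σ (S'.c : F) * (w : F) * (S.σ (S'.σ (w : F)))⁻¹ =
      (S.c : F) * (w : F) * (S.σ (w : F))⁻¹ * (S.σ (S'.c : F) * S.σ (w : F) * (S.σ (S'.σ (w : F)))⁻¹)
    have : S.σ (w : F) ≠ 0 := fun e => w.ne_zero (S.σ.injective (e.trans (map_zero _).symm))
    field_simp)

theorem transport_T (J : V ≃ₗ[F] W) (w : Fˣ) (hJ : ∀ u, Q (J u) = (w : F) * P u) (S : Semi P)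
    (v : W) : (transport J w hJ S).T v = J (S.T (J.symm v)) := rfl

theorem transport_σ (J : V ≃ₗ[F] W) (w : Fˣ) (hJ : ∀ u, Q (J u) = (w : F) * P u) (S : Semi P) :
    (transport J w hJ S).σ = S.σ := rfl

theorem transport_c (J : V ≃ₗ[F] W) (w : Fˣ) (hJ : ∀ u, Q (J u) = (w : F) * P u) (S : Semi P) :
    (transport J w hJ S).c = S.c * w * (Units.map S.σ.toMonoidHom w)⁻¹ := rfl

/-- The similarity between two transports of the same space. -/
def twoModels (J J' : V ≃ₗ[F] W) (w w' : Fˣ) (hJ : ∀ u, Q (J u) = (w : F) * P u)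
    (hJ' : ∀ u, Q (J' u) = (w' : F) * P u) : Semi Q where
  σ := RingEquiv.refl F
  T := J.symm.toAddEquiv.trans J'.toAddEquiv
  c := w' * w⁻¹
  smul a v := by
    change J' (J.symm (a • v)) = a • J' (J.symm v)
    rw [map_smul, map_smul]
  quad v := by
    change Q (J' (J.symm v)) = _
    rw [hJ', symm_hJ hJ, ← mul_assoc, Units.val_mul]
    rfl

theorem twoModels_conj (J J' : V ≃ₗ[F] W) (w w' : Fˣ) (hJ : ∀ u, Q (J u) = (w : F) * P u)
    (hJ' : ∀ u, Q (J' u) = (w' : F) * P u) (S : Semi P) :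
    transport J' w' hJ' S * twoModels J J' w w' hJ hJ' =
      twoModels J J' w w' hJ hJ' * transport J w hJ S :=
  Semi.ext' (RingEquiv.ext fun _ => rfl) (fun v => by
    change J' (S.T (J'.symm (J' (J.symm v)))) = J' (J.symm (J (S.T (J.symm v))))
    simp) (Units.ext (by
    rw [Semi.mul_c, Semi.mul_c]
    change ((S.c * w' * (Units.map S.σ.toMonoidHom w')⁻¹ : Fˣ) : F) * S.σ ((w' * w⁻¹ : Fˣ) : F) =
      ((w' * w⁻¹ : Fˣ) : F) * ((S.c * w * (Units.map S.σ.toMonoidHom w)⁻¹ : Fˣ) : F)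
    simp only [Units.val_mul, Units.val_inv_eq_inv_val, map_mul, map_inv₀]
    change (S.c : F) * (w' : F) * (S.σ (w' : F))⁻¹ * (S.σ (w' : F) * (S.σ (w : F))⁻¹) =
      (w' : F) * (w : F)⁻¹ * ((S.c : F) * (w : F) * (S.σ (w : F))⁻¹)
    have h1 : S.σ (w' : F) ≠ 0 := fun e => w'.ne_zero (S.σ.injective (e.trans (map_zero _).symm))
    have h2 : (w : F) ≠ 0 := w.ne_zero
    field_simp))

end transport

section matrices

variable {F : Type*} [Field F] {ι κ : Type} [Fintype ι] [DecidableEq ι] [Fintype κ] [DecidableEq κ]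
  {P : QuadraticForm F (κ → F)} {Q : QuadraticForm F (ι → F)}

theorem det_mat_eq {S : Semi Q} (hσ : S.σ = RingEquiv.refl F) (L : (ι → F) →ₗ[F] ι → F)
    (hL : ∀ v, L v = S.T v) : (S.mat : Matrix ι ι F).det = LinearMap.det L := by
  rw [← LinearMap.det_toMatrix']
  congr 1
  refine Matrix.toLin'.injective (LinearMap.ext fun v => ?_)
  rw [Matrix.toLin'_apply, Matrix.toLin'_toMatrix', hL, S.T_eq_mulVec_of_refl hσ]

theorem det_transport (J : (κ → F) ≃ₗ[F] (ι → F)) (w : Fˣ) (hJ : ∀ u, Q (J u) = (w : F) * P u)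
    {S : Semi P} (hσ : S.σ = RingEquiv.refl F) :
    ((transport J w hJ S).mat : Matrix ι ι F).det = (S.mat : Matrix κ κ F).det := by
  rw [det_mat_eq (by rw [transport_σ, hσ]) (J.toLinearMap ∘ₗ Matrix.toLin' (S.mat : Matrix κ κ F) ∘ₗ
      J.symm.toLinearMap) (fun v => ?_), LinearMap.det_conj, LinearMap.det_toLin']
  rw [transport_T, S.T_eq_mulVec_of_refl hσ]
  rfl

theorem mem_simGroup_transport (J : (κ → F) ≃ₗ[F] (ι → F)) (w : Fˣ)
    (hJ : ∀ u, Q (J u) = (w : F) * P u) (S : Semi P) :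
    transport J w hJ S ∈ simGroup Q ↔ S ∈ simGroup P := by
  rw [mem_simGroup, mem_simGroup]
  rfl

theorem Semi.ext_mat {S S' : Semi Q} (hσ : S.σ = S'.σ) (hm : S.mat = S'.mat) (hc : S.c = S'.c) :
    S = S' :=
  Semi.ext' hσ (fun v => by rw [S.T_eq_mulVec, S'.T_eq_mulVec, hm, hσ]) hc

end matrices

section descent

variable {K F : Type*} [Field K] [Field F] {f : K →+* F} {ι : Type} [Fintype ι] [DecidableEq ι]
  {Q0 : QuadraticForm K (ι → K)} {Qe : QuadraticForm F (ι → F)}

/-- Extension of similarities. -/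
noncomputable def IsBase.extHom (hb : IsBase f Q0 Qe) : ↥(simGroup Q0) →* Semi Qe where
  toFun L := Classical.choose (hb.exists_ext L.2)
  map_one' := by
    obtain ⟨hσ, hm, hc⟩ := Classical.choose_spec (hb.exists_ext (1 : ↥(simGroup Q0)).2)
    refine Semi.ext_mat (mem_simGroup.mp hσ) (Units.ext ?_) (Units.ext ?_)
    · have h1 : ((1 : Semi Q0).mat : Matrix ι ι K) = 1 := by
        rw [Semi.mat_eq (g := 1) fun v => by rw [Units.val_one, Matrix.one_mulVec]; rfl, Units.val_one]
      rw [hm, OneMemClass.coe_one, h1, Semi.mat_eq (S := (1 : Semi Qe)) (g := 1) fun v => by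
        rw [Units.val_one, Matrix.one_mulVec]; rfl, Units.val_one]
      exact Matrix.map_one f (map_zero f) (map_one f)
    · rw [hc]
      change f 1 = 1
      exact map_one f
  map_mul' L L' := by
    obtain ⟨hσ, hm, hc⟩ := Classical.choose_spec (hb.exists_ext (L * L').2)
    obtain ⟨hσ1, hm1, hc1⟩ := Classical.choose_spec (hb.exists_ext L.2)
    obtain ⟨hσ2, hm2, hc2⟩ := Classical.choose_spec (hb.exists_ext L'.2)
    refine Semi.ext_mat ?_ (Units.ext ?_) (Units.ext ?_)
    · rw [mem_simGroup.mp hσ]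
      exact (mem_simGroup.mp (mul_mem hσ1 hσ2)).symm
    · rw [hm, Semi.mat_mul, hm1, hm2, mem_simGroup.mp hσ1, Subgroup.coe_mul, Semi.mat_mul,
        mem_simGroup.mp L.2]
      exact Matrix.map_mul
    · rw [hc, Semi.mul_c, hc1, hc2, mem_simGroup.mp hσ1, Subgroup.coe_mul, Semi.mul_c,
        mem_simGroup.mp L.2, RingEquiv.refl_apply, RingEquiv.refl_apply, map_mul]

theorem IsBase.extHom_spec (hb : IsBase f Q0 Qe) (L : ↥(simGroup Q0)) :
    hb.extHom L ∈ simGroup Qe ∧ ((hb.extHom L).mat : Matrix ι ι F) = (L.1.mat : Matrix ι ι K).map f ∧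
      ((hb.extHom L).c : F) = f L.1.c :=
  Classical.choose_spec (hb.exists_ext L.2)

theorem IsBase.extHom_T (hb : IsBase f Q0 Qe) (L : ↥(simGroup Q0)) (z : ι → K) :
    (hb.extHom L).T (extVec f z) = extVec f (L.1.T z) := by
  rw [Semi.T_eq_mulVec_of_refl (mem_simGroup.mp (hb.extHom_spec L).1), (hb.extHom_spec L).2.1,
    map_mulVec_ext, ← Semi.T_eq_mulVec_of_refl (mem_simGroup.mp L.2)]

theorem IsBase.extHom_det (hb : IsBase f Q0 Qe) (L : ↥(simGroup Q0)) :
    ((hb.extHom L).mat : Matrix ι ι F).det = f (L.1.mat : Matrix ι ι K).det := by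
  rw [(hb.extHom_spec L).2.1]
  exact (f.map_det _).symm

theorem IsBase.extHom_img (hb : IsBase f Q0 Qe) (L : ↥(simGroup Q0)) (U : Submodule K (ι → K)) :
    (hb.extHom L).img (extSub f U) = extSub f (L.1.img U) := by
  refine Submodule.eq_of_le_of_finrank_eq ?_ (by
    rw [Semi.finrank_img, finrank_extSub, finrank_extSub, Semi.finrank_img])
  rintro _ ⟨x, hx, rfl⟩
  induction hx using Submodule.span_induction with
  | mem x hx =>
    obtain ⟨z, hz, rfl⟩ := hx
    rw [hb.extHom_T]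
    exact extVec_mem ⟨z, hz, rfl⟩
  | zero => rw [map_zero]; exact Submodule.zero_mem _
  | add x y _ _ hx hy => rw [map_add]; exact Submodule.add_mem _ hx hy
  | smul a x _ hx =>
    rw [Semi.smul, mem_simGroup.mp (hb.extHom_spec L).1]
    exact Submodule.smul_mem _ _ hx

theorem IsBase.cls_extHom (hb : IsBase f Q0 Qe) {n : ℕ} {U : Submodule K (ι → K)}
    (h0 : HypSpace Q0 n U) (he : HypSpace Qe n (extSub f U)) (L : ↥(simGroup Q0)) :
    he.cls (hb.extHom L) = h0.cls L.1 := by
  rw [HypSpace.cls_apply, HypSpace.cls_apply, hb.extHom_img, defect_extSub]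

theorem IsBase.extHom_injective (hb : IsBase f Q0 Qe) : Function.Injective hb.extHom := by
  intro L L' h
  refine Subtype.ext (Semi.ext_mat ((mem_simGroup.mp L.2).trans (mem_simGroup.mp L'.2).symm)
    (Units.ext ?_) (Units.ext (f.injective ?_)))
  · refine Matrix.map_injective f.injective ?_
    change (L.1.mat : Matrix ι ι K).map f = (L'.1.mat : Matrix ι ι K).map f
    rw [← (hb.extHom_spec L).2.1, ← (hb.extHom_spec L').2.1, h]
  · rw [← (hb.extHom_spec L).2.2, ← (hb.extHom_spec L').2.2, h]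

/-- The coordinatewise semisimilarity. -/
noncomputable def IsBase.coordT (hb : IsBase f Q0 Qe) (σ : F ≃+* F) (hσ : ∀ x, σ (f x) = f x) : Semi Qe :=
  coordSemi σ (hb.coord hσ)

/-- The commutant of the coordinatewise map is the extended group. -/
theorem IsBase.exists_of_commute (hb : IsBase f Q0 Qe) {σ : F ≃+* F} (hσ : ∀ x, σ (f x) = f x)
    (hfix : ∀ y, σ y = y → ∃ x, f x = y) {S : Semi Qe} (hS : S ∈ simGroup Qe)
    (hcomm : hb.coordT σ hσ * S = S * hb.coordT σ hσ) : ∃ L, hb.extHom L = S := by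
  have hSσ := mem_simGroup.mp hS
  have hentry : ∀ i j, ∃ x, f x = (S.mat : Matrix ι ι F) i j := fun i j => by
    refine hfix _ ?_
    have h := congrArg (fun T : Semi Qe => T.T (Pi.single j 1) i) hcomm
    simp only [Semi.mul_T] at h
    change σ (S.T (Pi.single j 1) i) = S.T (fun k => σ ((Pi.single j (1 : F) : ι → F) k)) i at h
    rw [show (fun k => σ ((Pi.single j (1 : F) : ι → F) k)) = Pi.single j 1 from funext fun k => by
      rcases eq_or_ne k j with rfl | hk <;> simp [*], S.T_eq_mulVec_of_refl hSσ,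
      Matrix.mulVec_single_one] at h
    exact h
  have hc : ∃ x, f x = (S.c : F) := by
    refine hfix _ ?_
    have h := congrArg (fun T : Semi Qe => (T.c : F)) hcomm
    simp only [Semi.mul_c] at h
    change (1 : F) * σ (S.c : F) = (S.c : F) * S.σ 1 at h
    rwa [one_mul, map_one, mul_one] at h
  choose M hM using hentry
  obtain ⟨c, hc⟩ := hc
  have hmap : (Matrix.of M).map f = (S.mat : Matrix ι ι F) := by
    ext i j
    exact hM i j
  have hdet : (Matrix.of M).det ≠ 0 := fun e => S.det_ne_zero (by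
    rw [← hmap]
    exact ((f.map_det _).symm.trans (congrArg f e)).trans (map_zero f))
  have hc0 : c ≠ 0 := fun e => S.c.ne_zero (by rw [← hc, e, map_zero])
  obtain ⟨L, hLσ, hLmat⟩ := exists_semi_of_mem (Q := Q0)
    (g := Matrix.GeneralLinearGroup.mkOfDetNeZero (Matrix.of M) hdet) ⟨Units.mk0 c hc0, fun z => by
      apply f.injective
      rw [← hb, map_mul, Units.val_mk0, hc, ← hb, ← map_mulVec_ext,
        show (Matrix.GeneralLinearGroup.mkOfDetNeZero (Matrix.of M) hdet : Matrix ι ι K).map f = _ from hmap,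
        ← S.T_eq_mulVec_of_refl hSσ, S.quad, hSσ]
      rfl⟩
  let L' : Semi Q0 :=
    { σ := L.σ
      T := L.T
      c := Units.mk0 c hc0
      smul := L.smul
      quad := fun z => by
        apply f.injective
        rw [← hb, map_mul, Units.val_mk0, hc, L.T_eq_mulVec_of_refl hLσ, hLσ, RingEquiv.refl_apply,
          ← hb, ← map_mulVec_ext, hLmat,
          show (Matrix.GeneralLinearGroup.mkOfDetNeZero (Matrix.of M) hdet : Matrix ι ι K).map f = _ from hmap,
          ← S.T_eq_mulVec_of_refl hSσ, S.quad, hSσ]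
        rfl }
  refine ⟨⟨L', mem_simGroup.mpr hLσ⟩, Semi.ext_mat ?_ (Units.ext ?_) (Units.ext ?_)⟩
  · rw [mem_simGroup.mp (hb.extHom_spec _).1, hSσ]
  · rw [(hb.extHom_spec _).2.1, show L'.mat = L.mat from Semi.mat_eq fun v => L.T_eq_mulVec v, hLmat,
      show (Matrix.GeneralLinearGroup.mkOfDetNeZero (Matrix.of M) hdet : Matrix ι ι K).map f = _ from hmap]
  · rw [(hb.extHom_spec _).2.2]
    exact hc

theorem IsBase.commute_coordT (hb : IsBase f Q0 Qe) {σ : F ≃+* F} (hσ : ∀ x, σ (f x) = f x)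
    (L : ↥(simGroup Q0)) : hb.coordT σ hσ * hb.extHom L = hb.extHom L * hb.coordT σ hσ := by
  obtain ⟨h1, h2, h3⟩ := hb.extHom_spec L
  have hr := mem_simGroup.mp h1
  refine Semi.ext' ?_ (fun v => ?_) (Units.ext ?_)
  · change (hb.extHom L).σ.trans σ = σ.trans (hb.extHom L).σ
    rw [hr]
    rfl
  · rw [Semi.mul_T, Semi.mul_T]
    change (fun i => σ ((hb.extHom L).T v i)) = (hb.extHom L).T fun i => σ (v i)
    rw [Semi.T_eq_mulVec_of_refl hr, Semi.T_eq_mulVec_of_refl hr, h2]
    funext i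
    simp only [Matrix.mulVec, dotProduct, map_sum, map_mul, Matrix.map_apply, hσ]
  · rw [Semi.mul_c, Semi.mul_c, h3, hr]
    change (1 : F) * σ (f L.1.c) = f L.1.c * 1
    rw [hσ, one_mul, mul_one]

end descent

end CfsgLib.AutPOm
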