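import Cfsg.Agent.AutPOm.Split
import Cfsg.Agent.AutPOm.Counts
import Cfsg.Agent.AutPOm.Extensions

/-!
Field automorphisms of prime order of the odd-dimensional orthogonal groups.
-/

set_option autoImplicit false
set_option linter.style.haveILetI false

namespace CfsgLib.AutPOm

open QuadraticMap CfsgLib.Forms CfsgLib.Quad Matrix

variable {F : Type*} [Field F] [Finite F]

section pair

variable {ι : Type} [Fintype ι] [DecidableEq ι] {Q : QuadraticForm F (ι → F)}

/-- A pair of reflections is inner exactly for values in one square class, when `-1` has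
determinant `-1`. -/
theorem outHom_pair_odd_iff (hQ : Big Q) (h2 : (2 : F) ≠ 0)
    (hodd : Odd (Module.finrank F (ι → F))) {u v : ι → F} (hu : Q u ≠ 0) (hv : Q v ≠ 0) :
    outHom Q (isoHom Q (refl Q u * refl Q v)) = 1 ↔ IsSquare (Q u * Q v) := by
  rw [outHom_iso_eq_one_iff hQ]
  constructor
  · rintro (h | h)
    · have hn : 2 ≤ Module.finrank F (ι → F) := by have := hQ.dim; omega
      obtain ⟨θ, hθ⟩ := exists_spinor hQ.nd h2 hn
      have h3 := ((mem_commutator_iff hQ.nd h2 hn hθ _).mp h).2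
      rw [map_mul, mul_eq_one_iff_eq_inv, Int.units_inv_eq_self] at h3
      rw [isSquare_mul_iff h2 hu hv, ← hθ u hu, ← hθ v hv, h3]
    · exfalso
      have h1 : detO Q (negIso Q * (refl Q u * refl Q v)) = 1 :=
        MonoidHom.mem_ker.mp (Abelianization.commutator_subset_ker _ h)
      have h3 := congrArg Units.val h1
      rw [map_mul, map_mul, Units.val_mul, Units.val_mul, detO_refl hu, detO_refl hv, detO_val,
        Units.val_one, show (negIso Q).1.toLinearMap = (-1 : F) • LinearMap.id from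
          LinearMap.ext fun x => (neg_one_smul F x).symm, LinearMap.det_smul, hodd.neg_one_pow,
        LinearMap.det_id] at h3
      exact h2 (by linear_combination -h3)
  · exact fun h => Or.inl (refl_pair_mem_commutator hQ.nd hu hv h)

end pair

variable {K : Type*} [Field K] {f : K →+* F} {σ : RingAut F} {r : ℕ}

omit [Finite F] in
theorem isSquare_of_map_of_odd (hf : IsFixed f σ r) (hr : Odd r) (h2 : (2 : F) ≠ 0) {x : K}
    (h : IsSquare (f x)) : IsSquare x := by
  obtain ⟨y, hy⟩ := h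
  by_cases hfy : σ y = y
  · obtain ⟨z, rfl⟩ := hf.surj y hfy
    exact ⟨z, f.injective (by rw [hy, map_mul])⟩
  · exfalso
    have h1 : σ y * σ y = y * y := by rw [← map_mul, ← hy, hf.fix]
    have hσy : σ y = -y := (mul_self_eq_mul_self_iff.mp h1).resolve_left hfy
    have hpow : ∀ k : ℕ, (σ ^ k) y = (-1) ^ k * y := by
      intro k
      induction k with
      | zero => simp
      | succ k ih =>
        rw [pow_succ', RingAut.mul_apply, ih, map_mul, map_pow, map_neg, map_one, hσy, pow_succ]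
        ring
    have h3 := hpow r
    rw [hf.pow_eq, hr.neg_one_pow] at h3
    change y = (-1) * y at h3
    have hy0 : y = 0 :=
      (mul_eq_zero.mp (show (2 : F) * y = 0 by linear_combination h3)).resolve_left h2
    exact hfy (by rw [hy0, map_zero])

theorem isSquare_map_of_even [Finite K] (hf : IsFixed f σ r) (hr : Even r) (x : K) :
    IsSquare (f x) := by
  by_cases hx : IsSquare x
  · exact hx.map f
  have hab : ∀ z₁ z₂ : K, z₁ ^ 2 + 0 * z₁ * z₂ + -x * z₂ ^ 2 = 0 → z₁ = 0 ∧ z₂ = 0 := by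
    intro z₁ z₂ h
    by_cases hz : z₂ = 0
    · subst hz; simpa using h
    · exact absurd ⟨z₁ / z₂, by field_simp; linear_combination -h⟩ hx
  obtain ⟨z₁, z₂, h, hz⟩ := exists_root_of_even hf hr hab
  refine ⟨z₁ / z₂, ?_⟩
  simp only [map_zero, map_neg] at h
  field_simp
  linear_combination -h

/-- The model of a field automorphism of the odd-dimensional group. -/
theorem odd_model [Finite K] (hf : IsFixed f σ r) {m : ℕ}
    (hQ : (polarBilin (oddQ (F := F) m)).Nondegenerate) (Y : Semi (oddQ (F := F) m)) (hσ : Y.σ = σ)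
    (hY : Y ^ r = 1) :
    ∃ (J : (Unit ⊕ (Fin m ⊕ Fin m) → F) ≃ₗ[F] (Unit ⊕ (Fin m ⊕ Fin m) → F)) (w : Fˣ)
      (hJ : ∀ u, oddQ m (J u) = (w : F) * oddQ m u),
      transport J w hJ ((isBase_oddQ f m).coordT σ hf.fix) = Y := by
  obtain ⟨Q1, Qe, hb, J, w, hJ, hnd, hT⟩ := exists_descent hf hQ Y hσ hY
  obtain ⟨φ, c, hc, hφ⟩ := similar_odd hnd (m := m) (by simp; omega)
  obtain ⟨J', w', hJ', hT'⟩ := exists_transport_of_similar hf hb (isBase_oddQ f m) hJ φ hc hφ
  exact ⟨J', w', hJ', hT'.trans hT⟩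

theorem odd_coset {p a : ℕ} [Fact p.Prime] (ha : 1 ≤ a) (hF : Nat.card F = p ^ a) (hp : p ≠ 2)
    {m : ℕ} (hm : 3 ≤ m) {x δ : MulAut (Cfsg.POmega F ⇑(oddQ (F := F) m))}
    (hx : Cfsg.IsFieldAutClassPOmega ⇑(oddQ (F := F) m) x)
    (hδ : δ ∈ Cfsg.pgoAut F ⇑(oddQ (F := F) m)) :
    orderOf (δ * x) = orderOf x ↔ Cfsg.IsConjUnder (Cfsg.pgoAut F ⇑(oddQ (F := F) m)) x (δ * x) := by
  constructor
  · intro hord
    obtain ⟨hQ, hs⟩ := big_oddQ (F := F) (two_ne_zero_of ha hF hp) hm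
    obtain ⟨σ, Y, T₀, hσr, hYσ, hYr, hxY, -, -⟩ := fieldClass_lift hQ hs (oddQ_coord m) hx
    haveI : Finite (RingAut F) := Finite.of_injective (fun τ : RingAut F => (τ : F → F)) DFunLike.coe_injective
    haveI : Finite (CfsgLib.AutPSL.fixField σ) := Subtype.finite
    have hf : IsFixed (CfsgLib.AutPSL.fixField σ).subtype σ (orderOf x) :=
      ⟨hσr, hσr ▸ orderOf_pos σ, fun z => (CfsgLib.AutPSL.mem_fixField σ).mp z.2,
        fun y hy => ⟨⟨y, (CfsgLib.AutPSL.mem_fixField σ).mpr hy⟩, rfl⟩⟩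
    obtain ⟨J, w, hJ, hT⟩ := odd_model hf hQ.nd Y hYσ hYr
    rw [pgoAut_eq] at hδ ⊢
    rw [hxY, ← hT]
    refine isConjUnder_of_pow hQ hf (isBase_oddQ _ m) J w hJ le_rfl (fun u => mem_simGroup.mpr rfl)
      (fun h hh => ⟨1, Commute.one_left _, by rwa [mul_one]⟩)
      (fun Y' h1 h2 _ => odd_model hf hQ.nd Y' h1 h2) hδ ?_
    rw [hT, ← hxY]
    conv_lhs => rw [← hord]
    exact pow_orderOf_eq_one _
  · rintro ⟨h, -, e⟩
    rw [e, CfsgLib.AutPSL.orderOf_conj']

theorem odd_field {p a : ℕ} [Fact p.Prime] (ha : 1 ≤ a) (hF : Nat.card F = p ^ a) (hp : p ≠ 2)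
    {m : ℕ} (hm : 3 ≤ m) {x : MulAut (Cfsg.POmega F ⇑(oddQ (F := F) m))}
    (hx : Cfsg.IsFieldAutClassPOmega ⇑(oddQ (F := F) m) x) {r : ℕ} (hr : r.Prime)
    (hxr : orderOf x = r) (F₀ : Type*) [Field F₀] [Finite F₀] (hF₀ : Nat.card F₀ = p ^ (a / r)) :
    r ∣ a ∧
    Nonempty (↥(Cfsg.pgoAut F ⇑(oddQ (F := F) m) ⊓ Subgroup.centralizer {x}) ≃*
      ↥(Cfsg.pgoAut F₀ ⇑(oddQ (F := F₀) m))) ∧
    (Odd r → Cfsg.splitClassCount (Cfsg.pgoAut F ⇑(oddQ (F := F) m))
      (Cfsg.Inn (Cfsg.POmega F ⇑(oddQ (F := F) m))) x = 1) ∧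
    (r = 2 → Cfsg.splitClassCount (Cfsg.pgoAut F ⇑(oddQ (F := F) m))
      (Cfsg.Inn (Cfsg.POmega F ⇑(oddQ (F := F) m))) x = 2) := by
  have h2 := two_ne_zero_of ha hF hp
  obtain ⟨hQ, hs⟩ := big_oddQ (F := F) h2 hm
  obtain ⟨σ, Y, T₀, hσr, hYσ, hYr, rfl, -, -⟩ := fieldClass_lift hQ hs (oddQ_coord m) hx
  rw [hxr] at hσr hYr
  obtain ⟨hra, g, hf⟩ := exists_isFixed hF σ hσr hr.ne_zero F₀ hF₀
  have h20 : (2 : F₀) ≠ 0 := fun e => h2 (by rw [← map_ofNat g 2, e, map_zero])
  obtain ⟨hQ0, -⟩ := big_oddQ (F := F₀) h20 hm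
  obtain ⟨J, w, hJ, hT⟩ := odd_model hf hQ.nd Y hYσ hYr
  have hC := centralizer_eq (A := simGroup (oddQ (F := F) m)) hQ hf (isBase_oddQ g m) J w hJ le_rfl
    (fun u => mem_simGroup.mpr rfl)
  rw [hT] at hC
  have hmem : ∀ L : ↥(simGroup (oddQ (F := F₀) m)),
      transport J w hJ ((isBase_oddQ g m).extHom L) ∈ simGroup (oddQ (F := F) m) := fun L =>
    (mem_simGroup_transport J w hJ _).mpr ((isBase_oddQ g m).extHom_spec L).1
  rw [pgoAut_eq (Q := oddQ (F := F) m), pgoAut_eq (Q := oddQ (F := F₀) m)]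
  have hsplit := splitClassCount_baseMap (A := simGroup (oddQ (F := F) m)) (isBase_oddQ g m) J w hJ
    hC (fun _ => mem_simGroup.mpr rfl)
  have hσs : Function.Surjective (sigmaHom (oddQ (F := F) m)) :=
    fun τ => ⟨coordSemi τ (oddQ_coord m τ), rfl⟩
  have hcard : Nat.card ((simGroup (oddQ (F := F) m)).map (outHom (oddQ m))) = 2 := by
    have hmap : (simGroup (oddQ (F := F) m)).map (outHom (oddQ m)) = (outSigma hQ hs).ker := by
      ext z
      obtain ⟨S, rfl⟩ := outHom_surjective hQ hs z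
      rw [MonoidHom.mem_ker, outSigma_outHom]
      refine ⟨?_, fun h => ⟨S, mem_simGroup.mpr h, rfl⟩⟩
      rintro ⟨S', hS', e⟩
      have := congrArg (outSigma hQ hs) e
      rw [outSigma_outHom, outSigma_outHom, mem_simGroup.mp hS'] at this
      exact this.symm
    have h := card_ker_outSigma hQ hs hσs ha hF
    rw [card_out_of_aut hQ hs (card_aut_odd ha hF hp hm)] at h
    rw [hmap]
    exact Nat.eq_of_mul_eq_mul_right (by omega) h
  have hodd : Odd (Module.finrank F (Unit ⊕ (Fin m ⊕ Fin m) → F)) := by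
    simp [Module.finrank_fintype_fun_eq_card]
  have hle : (baseOut (A := simGroup (oddQ (F := F) m)) (isBase_oddQ g m) J w hJ).range ≤
      (simGroup (oddQ (F := F) m)).map (outHom (oddQ m)) := by
    rintro _ ⟨L, rfl⟩
    exact ⟨_, L.2, rfl⟩
  have hn0 : 2 ≤ Module.finrank F₀ (Unit ⊕ (Fin m ⊕ Fin m) → F₀) := by have := hQ0.dim; omega
  have hpair : ∀ u v, oddQ m u ≠ 0 → oddQ m v ≠ 0 →
      (outHom _ (transport J w hJ ((isBase_oddQ g m).extHom
        ⟨isoHom (oddQ (F := F₀) m) (refl (oddQ m) u * refl (oddQ m) v), mem_simGroup.mpr rfl⟩)) = 1 ↔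
        IsSquare (g (oddQ m u * oddQ m v))) := by
    intro u v hu hv
    rw [show (⟨isoHom (oddQ (F := F₀) m) (refl (oddQ m) u * refl (oddQ m) v), mem_simGroup.mpr rfl⟩ :
        ↥(simGroup (oddQ (F := F₀) m))) = ⟨isoHom _ (refl (oddQ m) u), mem_simGroup.mpr rfl⟩ *
          ⟨isoHom _ (refl (oddQ m) v), mem_simGroup.mpr rfl⟩ from Subtype.ext (map_mul _ _ _),
      map_mul, map_mul, transport_extHom_refl _ _ _ _ hu, transport_extHom_refl _ _ _ _ hv, ← map_mul]
    have hne : ∀ z, oddQ m z ≠ 0 → oddQ m (J (extVec g z)) ≠ 0 := fun z hz => by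
      rw [hJ, isBase_oddQ g m]
      exact mul_ne_zero w.ne_zero fun e => hz (g.injective (e.trans (map_zero g).symm))
    rw [outHom_pair_odd_iff hQ h2 hodd (hne u hu) (hne v hv), hJ, hJ, isBase_oddQ g m,
      isBase_oddQ g m, map_mul,
      show (w : F) * g (oddQ m u) * ((w : F) * g (oddQ m v)) =
        ((w : F) * (w : F)) * (g (oddQ m u) * g (oddQ m v)) by ring,
      isSquare_mul_iff h2 (mul_ne_zero w.ne_zero w.ne_zero)
        (mul_ne_zero (fun e => hu (g.injective (e.trans (map_zero g).symm)))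
          (fun e => hv (g.injective (e.trans (map_zero g).symm))))]
    simp only [show IsSquare ((w : F) * (w : F)) from ⟨_, rfl⟩, true_iff]
  refine ⟨hra, ?_, fun hrodd => ?_, fun hr2 => ?_⟩
  · obtain ⟨e⟩ := nonempty_range_baseMap_equiv (isBase_oddQ g m) J w hJ hQ hQ0
      (A := simGroup (oddQ (F := F) m)) (B := simGroup (oddQ (F := F₀) m)) le_rfl
      (fun L => iff_of_true L.2 (hmem L))
    exact ⟨(MulEquiv.subgroupCongr hC).trans e⟩
  · rw [hsplit, Subgroup.relIndex_eq_one]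
    obtain ⟨u, v, hu, hv, huS, hvS⟩ := exists_classes hQ0.nd h20 hn0
    set L : ↥(simGroup (oddQ (F := F₀) m)) :=
      ⟨isoHom (oddQ (F := F₀) m) (refl (oddQ m) u * refl (oddQ m) v), mem_simGroup.mpr rfl⟩
    have hz : baseOut (A := simGroup (oddQ (F := F) m)) (isBase_oddQ g m) J w hJ ⟨L, hmem L⟩ ≠ 1 := by
      rw [baseOut_apply]
      intro h
      have h1 := isSquare_of_map_of_odd hf hrodd h2 ((hpair u v hu hv).mp h)
      rw [isSquare_mul_iff h20 hu hv] at h1
      exact hvS (h1.mp huS)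
    intro z hzmem
    rcases eq_or_eq_of_card_two hcard (hle ⟨_, rfl⟩) hz hzmem with rfl | rfl
    · exact one_mem _
    · exact ⟨_, rfl⟩
  · rw [hsplit]
    suffices hbot : (baseOut (A := simGroup (oddQ (F := F) m)) (isBase_oddQ g m) J w hJ).range = ⊥ by
      rw [hbot, Subgroup.relIndex_bot_left, hcard]
    rw [MonoidHom.range_eq_bot_iff]
    refine MonoidHom.ext fun L => ?_
    rw [baseOut_apply, MonoidHom.one_apply]
    let ψ : oGroup (oddQ (F := F₀) m) →* Cfsg.Out (Cfsg.POmega F ⇑(oddQ (F := F) m)) :=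
      ((outHom _).comp ((transport J w hJ).toMonoidHom.comp (isBase_oddQ g m).extHom)).comp
        ((isoHom (oddQ (F := F₀) m)).codRestrict (simGroup _) fun _ => mem_simGroup.mpr rfl)
    have hψ : ∀ k : oGroup (oddQ (F := F₀) m), detO _ k = 1 → ψ k = 1 := by
      intro k hk
      have hkp : k ∈ pairGroup (oddQ (F := F₀) m) := by
        rw [← ker_detO_eq_pairGroup hQ0.nd h20]; exact hk
      refine (?_ : pairGroup (oddQ (F := F₀) m) ≤ ψ.ker) hkp
      refine (Subgroup.closure_le _).mpr ?_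
      rintro _ ⟨u, v, hu, hv, rfl⟩
      exact (hpair u v hu hv).mpr (isSquare_map_of_even hf (hr2 ▸ even_two) _)
    obtain ⟨s, hs'⟩ := isSquare_mult_of_odd hQ0.nd (by simp) L.1.1 (mem_simGroup.mp L.1.2)
    have hs0 : s ≠ 0 := fun e => L.1.1.c.ne_zero (by rw [hs', e, mul_zero])
    set su := Units.mk0 s hs0
    obtain ⟨k, hk⟩ := Semi.eq_iso (S := (scalarHom (oddQ (F := F₀) m) su)⁻¹ * L.1.1)
      (RingEquiv.ext fun z => by
        change (RingEquiv.refl F₀).symm (L.1.1.σ z) = z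
        rw [mem_simGroup.mp L.1.2]; rfl)
      (Units.ext (by
        rw [← map_inv, Semi.mul_c]
        change ((su⁻¹ : F₀ˣ) : F₀) * ((su⁻¹ : F₀ˣ) : F₀) * (L.1.1.c : F₀) = 1
        rw [hs', Units.val_inv_eq_inv_val, Units.val_mk0]
        field_simp))
    have hL : ∀ (t : F₀ˣ) (k : oGroup (oddQ (F := F₀) m)), L.1.1 = scalarHom _ t * isoHom _ k →
        outHom _ (transport J w hJ ((isBase_oddQ g m).extHom L.1)) = ψ k := by
      intro t k e
      rw [show L.1 = ⟨scalarHom _ t, mem_simGroup.mpr rfl⟩ *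
          ⟨isoHom _ k, mem_simGroup.mpr rfl⟩ from Subtype.ext e, map_mul, map_mul, map_mul,
        (isBase_oddQ g m).extHom_scalar, scalarHom_transport,
        show outHom (oddQ (F := F) m) (scalarHom _ (Units.map g.toMonoidHom t)) = 1 from
          (outHom_eq_one_iff hQ).mpr ⟨Units.map g.toMonoidHom t, 1, by rw [OneMemClass.coe_one, map_one, mul_one]⟩, one_mul]
      rfl
    have hLk : L.1.1 = scalarHom _ su * isoHom _ k := by rw [← hk, mul_inv_cancel_left]
    rcases detO_eq_or hQ0.nd k with hd | hd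
    · rw [hL su k hLk]
      exact hψ k (Units.ext hd)
    · have hneg : isoHom (oddQ (F := F₀) m) (negIso _) = scalarHom _ (-1) :=
        Semi.ext' rfl (fun z => by
          change -z = ((-1 : F₀ˣ) : F₀) • z
          simp) (Units.ext (by
          change (1 : F₀) = ((-1 : F₀ˣ) * (-1) : F₀ˣ)
          simp))
      rw [hL (su * -1) (negIso _ * k) (by
        rw [map_mul (isoHom _), hneg, map_mul, mul_assoc, ← mul_assoc (scalarHom _ (-1)), ← map_mul]
        simp [hLk])]
      refine hψ _ (Units.ext ?_)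
      rw [map_mul, Units.val_mul, hd, detO_val, Units.val_one,
        show (negIso (oddQ (F := F₀) m)).1.toLinearMap = (-1 : F₀) • LinearMap.id from
          LinearMap.ext fun z => (neg_one_smul F₀ z).symm, LinearMap.det_smul,
        (show Odd (Module.finrank F₀ (Unit ⊕ (Fin m ⊕ Fin m) → F₀)) by
          simp [Module.finrank_fintype_fun_eq_card]).neg_one_pow, LinearMap.det_id]
      ring

end CfsgLib.AutPOm
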