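import Cfsg.Agent.AutPOm.Counts
import Cfsg.Agent.AutPOm.Extensions

/-!
The outer automorphism group of the odd-dimensional orthogonal group.
-/

set_option autoImplicit false
set_option linter.style.haveILetI false

namespace CfsgLib.AutPOm

open QuadraticMap CfsgLib.Forms CfsgLib.Quad

variable {F : Type*} [Field F] [Finite F]

theorem out_odd {p f : ℕ} [Fact p.Prime] (hf : 1 ≤ f) (hF : Nat.card F = p ^ f) (hp : p ≠ 2)
    {m : ℕ} (hm : 3 ≤ m) :
    Nonempty (Cfsg.Out (Cfsg.POmega F ⇑(oddQ (F := F) m)) ≃* Multiplicative (ZMod 2 × ZMod f)) := by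
  haveI := Fintype.ofFinite F
  obtain ⟨hQ, hs⟩ := big_oddQ (F := F) (two_ne_zero_of hf hF hp) hm
  have hout := card_out_of_aut hQ hs (card_aut_odd hf hF hp hm)
  have hσ : Function.Surjective (sigmaHom (oddQ (F := F) m)) :=
    fun σ => ⟨coordSemi σ (oddQ_coord m σ), rfl⟩
  have hker := card_ker_outSigma hQ hs hσ hf hF
  rw [hout] at hker
  obtain ⟨e⟩ := CfsgLib.AutPSL.nonempty_ringAut_equiv (F := F) hf
    (Nat.card_eq_fintype_card.symm.trans hF)
  exact nonempty_equiv_two_prod (outSigma hQ hs) ((outHom _).comp (coordHom (oddQ_coord m)))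
    (fun σ => outSigma_outHom hQ hs _) (Nat.eq_of_mul_eq_mul_right (by omega) hker) e

end CfsgLib.AutPOm
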