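import Cfsg.Agent.AutPOm.PlusSign

/-!
The outer similarity groups of the plus form.
-/

set_option autoImplicit false
set_option linter.style.haveILetI false
set_option linter.unusedSectionVars false
set_option synthInstance.maxHeartbeats 400000

namespace CfsgLib.AutPOm

open QuadraticMap CfsgLib.Forms CfsgLib.Quad Matrix

universe u

theorem sq_eq_one_of_two_involutions {G : Type*} [Group G] (h4 : Nat.card G = 4) {a b : G}
    (ha : a * a = 1) (hb : b * b = 1) (ha1 : a ≠ 1) (hb1 : b ≠ 1) (hab : a ≠ b) (x : G) :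
    x * x = 1 := by
  haveI : Finite G := Nat.finite_of_card_ne_zero (by omega)
  haveI := Fintype.ofFinite G
  classical
  have hall : ∀ y : G, y = 1 ∨ y = a ∨ y = b ∨ y = a * b := by
    have hu : ({1, a, b, a * b} : Finset G) = Finset.univ := by
      refine Finset.eq_univ_of_card _ ?_
      rw [← Nat.card_eq_fintype_card, h4, Finset.card_insert_of_notMem, Finset.card_insert_of_notMem,
        Finset.card_pair]
      · exact fun e => ha1 (mul_eq_right.mp e.symm)
      · simp only [Finset.mem_insert, Finset.mem_singleton, not_or]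
        exact ⟨hab, fun e => hb1 (mul_eq_left.mp e.symm)⟩
      · simp only [Finset.mem_insert, Finset.mem_singleton, not_or]
        exact ⟨ha1.symm, hb1.symm, fun e => hab (by
          rw [eq_comm, mul_eq_one_iff_eq_inv, inv_eq_of_mul_eq_one_left hb] at e; exact e)⟩
    intro y
    have := Finset.mem_univ y
    rw [← hu] at this
    simpa using this
  have hba : b * a = a * b := by
    rcases hall (b * a) with e | e | e | e
    · rw [mul_eq_one_iff_eq_inv, inv_eq_of_mul_eq_one_left ha] at e; exact absurd e.symm hab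
    · exact absurd (mul_eq_right.mp e) hb1
    · exact absurd (mul_eq_left.mp e) ha1
    · exact e
  rcases hall x with rfl | rfl | rfl | rfl
  · exact one_mul 1
  · exact ha
  · exact hb
  · rw [mul_assoc, ← mul_assoc b, hba, mul_assoc a b, hb, mul_one, ha]

section generic

variable {F : Type*} [Field F] [Finite F] {ι : Type} [Fintype ι] [DecidableEq ι]
  {Q : QuadraticForm F (ι → F)} {n : ℕ} (X : SignChar Q n) (hQ : Big Q) (h2 : (2 : F) ≠ 0)
include X hQ h2

/-- The number of outer similarity classes. -/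
theorem SignChar.card_map_simGroup :
    Nat.card ↥((simGroup Q).map (outHom Q)) =
      4 * (Cfsg.Inn (Cfsg.POmega F ⇑Q)).relIndex (Cfsg.psoAut F ⇑Q) := by
  obtain ⟨φ, hs, hk⟩ := X.exists_pgo_mod_pso hQ h2
  have h4 : (Cfsg.psoAut F ⇑Q).relIndex (Cfsg.pgoAut F ⇑Q) = 4 := by
    rw [Subgroup.relIndex, ← hk, Subgroup.index_ker, MonoidHom.range_eq_top.mpr hs,
      Subgroup.card_top]
    simp
  have hle : Cfsg.psoAut F ⇑Q ≤ Cfsg.pgoAut F ⇑Q := by
    rw [psoAut_eq, pgoAut_eq]
    refine Subgroup.map_mono ?_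
    rintro _ ⟨g, -, rfl⟩
    exact mem_simGroup.mpr rfl
  have h := Subgroup.relIndex_mul_relIndex _ _ _ (inn_le_psoAut (Q := Q)) hle
  rw [h4] at h
  rw [mul_comm, h]
  conv_rhs => rw [← QuotientGroup.ker_mk' (Cfsg.Inn (Cfsg.POmega F ⇑Q)), Subgroup.relIndex_ker,
    pgoAut_eq, Subgroup.map_map]
  rfl

/-- When `-1` lies in `Omega`, the outer similarity group is not commutative. -/
theorem SignChar.map_outHom_comm_ne (hz : negIso Q ∈ Om Q) :
    ∃ r ∈ (simGroup Q).map (outHom Q), r * r = 1 ∧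
      ∃ l ∈ (simGroup Q).map (outHom Q), r * l ≠ l * r := by
  obtain ⟨v, hv⟩ := CfsgLib.Quad.exists_aniso hQ.nd (by have := hQ.dim; omega)
  obtain ⟨ν, hν⟩ := exists_nonsquare_unit h2
  obtain ⟨S, hSσ, hSc⟩ := X.mult ν
  refine ⟨_, ⟨isoHom _ (refl _ v), mem_simGroup.mpr rfl, rfl⟩, ?_, _,
    ⟨S, mem_simGroup.mpr hSσ, rfl⟩, fun e => ?_⟩
  · rw [← map_mul, ← map_mul, refl_mul_self, map_one, map_one]
  obtain ⟨hne, hns, hc⟩ := outHom_refl_conj hQ h2 hSσ (by rw [hSc]; exact hν) hv
  apply outHom_pair_ne_one hQ h2 hz hne hv hns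
  rw [← e, mul_assoc] at hc
  exact mul_eq_right.mp hc.symm

theorem SignChar.exists_pgo_mod_inn :
    (negIso Q ∈ Om Q → ∃ φ : ↥(Cfsg.pgoAut F ⇑Q) →* DihedralGroup 4, Function.Surjective φ ∧
      φ.ker = (Cfsg.Inn (Cfsg.POmega F ⇑Q)).subgroupOf (Cfsg.pgoAut F ⇑Q)) ∧
    (negIso Q ∉ Om Q → ∃ φ : ↥(Cfsg.pgoAut F ⇑Q) →* Multiplicative (ZMod 2 × ZMod 2),
      Function.Surjective φ ∧
        φ.ker = (Cfsg.Inn (Cfsg.POmega F ⇑Q)).subgroupOf (Cfsg.pgoAut F ⇑Q)) := by
  refine ⟨fun hz => ?_, fun hz => ?_⟩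
  · obtain ⟨r, hr, hrr, l, hl, hrl⟩ := X.map_outHom_comm_ne hQ h2 hz
    have h8 : Nat.card ↥((simGroup Q).map (outHom Q)) = 8 := by
      rw [X.card_map_simGroup hQ h2, relIndex_inn_psoAut_two hQ h2 hz]
    obtain ⟨e⟩ := nonempty_equiv_dihedral h8
      (a := (⟨r, hr⟩ : ↥((simGroup Q).map (outHom Q)))) (b := ⟨l, hl⟩)
      (Subtype.ext hrr) (fun e => hrl (congrArg Subtype.val e))
    refine exists_hom_of_equiv _ _ ((MulEquiv.subgroupCongr ?_).trans e)
    rw [pgoAut_eq, Subgroup.map_map]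
    rfl
  · rw [← X.psoAut_eq_inn hQ h2 hz]
    exact X.exists_pgo_mod_pso hQ h2

theorem SignChar.card_map_dir_eq :
    (negIso Q ∈ Om Q → Nat.card ↥(X.dir.map (outHom Q)) = 4) ∧
      (negIso Q ∉ Om Q → Nat.card ↥(X.dir.map (outHom Q)) = 2) := by
  have h := X.card_map_dir hQ h2
  rw [X.card_map_simGroup hQ h2] at h
  refine ⟨fun hz => ?_, fun hz => ?_⟩
  · rw [relIndex_inn_psoAut_two hQ h2 hz] at h; omega
  · rw [X.psoAut_eq_inn hQ h2 hz, Subgroup.relIndex_self] at h; omega

/-- An involution of non-square multiplier makes the directed outer group elementary abelian. -/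
theorem SignChar.klein_of_sq (hz : negIso Q ∈ Om Q) {S : Semi Q} (hS : S ∈ X.dir)
    (hc : ¬ IsSquare (S.c : F)) (hsq : outHom Q S * outHom Q S = 1) :
    Nonempty (↥(X.dir.map (outHom Q)) ≃* Multiplicative (ZMod 2 × ZMod 2)) := by
  have hσ : S.σ = RingEquiv.refl F := mem_simGroup.mp (X.dir_le hS)
  obtain ⟨v, hv⟩ := CfsgLib.Quad.exists_aniso hQ.nd (by have := hQ.dim; omega)
  obtain ⟨hne, hns, -⟩ := outHom_refl_conj hQ h2 hσ hc hv
  have hz1 := outHom_pair_ne_one hQ h2 hz hne hv hns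
  have hgd : detO Q (refl Q (S.T v) * refl Q v) = 1 := Units.ext (by
    rw [map_mul, Units.val_mul, detO_refl hne, detO_refl hv]; norm_num)
  generalize refl Q (S.T v) * refl Q v = g at hz1 hgd
  have hgsq : outHom Q (isoHom Q g) * outHom Q (isoHom Q g) = 1 := by
    obtain ⟨θ, hθ⟩ := exists_spinor hQ.nd h2 (by have := hQ.dim; omega)
    rw [← map_mul, ← map_mul, outHom_det_one_cases hQ h2 hz hθ (by rw [map_mul, hgd, one_mul]),
      map_mul]
    exact Int.units_mul_self _
  have hzD : outHom Q (isoHom Q g) ∈ X.dir.map (outHom Q) :=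
    ⟨_, X.mem_dir.mpr ⟨mem_simGroup.mpr rfl, (X.sgn_isoHom_eq_one h2).mpr hgd⟩, rfl⟩
  set D := X.dir.map (outHom Q)
  set d : ↥D := ⟨outHom Q S, S, hS, rfl⟩
  set z : ↥D := ⟨outHom Q (isoHom Q g), hzD⟩
  have hdz : d ≠ z := fun e => by
    have h : outHom Q S = outHom Q (isoHom Q g) := congrArg Subtype.val e
    have h1 : outHom Q ((isoHom Q g)⁻¹ * S) = 1 := by
      rw [map_mul, map_inv, h, inv_mul_cancel]
    refine outHom_ne_one_of_nonsquare hQ ?_ h1
    rw [Semi.mul_c, ← map_inv]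
    change ¬ IsSquare ((1 : F) * (S.c : F))
    rwa [one_mul]
  have hd1 : d ≠ 1 := fun e => outHom_ne_one_of_nonsquare hQ hc (congrArg Subtype.val e)
  have hz1' : z ≠ 1 := fun e => hz1 (congrArg Subtype.val e)
  have h4 : Nat.card ↥D = 4 := (X.card_map_dir_eq hQ h2).1 hz
  exact nonempty_equiv_klein h4 (sq_eq_one_of_two_involutions h4 (Subtype.ext hsq)
    (Subtype.ext hgsq) hd1 hz1' hdz)

theorem SignChar.exists_dir_mod_inn_two (hz : negIso Q ∉ Om Q) :
    ∃ φ : ↥(X.dir.map (pomHom Q)) →* Multiplicative (ZMod 2), Function.Surjective φ ∧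
      φ.ker = (Cfsg.Inn (Cfsg.POmega F ⇑Q)).subgroupOf _ := by
  haveI : Fact (Nat.Prime 2) := ⟨Nat.prime_two⟩
  have e := mulEquivOfPrimeCardEq (p := 2) ((X.card_map_dir_eq hQ h2).2 hz)
    (show Nat.card (Multiplicative (ZMod 2)) = 2 by rw [Nat.card_eq_fintype_card]; rfl)
  refine exists_hom_of_equiv _ _ ((MulEquiv.subgroupCongr ?_).trans e)
  rw [Subgroup.map_map]
  rfl

theorem SignChar.exists_dir_mod_inn_four (hz : negIso Q ∈ Om Q) {S : Semi Q} (hS : S ∈ X.dir)
    (hsq : outHom Q S * outHom Q S ≠ 1) :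
    ∃ φ : ↥(X.dir.map (pomHom Q)) →* Multiplicative (ZMod 4), Function.Surjective φ ∧
      φ.ker = (Cfsg.Inn (Cfsg.POmega F ⇑Q)).subgroupOf _ := by
  have h4 := (X.card_map_dir_eq hQ h2).1 hz
  set d : ↥(X.dir.map (outHom Q)) := ⟨outHom Q S, S, hS, rfl⟩
  haveI : Finite ↥(X.dir.map (outHom Q)) := Nat.finite_of_card_ne_zero (by omega)
  haveI : IsCyclic ↥(X.dir.map (outHom Q)) := by
    refine isCyclic_of_orderOf_eq_card d ?_
    have h1 := orderOf_dvd_natCard d
    rw [h4] at h1 ⊢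
    have h3 : ¬ orderOf d ∣ 2 := fun hh => by
      have h6 := congrArg Subtype.val (orderOf_dvd_iff_pow_eq_one.mp hh)
      rw [Subgroup.coe_pow, Subgroup.coe_one, pow_two] at h6
      exact hsq h6
    obtain ⟨i, hi, e⟩ := (Nat.dvd_prime_pow Nat.prime_two (m := 2)).mp h1
    rw [e] at h3 ⊢
    rcases i with _ | _ | _ | i
    · exact absurd (one_dvd 2) h3
    · exact absurd (dvd_refl 2) h3
    · rfl
    · omega
  have e : ↥(X.dir.map (outHom Q)) ≃* Multiplicative (ZMod 4) :=
    mulEquivOfCyclicCardEq (by rw [h4, Nat.card_eq_fintype_card]; rfl)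
  refine exists_hom_of_equiv _ _ ((MulEquiv.subgroupCongr ?_).trans e)
  rw [Subgroup.map_map]
  rfl

theorem SignChar.exists_dir_mod_inn_klein (hz : negIso Q ∈ Om Q) {S : Semi Q} (hS : S ∈ X.dir)
    (hc : ¬ IsSquare (S.c : F)) (hsq : outHom Q S * outHom Q S = 1) :
    ∃ φ : ↥(X.dir.map (pomHom Q)) →* Multiplicative (ZMod 2 × ZMod 2), Function.Surjective φ ∧
      φ.ker = (Cfsg.Inn (Cfsg.POmega F ⇑Q)).subgroupOf _ := by
  obtain ⟨e⟩ := X.klein_of_sq hQ h2 hz hS hc hsq
  refine exists_hom_of_equiv _ _ ((MulEquiv.subgroupCongr ?_).trans e)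
  rw [Subgroup.map_map]
  rfl

end generic

variable {F : Type u} [Field F] [Finite F] {m : ℕ}

/-- The diagonal isometries of the plus form. -/
def plusTorus (F : Type u) [Field F] (m : ℕ) : (Fin m → Fˣ) →* oGroup (plusQ (F := F) m) where
  toFun t := ⟨
    { toFun := fun v => Sum.elim (fun i => (t i : F) * v (.inl i))
        (fun i => (((t i)⁻¹ : Fˣ) : F) * v (.inr i))
      invFun := fun v => Sum.elim (fun i => (((t i)⁻¹ : Fˣ) : F) * v (.inl i))
        (fun i => (t i : F) * v (.inr i))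
      left_inv := fun v => by funext i; rcases i with i | i <;> simp
      right_inv := fun v => by funext i; rcases i with i | i <;> simp
      map_add' := fun u v => by funext i; rcases i with i | i <;> simp [mul_add]
      map_smul' := fun a v => by funext i; rcases i with i | i <;> simp [mul_left_comm] },
    fun v => by
      change plusQ m _ = _
      simp [plusQ_coe, Cfsg.quadFormPlus]
      exact Finset.sum_congr rfl fun i _ => by field_simp⟩
  map_one' := Subtype.ext (LinearEquiv.ext fun v => funext fun i => by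
    rcases i with i | i
    · change ((1 : Fˣ) : F) * v _ = v _
      rw [Units.val_one, one_mul]
    · change (((1 : Fˣ)⁻¹ : Fˣ) : F) * v _ = v _
      rw [inv_one, Units.val_one, one_mul])
  map_mul' s t := Subtype.ext (LinearEquiv.ext fun v => funext fun i => by
    rcases i with i | i
    · change ((s i * t i : Fˣ) : F) * v _ = (s i : F) * ((t i : F) * v _)
      rw [Units.val_mul, mul_assoc]
    · change (((s i * t i)⁻¹ : Fˣ) : F) * v _ = (((s i)⁻¹ : Fˣ) : F) * ((((t i)⁻¹ : Fˣ) : F) * v _)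
      rw [mul_inv, Units.val_mul, mul_assoc])

/-- The vector of value `t` in one hyperbolic plane. -/
def planeVec (i : Fin m) (t : F) : Fin m ⊕ Fin m → F :=
  Sum.elim (Pi.single i 1) (Pi.single i t)

omit [Finite F] in
theorem plusQ_planeVec (i : Fin m) (t : F) : plusQ m (planeVec i t) = t := by
  simp [plusQ_coe, Cfsg.quadFormPlus, planeVec, Pi.single_apply]

omit [Finite F] in
theorem refl_planeVec (i : Fin m) {t : F} (ht : t ≠ 0) (v : Fin m ⊕ Fin m → F) :
    (refl (plusQ m) (planeVec i t)).1 v =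
      Sum.elim (fun j => if j = i then -(t⁻¹ * v (.inr i)) else v (.inl j))
        (fun j => if j = i then -(t * v (.inl i)) else v (.inr j)) := by
  have hp : polar (plusQ m) v (planeVec i t) = v (.inl i) * t + v (.inr i) := by
    rw [polar_plusQ]
    simp [planeVec, Pi.single_apply, Finset.sum_add_distrib]
  rw [refl_apply, plusQ_planeVec, hp]
  funext j
  rcases j with j | j <;> by_cases hj : j = i
  all_goals simp [planeVec, hj]
  all_goals field_simp
  all_goals ring

omit [Finite F] in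
theorem plusTorus_single (i : Fin m) (t : Fˣ) :
    plusTorus F m (Pi.mulSingle i t) =
      refl (plusQ m) (planeVec i 1) * refl (plusQ m) (planeVec i (t : F)) := by
  refine Subtype.ext (LinearEquiv.ext fun v => ?_)
  change _ = (refl (plusQ m) (planeVec i (1 : F))).1 ((refl (plusQ m) (planeVec i (t : F))).1 v)
  rw [refl_planeVec i t.ne_zero, refl_planeVec i one_ne_zero]
  funext j
  rcases j with j | j <;> by_cases hj : j = i
  all_goals simp [plusTorus, Pi.mulSingle_apply, hj]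

omit [Finite F] in
theorem cls_plusScale (hm : 3 ≤ m) (c : Fˣ) :
    (hypSpace_plusQ (K := F) hm).cls (plusScale m c) = 1 := by
  rw [HypSpace.cls_apply, img_plusScale, defect, inf_idem, Nat.sub_self, pow_zero]

theorem spinor_torus (h2 : (2 : F) ≠ 0) {θ : oGroup (plusQ (F := F) m) →* ℤˣ}
    (hθ : ∀ v, plusQ m v ≠ 0 → (θ (refl _ v) = 1 ↔ IsSquare (plusQ m v))) (t : Fˣ) :
    θ (plusTorus F m fun _ => t) = sqClass h2 t ^ m := by
  have h1 : ∀ i : Fin m, θ (plusTorus F m (Pi.mulSingle i t)) = sqClass h2 t := fun i => by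
    rw [plusTorus_single, map_mul,
      (hθ (planeVec i 1) (by rw [plusQ_planeVec]; exact one_ne_zero)).mpr
        (by rw [plusQ_planeVec]; exact IsSquare.one), one_mul]
    have h3 : θ (refl _ (planeVec i (t : F))) = 1 ↔ sqClass h2 t = 1 := by
      rw [hθ _ (by rw [plusQ_planeVec]; exact t.ne_zero), plusQ_planeVec, sqClass_eq_one]
    rcases Int.units_eq_one_or (θ (refl _ (planeVec i (t : F)))) with e | e
    · rw [e, h3.mp e]
    · rw [e, (Int.units_eq_one_or (sqClass h2 t)).resolve_left fun e' => by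
        rw [h3.mpr e'] at e
        exact absurd e (by decide)]
  conv_lhs => rw [← Finset.univ_prod_mulSingle (fun _ : Fin m => t)]
  rw [← MonoidHom.comp_apply, map_prod]
  simp only [MonoidHom.comp_apply, h1, Finset.prod_const, Finset.card_fin]

omit [Finite F] in
theorem plusScale_sq (ν : Fˣ) :
    plusScale m ν * plusScale m ν = scalarHom _ ν * isoHom _ (plusTorus F m fun _ => ν) := by
  refine Semi.ext' (RingEquiv.ext fun x => rfl) (fun v => ?_) (Units.ext ?_)
  · funext i
    rw [Semi.mul_T, Semi.mul_T]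
    rcases i with i | i
    · change (ν : F) * ((ν : F) * v _) = (ν : F) * ((ν : F) * v _)
      rfl
    · change v _ = (ν : F) * (((ν⁻¹ : Fˣ) : F) * v _)
      rw [Units.mul_inv_cancel_left]
  · rw [Semi.mul_c, Semi.mul_c]
    change (ν : F) * ν = (ν : F) * ν * 1
    rw [mul_one]

variable (hm : 4 ≤ m) (h2 : (2 : F) ≠ 0)
include hm h2

theorem plusScale_outHom_sq (hz : negIso (plusQ (F := F) m) ∈ Om (plusQ (F := F) m)) {ν : Fˣ}
    (hν : ¬ IsSquare (ν : F)) :
    outHom _ (plusScale m ν) * outHom _ (plusScale m ν) = 1 ↔ Even m := by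
  have hQ := big_plus (F := F) hm
  obtain ⟨θ, hθ⟩ := exists_spinor hQ.nd h2 (by have := hQ.dim; omega)
  have hdet : detO _ (plusTorus F m fun _ => ν) = 1 := by
    refine ((plusSign F (by omega : 3 ≤ m)).sgn_isoHom_eq_one h2).mp ?_
    change (hypSpace_plusQ (by omega : 3 ≤ m)).cls (isoHom _ (plusTorus F m fun _ => ν)) = 1
    have h1 : ∀ c, (hypSpace_plusQ (K := F) (by omega : 3 ≤ m)).cls (plusScale m c) = 1 := fun c => by
      rw [HypSpace.cls_apply, img_plusScale, defect, inf_idem, Nat.sub_self, pow_zero]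
    have h := congrArg (hypSpace_plusQ (K := F) (by omega : 3 ≤ m)).cls (plusScale_sq (m := m) ν)
    rw [map_mul, map_mul, h1, HypSpace.cls_scalar, one_mul, one_mul] at h
    exact h.symm
  rw [← map_mul, plusScale_sq, map_mul, outHom_scalar hQ, one_mul,
    outHom_det_one_cases hQ h2 hz hθ hdet, spinor_torus h2 hθ,
    (Int.units_eq_one_or (sqClass h2 ν)).resolve_left fun e => hν (sqClass_eq_one.mp e)]
  exact neg_one_pow_eq_one_iff_even (R := ℤˣ) (by decide)

theorem plus_exists_inndiag_mod_inn :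
    (negIso (plusQ (F := F) m) ∉ Om (plusQ (F := F) m) →
      ∃ φ : ↥((plusSign F (by omega : 3 ≤ m)).dir.map (pomHom _)) →* Multiplicative (ZMod 2),
        Function.Surjective φ ∧
          φ.ker = (Cfsg.Inn (Cfsg.POmega F ⇑(plusQ (F := F) m))).subgroupOf _) ∧
    (negIso (plusQ (F := F) m) ∈ Om (plusQ (F := F) m) → Odd m →
      ∃ φ : ↥((plusSign F (by omega : 3 ≤ m)).dir.map (pomHom _)) →* Multiplicative (ZMod 4),
        Function.Surjective φ ∧
          φ.ker = (Cfsg.Inn (Cfsg.POmega F ⇑(plusQ (F := F) m))).subgroupOf _) ∧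
    (Even m →
      ∃ φ : ↥((plusSign F (by omega : 3 ≤ m)).dir.map (pomHom _)) →*
        Multiplicative (ZMod 2 × ZMod 2), Function.Surjective φ ∧
          φ.ker = (Cfsg.Inn (Cfsg.POmega F ⇑(plusQ (F := F) m))).subgroupOf _) := by
  have hQ := big_plus (F := F) hm
  obtain ⟨ν, hν⟩ := exists_nonsquare_unit h2
  have hmem : plusScale m ν ∈ (plusSign F (by omega : 3 ≤ m)).dir :=
    (plusSign F (by omega : 3 ≤ m)).mem_dir.mpr ⟨mem_simGroup.mpr rfl, cls_plusScale (by omega : 3 ≤ m) ν⟩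
  refine ⟨fun hz => (plusSign F (by omega : 3 ≤ m)).exists_dir_mod_inn_two hQ h2 hz, fun hz hodd => ?_,
    fun heven => ?_⟩
  · exact (plusSign F (by omega : 3 ≤ m)).exists_dir_mod_inn_four hQ h2 hz hmem fun h =>
      Nat.not_even_iff_odd.mpr hodd ((plusScale_outHom_sq hm h2 hz hν).mp h)
  · have hz : negIso (plusQ (F := F) m) ∈ Om (plusQ (F := F) m) :=
      (negIso_plus_iff hm h2).mpr fun h => Nat.not_even_iff_odd.mpr h.1 heven
    exact (plusSign F (by omega : 3 ≤ m)).exists_dir_mod_inn_klein hQ h2 hz hmem hν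
      ((plusScale_outHom_sq hm h2 hz hν).mpr heven)

end CfsgLib.AutPOm
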