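import Cfsg.Agent.AutPOm.PlusOut

/-!
Graph involutions of the plus form.
-/

set_option autoImplicit false
set_option linter.style.haveILetI false
set_option linter.unusedSectionVars false
set_option synthInstance.maxHeartbeats 400000

namespace CfsgLib.AutPOm

open QuadraticMap CfsgLib.Forms CfsgLib.Quad Matrix

section generic

variable {F : Type*} [Field F] [Finite F] {ι : Type} [Fintype ι] [DecidableEq ι]
  {Q : QuadraticForm F (ι → F)}

theorem Semi.exists_lin {S : Semi Q} (hσ : S.σ = RingEquiv.refl F) :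
    ∃ T : (ι → F) →ₗ[F] (ι → F), ∀ x, T x = S.T x :=
  ⟨Matrix.toLin' (S.mat : Matrix ι ι F), fun x => by
    rw [Matrix.toLin'_apply, ← S.T_eq_mulVec_of_refl hσ]⟩

/-- Fixed and negated vectors of an involutive isometry fill the space. -/
theorem finrank_fixSp_add (h2 : (2 : F) ≠ 0) {g : oGroup Q} (hg : g * g = 1) :
    Module.finrank F (fixSp g) + Module.finrank F (fixSp (negIso _ * g)) =
        Module.finrank F (ι → F) ∧
      negIso _ * g * (negIso _ * g) = 1 := by
  have hgg : ∀ x, g.1 (g.1 x) = x := fun x => congrArg (fun t : oGroup Q => t.1 x) hg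
  have hneg : ∀ x, (negIso Q * g).1 x = -(g.1 x) := fun x => rfl
  refine ⟨?_, Subtype.ext (LinearEquiv.ext fun x => ?_)⟩
  · rw [← finrank_top F (ι → F)]
    have hinf : fixSp g ⊓ fixSp (negIso _ * g) = ⊥ := by
      refine (Submodule.eq_bot_iff _).mpr fun x hx => ?_
      obtain ⟨h1, h3⟩ := hx
      rw [SetLike.mem_coe, mem_fixSp] at h1 h3
      rw [hneg, h1, neg_eq_iff_add_eq_zero, ← two_smul F x, smul_eq_zero] at h3
      exact h3.resolve_left h2
    have hsup : fixSp g ⊔ fixSp (negIso _ * g) = ⊤ := by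
      refine Submodule.eq_top_iff'.mpr fun x => Submodule.mem_sup.mpr
        ⟨(2⁻¹ : F) • (x + g.1 x), ?_, (2⁻¹ : F) • (x - g.1 x), ?_, ?_⟩
      · rw [mem_fixSp, map_smul, map_add, hgg, add_comm]
      · rw [mem_fixSp, hneg, map_smul, map_sub, hgg, ← smul_neg, neg_sub]
      · rw [← smul_add, add_add_sub_cancel, ← two_smul F x, smul_smul, inv_mul_cancel₀ h2, one_smul]
    have h := Submodule.finrank_sup_add_finrank_inf_eq (fixSp g) (fixSp (negIso _ * g))
    rw [hsup, hinf, finrank_bot, add_zero] at h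
    exact h.symm
  · change -(g.1 (-(g.1 x))) = x
    rw [map_neg, neg_neg, hgg]

/-- An involutory similarity commutes with a pair of reflections of mixed class. -/
theorem exists_pair_commute_gen (hQ : Big Q) (h2 : (2 : F) ≠ 0) {S : Semi Q} {u : Fˣ}
    (hu : S * S = scalarHom Q u) (hσ : S.σ = RingEquiv.refl F) (hc : S.c = u) :
    ∃ x y, Q x ≠ 0 ∧ Q y ≠ 0 ∧ ¬ IsSquare (Q x * Q y) ∧
      S * isoHom Q (refl Q x * refl Q y) = isoHom Q (refl Q x * refl Q y) * S := by
  by_cases hsq : IsSquare (u : F)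
  · obtain ⟨w, hw⟩ := hsq
    obtain ⟨s, g, hS⟩ := exists_scalar_iso (S := S) hσ (s := w) (by rw [hc, hw])
    have hgg : g * g = 1 := by
      refine Subtype.ext (LinearEquiv.ext fun x => ?_)
      have h := congrArg (fun R : Semi Q => R.T x) hu
      have hs2 : (s : F) * s = (u : F) := by
        rw [← hc, hS, Semi.mul_c]
        change _ = (s : F) * s * 1
        rw [mul_one]
      rw [hS] at h
      change (s : F) • g.1 ((s : F) • g.1 x) = (u : F) • x at h
      rw [map_smul, smul_smul, hs2] at h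
      exact smul_right_injective _ u.ne_zero h
    obtain ⟨hsum, hgg'⟩ := finrank_fixSp_add h2 hgg
    have hd := hQ.dim
    obtain ⟨g', hg', h2le, hR⟩ : ∃ g' : oGroup Q, g' * g' = 1 ∧
        2 ≤ Module.finrank F (fixSp g') ∧ ∀ x ∈ fixSp g', refl Q (g.1 x) = refl _ x := by
      by_cases h : 2 ≤ Module.finrank F (fixSp g)
      · exact ⟨g, hgg, h, fun x hx => by rw [mem_fixSp.mp hx]⟩
      · refine ⟨negIso _ * g, hgg', by omega, fun x hx => ?_⟩
        have h := mem_fixSp.mp hx
        change -(g.1 x) = x at h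
        rw [neg_eq_iff_eq_neg.mp h, ← neg_one_smul F x, refl_smul (neg_ne_zero.mpr one_ne_zero)]
    have hnd : (polarBilin (Q.comp (fixSp g').subtype)).Nondegenerate := by
      rw [show polarBilin (Q.comp (fixSp g').subtype) =
        (polarBilin Q).compl₁₂ (fixSp g').subtype (fixSp g').subtype from
          LinearMap.ext fun x => LinearMap.ext fun y => rfl]
      exact nondeg_fixSp hQ.nd h2 hg'
    obtain ⟨ν, hν⟩ := exists_nonsquare_unit h2
    obtain ⟨⟨x, hx⟩, hqx⟩ := exists_value hnd h2 h2le (1 : F)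
    obtain ⟨⟨y, hy⟩, hqy⟩ := exists_value hnd h2 h2le (ν : F)
    change Q x = 1 at hqx
    change Q y = (ν : F) at hqy
    refine ⟨x, y, hqx ▸ one_ne_zero, hqy ▸ ν.ne_zero, by rwa [hqx, hqy, one_mul], ?_⟩
    have hcomm : g * (refl _ x * refl _ y) = refl _ x * refl _ y * g := by
      rw [← mul_inv_eq_iff_eq_mul,
        show g * (refl Q x * refl _ y) * g⁻¹ =
          g * refl _ x * g⁻¹ * (g * refl _ y * g⁻¹) by group, refl_conj, refl_conj, hR x hx, hR y hy]
    have hsc : scalarHom _ s * isoHom _ (refl Q x * refl _ y) =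
        isoHom _ (refl _ x * refl _ y) * scalarHom _ s :=
      Semi.ext' rfl (fun z => by
        change (s : F) • (refl Q x * refl _ y).1 z =
          (refl Q x * refl _ y).1 ((s : F) • z)
        rw [map_smul]) (Units.ext (by
        rw [Semi.mul_c, Semi.mul_c]
        change (s : F) * s * (1 : F) = 1 * ((s : F) * s)
        rw [one_mul, mul_one]))
    rw [hS, mul_assoc, ← map_mul, hcomm, map_mul, ← mul_assoc, hsc, mul_assoc]
  · have hTT : ∀ x, S.T (S.T x) = (u : F) • x := fun x => congrArg (fun R : Semi _ => R.T x) hu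
    obtain ⟨T, hT⟩ := S.exists_lin hσ
    obtain ⟨x, hx, hxT⟩ := exists_orth_image hQ.nd h2 (by have := hQ.dim; omega) T (fun x y => by
        have h := S.polar_map x (S.T y)
        rw [hTT, hσ, RingEquiv.refl_apply, hc, polar_smul_right, smul_eq_mul] at h
        rw [hT, hT]
        exact mul_left_cancel₀ u.ne_zero h) (fun x hx t h => hsq ⟨t, by
        have h1 : (u : F) • x = (t * t) • x := by
          rw [← hTT, ← hT, ← hT, h, map_smul, h, smul_smul]
        exact smul_left_injective F hx h1⟩)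
    have hqy : Q (S.T x) = (u : F) * Q x := by
      rw [S.quad, hσ, hc]; rfl
    refine ⟨x, S.T x, hx, hqy ▸ mul_ne_zero u.ne_zero hx, fun h => hsq ?_, ?_⟩
    · rw [hqy] at h
      have h7 := h.mul (IsSquare.mul_self (Q x)⁻¹)
      rwa [show Q x * ((u : F) * Q x) *
        ((Q x)⁻¹ * (Q x)⁻¹) = (u : F) by field_simp] at h7
    · rw [map_mul, ← mul_assoc, S.mul_refl, mul_assoc, S.mul_refl, hTT, refl_smul u.ne_zero,
        ← mul_assoc, ← map_mul, ← map_mul, refl_comm_of_orth]
      rw [hT] at hxT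
      exact hxT

/-- The multiplier of an involutory similarity exchanging the two classes. -/
theorem HypSpace.invol_c_eq {n : ℕ} {U : Submodule F (ι → F)} (h : HypSpace Q n U)
    (hn : Fintype.card ι = 2 * n) (h2 : (2 : F) ≠ 0)
    (hdet : ∀ L : Semi Q, L.σ = RingEquiv.refl F →
      (L.mat : Matrix ι ι F).det = ((h.cls L : ℤ) : F) * (L.c : F) ^ n)
    {S : Semi Q} {u : Fˣ} (hu : S * S = scalarHom Q u) (hσ : S.σ = RingEquiv.refl F)
    (hχ : h.cls S = -1) : S.c = u := by
  have hTT : ∀ x, S.T (S.T x) = (u : F) • x := fun x => congrArg (fun R : Semi _ => R.T x) hu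
  have hcc : (S.c : F) * S.c = (u : F) * u := by
    have h' := congrArg (fun R : Semi _ => (R.c : F)) hu
    rw [Semi.mul_c, hσ] at h'
    exact h'
  refine Units.ext ((mul_self_eq_mul_self_iff.mp hcc).resolve_right fun hc => ?_)
  by_cases hsq : IsSquare (u : F)
  · obtain ⟨w, hw⟩ := hsq
    obtain ⟨T, hT⟩ := S.exists_lin hσ
    have hTT' : ∀ x, T (T x) = (w * w) • x := fun x => by rw [hT, hT, hTT, hw]
    have hw0 : w ≠ 0 := fun e => u.ne_zero (by rw [hw, e, mul_zero])
    have hts : ∀ e : F, e * e = w * w →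
        (∀ x ∈ LinearMap.ker (T - e • LinearMap.id), Q x = 0) ∧
          Module.finrank F (LinearMap.ker (T - e • LinearMap.id)) ≤ n := by
      intro e he
      have hz : ∀ x ∈ LinearMap.ker (T - e • LinearMap.id), Q x = 0 := by
        intro x hx
        rw [LinearMap.mem_ker, LinearMap.sub_apply, LinearMap.smul_apply, LinearMap.id_apply,
          sub_eq_zero, hT] at hx
        have h' := S.quad x
        rw [hx, quad_smul, hσ, RingEquiv.refl_apply, hc, he, ← hw] at h'
        exact (mul_eq_zero.mp (show (2 : F) * (u : F) * Q x = 0 by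
          linear_combination h')).resolve_left (mul_ne_zero h2 u.ne_zero)
      refine ⟨hz, ?_⟩
      set W := LinearMap.ker (T - e • LinearMap.id)
      have hWp : W ≤ perpS Q W := fun x hx y hy => by
        simp only [QuadraticMap.polar, hz x hx, hz y hy, hz _ (W.add_mem hy hx), sub_zero]
      have h1 := finrank_perpS h.nd W
      have h3 := Submodule.finrank_mono hWp
      have h4 := h.dim
      omega
    have hsup : LinearMap.ker (T - w • LinearMap.id) ⊔ LinearMap.ker (T - (-w) • LinearMap.id) = ⊤ := by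
      refine Submodule.eq_top_iff'.mpr fun x => Submodule.mem_sup.mpr
        ⟨(2⁻¹ : F) • (x + w⁻¹ • T x), ?_, (2⁻¹ : F) • (x - w⁻¹ • T x), ?_, ?_⟩
      · rw [LinearMap.mem_ker, LinearMap.sub_apply, LinearMap.smul_apply, LinearMap.id_apply, sub_eq_zero]
        simp only [map_smul, map_add, hTT', smul_add, smul_smul]
        rw [add_comm]
        congr 1 <;> congr 1 <;> field_simp
      · rw [LinearMap.mem_ker, LinearMap.sub_apply, LinearMap.smul_apply, LinearMap.id_apply, sub_eq_zero]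
        simp only [map_smul, map_sub, hTT', smul_sub, smul_smul, neg_mul, neg_smul, sub_neg_eq_add]
        rw [sub_eq_neg_add]
        congr 1
        · congr 1; congr 1; field_simp
        · congr 1; field_simp
      · rw [← smul_add, add_add_sub_cancel, ← two_smul F x, smul_smul, inv_mul_cancel₀ h2, one_smul]
    have h3 := Submodule.finrank_add_le_finrank_add_finrank
      (LinearMap.ker (T - w • LinearMap.id)) (LinearMap.ker (T - (-w) • LinearMap.id))
    rw [hsup, finrank_top, h.dim] at h3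
    obtain ⟨hz, h4⟩ := hts w rfl
    have h5 := (hts (-w) (by ring)).2
    have hW : IsHalf Q n (LinearMap.ker (T - w • LinearMap.id)) := ⟨hz, by omega⟩
    set W := LinearMap.ker (T - w • LinearMap.id)
    have himg : S.img W = W := by
      have hTW : ∀ y ∈ W, S.T y = w • y := fun y hy => by
        rw [LinearMap.mem_ker, LinearMap.sub_apply, LinearMap.smul_apply, LinearMap.id_apply,
          sub_eq_zero, hT] at hy
        exact hy
      ext x
      constructor
      · rintro ⟨y, hy, rfl⟩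
        rw [hTW y hy]
        exact W.smul_mem w hy
      · intro hx
        refine ⟨w⁻¹ • x, W.smul_mem _ hx, ?_⟩
        rw [S.smul, hσ, RingEquiv.refl_apply, hTW x hx, smul_smul, inv_mul_cancel₀ hw0, one_smul]
    have hev := (h.even_defect_img_iff S hW).mp (by
      rw [himg, defect, inf_idem, Nat.sub_self]; exact even_two_mul 0)
    rw [(h.cls_eq_one_iff S).mpr hev] at hχ
    exact absurd hχ (by decide)
  · have hA : (S.mat : Matrix ι ι F) * (S.mat : Matrix ι ι F) = (u : F) • 1 := by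
      refine Matrix.toLin'.injective (LinearMap.ext fun v => ?_)
      rw [Matrix.toLin'_apply, Matrix.toLin'_apply, ← Matrix.mulVec_mulVec,
        ← S.T_eq_mulVec_of_refl hσ, ← S.T_eq_mulVec_of_refl hσ, hTT, Matrix.smul_mulVec,
        Matrix.one_mulVec]
    have h3 := hdet S hσ
    rw [det_of_sq_nonsquare hA hsq hn, hχ, hc] at h3
    simp only [Units.val_neg, Units.val_one, Int.cast_neg, Int.cast_one, neg_mul, one_mul] at h3
    exact pow_ne_zero n (neg_ne_zero.mpr u.ne_zero)
      ((mul_eq_zero.mp (show (2 : F) * (-(u : F)) ^ n = 0 by linear_combination h3)).resolve_left h2)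

/-- The classes of an involutory similarity outside a class character's kernel. -/
theorem SignChar.splitCount_graph {n : ℕ} (X : SignChar Q n) (hQ : Big Q) (h2 : (2 : F) ≠ 0)
    {S : Semi Q} {u : Fˣ} (hu : S * S = scalarHom Q u) (hσ : S.σ = RingEquiv.refl F)
    (hc : S.c = u) (hχ : X.sgn ⟨S, mem_simGroup.mpr hσ⟩ = -1) :
    let c := Cfsg.splitClassCount (X.dir.map (pomHom Q)) (Cfsg.Inn (Cfsg.POmega F ⇑Q)) (pomHom Q S)
    (c = 1 ∨ c = 2) ∧ (negIso Q ∈ Om Q → c = 2) := by
  intro c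
  have hn : c = _ := splitClassCount_map (fun g => X.iso_mem g) (pomHom Q S)
  have hS := mem_simGroup.mpr hσ
  set D := X.dir.map (outHom Q) with hD
  set C := (X.dir.map (pomHom Q) ⊓ Subgroup.centralizer {pomHom Q S}).map
      (QuotientGroup.mk' (Cfsg.Inn (Cfsg.POmega F ⇑Q))) with hC
  have hmem : ∀ y ∈ C, ∃ L ∈ X.dir, y = outHom Q L ∧
      pomHom Q L * pomHom Q S = pomHom Q S * pomHom Q L := by
    rintro _ ⟨_, ⟨⟨L, hL, rfl⟩, hy⟩, rfl⟩
    exact ⟨L, hL, rfl, Subgroup.mem_centralizer_singleton_iff.mp hy⟩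
  have hle : C ≤ D := by
    intro y hy
    obtain ⟨L, hL, rfl, -⟩ := hmem y hy
    exact ⟨L, hL, rfl⟩
  have hmul : c * Nat.card C = Nat.card D := by
    rw [hn, ← Nat.card_congr (Subgroup.subgroupOfEquivOfLe hle).toEquiv, mul_comm]
    exact Subgroup.card_mul_index _
  by_cases hz : negIso Q ∈ Om Q
  swap
  · rw [show Nat.card D = 2 from (X.card_map_dir_eq hQ h2).2 hz] at hmul
    exact ⟨(Nat.dvd_prime Nat.prime_two).mp ⟨_, hmul.symm⟩, fun h => absurd h hz⟩
  have hD4 : Nat.card D = 4 := (X.card_map_dir_eq hQ h2).1 hz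
  haveI : Finite D := Nat.finite_of_card_ne_zero (by omega)
  obtain ⟨x, y, hx, hy, hxy, hcomm⟩ := exists_pair_commute_gen hQ h2 hu hσ hc
  have hzC : outHom Q (isoHom Q (refl Q x * refl _ y)) ∈ C := by
    refine ⟨pomHom Q (isoHom Q (refl Q x * refl _ y)), ⟨⟨_, ?_, rfl⟩, ?_⟩, rfl⟩
    · refine X.mem_dir.mpr ⟨mem_simGroup.mpr rfl, ?_⟩
      rw [show (⟨isoHom Q (refl Q x * refl _ y), _⟩ : ↥(simGroup Q)) =
        ⟨isoHom Q (refl _ x), mem_simGroup.mpr rfl⟩ * ⟨isoHom Q (refl _ y), mem_simGroup.mpr rfl⟩ from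
          Subtype.ext (map_mul _ _ _), map_mul, X.sgn_refl x hx, X.sgn_refl y hy]
      decide
    · refine Subgroup.mem_centralizer_singleton_iff.mpr ?_
      rw [← map_mul, ← map_mul, hcomm]
  have hC1 : Nat.card C ≠ 1 := fun h => outHom_pair_ne_one hQ h2 hz hx hy hxy
    (Subgroup.mem_bot.mp (Subgroup.card_eq_one.mp h ▸ hzC))
  have hC4 : Nat.card C ≠ 4 := by
    intro h
    have heq : C = D := Subgroup.eq_of_le_of_card_ge hle (hD4.trans h.symm).le
    obtain ⟨r, hr, -, l, hl, hrl⟩ := X.map_outHom_comm_ne hQ h2 hz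
    have hcen : ∀ d ∈ D, d * outHom Q S = outHom Q S * d := by
      intro d hd
      obtain ⟨L, -, rfl, hcm⟩ := hmem d (heq.symm ▸ hd)
      exact congrArg (QuotientGroup.mk' (Cfsg.Inn (Cfsg.POmega F ⇑Q))) hcm
    have hsplit : ∀ t ∈ (simGroup Q).map (outHom Q),
        ∃ d ∈ D, t = d ∨ t = outHom Q S * d := by
      rintro _ ⟨T, hT, rfl⟩
      rcases Int.units_eq_one_or (X.sgn ⟨T, hT⟩) with e | e
      · exact ⟨_, (X.mem_map_dir_iff hQ h2 hT).mpr e, Or.inl rfl⟩
      · refine ⟨outHom Q (S⁻¹ * T), (X.mem_map_dir_iff hQ h2 (mul_mem (inv_mem hS) hT)).mpr ?_,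
          Or.inr (by rw [← map_mul, mul_inv_cancel_left])⟩
        rw [show (⟨S⁻¹ * T, _⟩ : ↥(simGroup Q)) = ⟨S, hS⟩⁻¹ * ⟨T, hT⟩ from rfl,
          map_mul, map_inv, hχ, e]
        decide
    have hDc : ∀ d ∈ D, ∀ d' ∈ D, d * d' = d' * d := fun d hd d' hd' => by
      haveI : Fact (Nat.Prime 2) := ⟨Nat.prime_two⟩
      exact congrArg Subtype.val (IsPGroup.commutative_of_card_eq_prime_sq (p := 2)
        (hD4.trans (by norm_num)) (⟨d, hd⟩ : D) ⟨d', hd'⟩)
    obtain ⟨d, hd, ed⟩ := hsplit r hr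
    obtain ⟨d', hd', ed'⟩ := hsplit l hl
    have hs' : ∀ d ∈ D, Commute (outHom Q S) d := fun d hd => (hcen d hd).symm
    have hdd' : Commute d d' := hDc d hd d' hd'
    refine hrl ?_
    rcases ed with rfl | rfl <;> rcases ed' with rfl | rfl
    · exact hdd'.eq
    · exact ((hs' _ hd).symm.mul_right hdd').eq
    · exact ((hs' _ hd').mul_left hdd').eq
    · exact (((Commute.refl _).mul_right (hs' _ hd')).mul_left
        ((hs' _ hd).symm.mul_right hdd')).eq
  have hdvd : Nat.card C ∣ 4 := ⟨c, by rw [mul_comm, hmul, hD4]⟩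
  obtain ⟨i, hi, e⟩ := (Nat.dvd_prime_pow Nat.prime_two (m := 2)).mp hdvd
  rcases i with _ | _ | _ | i
  · exact absurd e hC1
  · rw [e, hD4] at hmul
    exact ⟨Or.inr (by omega), fun _ => by omega⟩
  · exact absurd e hC4
  · omega

end generic

universe u

variable {F : Type u} [Field F] [Finite F] {m : ℕ}

theorem plus_graph (hm : 4 ≤ m) (h2 : (2 : F) ≠ 0)
    {γ : MulAut (Cfsg.POmega F ⇑(plusQ (F := F) m))} (hγ2 : orderOf γ = 2)
    {g : GL (Fin m ⊕ Fin m) F}
    (hg : g ∈ Cfsg.Geo.quadSimilarityGroup (F := F) ⇑(plusQ (F := F) m))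
    (hP : ¬ Cfsg.PreservesSingularClasses ⇑(plusQ (F := F) m)
      (g : Matrix (Fin m ⊕ Fin m) (Fin m ⊕ Fin m) F))
    (hi : Cfsg.IsInducedBySemilinearPOmega ⇑(plusQ (F := F) m) g (RingEquiv.refl F) γ) :
    let c := Cfsg.splitClassCount
      ((plusSign F (by omega : 3 ≤ m)).dir.map (pomHom _))
      (Cfsg.Inn (Cfsg.POmega F ⇑(plusQ (F := F) m))) γ
    (c = 1 ∨ c = 2) ∧ (¬ (Odd m ∧ Nat.card F % 4 = 3) → c = 2) := by
  have hm3 : 3 ≤ m := by omega
  have hQ := big_plus (F := F) hm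
  obtain ⟨S, hσ, rfl⟩ := exists_semi_of_mem hg
  obtain rfl : γ = pomHom _ S := (induced_iff S).mp (by rw [hσ]; exact hi)
  have hχ : (hypSpace_plusQ (K := F) hm3).cls S = -1 :=
    (Int.units_eq_one_or _).resolve_left fun e => hP
      (((hypSpace_plusQ hm3).preserves_iff fun v => S.T_eq_mulVec_of_refl hσ v).mpr e)
  have hsq1 : pomHom _ (S * S) = 1 := by
    have h := pow_orderOf_eq_one (pomHom _ S)
    rw [hγ2, pow_two] at h
    rw [map_mul]; exact h
  obtain ⟨u, hu⟩ := (mem_ker_pgHom hQ).mp (pomHom_eq_one_iff.mp hsq1)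
  have hc : S.c = u := (hypSpace_plusQ hm3).invol_c_eq (plusSign F hm3).card h2
    (fun L hL => (plusSign F hm3).det_eq ⟨L, mem_simGroup.mpr hL⟩) hu hσ hχ
  obtain ⟨h1, h3⟩ := (plusSign F hm3).splitCount_graph hQ h2 hu hσ hc hχ
  exact ⟨h1, fun h => h3 ((negIso_plus_iff hm h2).mpr h)⟩

theorem plus_graph_of (hm : 4 ≤ m) (h2 : (2 : F) ≠ 0) (q : (Fin m ⊕ Fin m → F) → F)
    (hq : q = ⇑(plusQ (F := F) m)) {γ : MulAut (Cfsg.POmega F q)} (hγ2 : orderOf γ = 2)
    {g : GL (Fin m ⊕ Fin m) F} (hg : g ∈ Cfsg.Geo.quadSimilarityGroup (F := F) q)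
    (hP : ¬ Cfsg.PreservesSingularClasses q (g : Matrix (Fin m ⊕ Fin m) (Fin m ⊕ Fin m) F))
    (hi : Cfsg.IsInducedBySemilinearPOmega q g (RingEquiv.refl F) γ) :
    let c := Cfsg.splitClassCount (classAut F q (Cfsg.PreservesSingularClasses q))
      (Cfsg.Inn (Cfsg.POmega F q)) γ
    (c = 1 ∨ c = 2) ∧ (¬ (Odd m ∧ Nat.card F % 4 = 3) → c = 2) := by
  subst hq
  rw [inndiagPlus_eq_map (by omega : 3 ≤ m)]
  exact plus_graph hm h2 hγ2 hg hP hi

end CfsgLib.AutPOm
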