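import Cfsg.Agent.AutPOm.Semilinear

/-!
The semilinear map read off from the action on the Siegel group of a fixed singular point.
-/

set_option autoImplicit false
set_option linter.style.haveILetI false

namespace CfsgLib.AutPOm

open QuadraticMap CfsgLib.Forms CfsgLib.Quad

variable {F V : Type*} [Field F] [AddCommGroup V] [Module F V] {Q : QuadraticForm F V}

open Classical in
/-- A Siegel transformation as an element of `Omega`. -/
noncomputable def omS (Q : QuadraticForm F V) (e w : V) : ↥(Om Q) :=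
  if h : siegel Q e w ∈ Om Q then ⟨siegel Q e w, h⟩ else 1

theorem projW_add (e f x y : V) : projW Q e f (x + y) = projW Q e f x + projW Q e f y := by
  simp only [projW, polar_add_left, add_smul]
  abel

theorem projW_smul (e f : V) (t : F) (x : V) : projW Q e f (t • x) = t • projW Q e f x := by
  simp only [projW, polar_smul_left, smul_eq_mul, smul_sub, smul_smul]

theorem projW_of_inW {e f w : V} (hw : InW Q e f w) : projW Q e f w = w := by
  simp only [projW, polar_comm (⇑Q) w, hw.1, hw.2, zero_smul, sub_zero]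

theorem polar_projW {e f w x : V} (hw : InW Q e f w) :
    polar Q w (projW Q e f x) = polar Q w x := by
  simp only [projW, polar_sub_right, polar_smul_right, polar_comm (⇑Q) w e, polar_comm (⇑Q) w f,
    hw.1, hw.2, smul_zero, sub_zero]

theorem quad_projW {e f x : V} (H : HPair Q e f) (hx : polar Q e x = 0) :
    Q (projW Q e f x) = Q x := by
  rw [projW, polar_comm (⇑Q) x e, hx, zero_smul, sub_zero, sub_eq_add_neg, ← neg_smul, quad_add,
    quad_smul, H.ee, polar_smul_right, polar_comm (⇑Q) x e, hx, smul_zero, mul_zero, add_zero,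
    add_zero]

theorem InW.pair_perp {e f u v x : V} (hu : InW Q e f u) (hv : InW Q e f v) (hx : InW Q e f x) :
    InW Q e f (projW Q u v x) := by
  constructor <;>
  simp only [projW, polar_sub_right, polar_smul_right, hu.1, hu.2, hv.1, hv.2, hx.1, hx.2,
    smul_zero, sub_zero]

variable [FiniteDimensional F V] [Finite F] (hQ : Big Q)
include hQ

theorem omS_coe {e w : V} (he : Q e = 0) (hew : polar Q e w = 0) :
    (omS Q e w).1 = siegel Q e w := by
  rw [omS, dif_pos]
  exact siegel_mem_commutator hQ.nd hQ.five he hew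

theorem omS_mul {e a b : V} (he : Q e = 0) (hea : polar Q e a = 0) (heb : polar Q e b = 0) :
    omS Q e a * omS Q e b = omS Q e (a + b) := by
  refine Subtype.ext ?_
  rw [Subgroup.coe_mul, omS_coe hQ he hea, omS_coe hQ he heb,
    omS_coe hQ he (by rw [polar_add_right, hea, heb, add_zero]), siegel_mul he hea heb]

/-- A hyperbolic pair inside the orthogonal of a pair. -/
theorem exists_pair_inW {e f : V} (H : HPair Q e f) :
    ∃ u v, HPair Q u v ∧ InW Q e f u ∧ InW Q e f v := by
  obtain ⟨a, ha, ha0, hQa⟩ := exists_singular_of_three (Q := Q) (wSub Q e f) (by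
    have := finrank_wSub hQ e f
    have := hQ.dim
    omega)
  have haW := mem_wSub.mp ha
  obtain ⟨g, G⟩ := exists_pair_of_singular hQ ha0 hQa
  set y := projW Q e f g with hy
  have hay : polar Q a y = 1 := by rw [hy, polar_projW haW, G.ef]
  refine ⟨a, y + (-Q y) • a, ⟨hQa, ?_, ?_⟩, haW, (inW_projW H g).add (haW.smul _)⟩
  · rw [quad_add, quad_smul, hQa, polar_smul_right, polar_comm (⇑Q) y a, hay, smul_eq_mul]
    ring
  · rw [polar_add_right, polar_smul_right, polar_self_zero hQa, smul_zero, add_zero, hay]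

/-- The orthogonal of a pair is spanned by its singular vectors. -/
theorem inW_induction {e f : V} (H : HPair Q e f) {P : V → Prop} (h0 : P 0)
    (hadd : ∀ a b, InW Q e f a → InW Q e f b → P a → P b → P (a + b))
    (hsing : ∀ a, InW Q e f a → Q a = 0 → P a) {w : V} (hw : InW Q e f w) : P w := by
  obtain ⟨u, v, G, hu, hv⟩ := exists_pair_inW hQ H
  have hmem : w ∈ Submodule.span F {x | x ∈ wSub Q e f ∧ Q x = 0} := by
    rw [span_singular_eq hQ.nd (mem_wSub.mpr hu) (mem_wSub.mpr hv) G.ee
      (by rw [G.ef]; exact one_ne_zero)]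
    exact mem_wSub.mpr hw
  have key : ∀ x ∈ Submodule.span F {x | x ∈ wSub Q e f ∧ Q x = 0},
      InW Q e f x ∧ ∀ t : F, P (t • x) := by
    intro x hx
    induction hx using Submodule.span_induction with
    | mem x hx =>
      exact ⟨mem_wSub.mp hx.1, fun t => hsing _ ((mem_wSub.mp hx.1).smul t)
        (by rw [quad_smul, hx.2, mul_zero])⟩
    | zero => exact ⟨inW_zero e f, fun t => by rw [smul_zero]; exact h0⟩
    | add x y _ _ hx hy =>
      exact ⟨hx.1.add hy.1, fun t => by
        rw [smul_add]; exact hadd _ _ (hx.1.smul t) (hy.1.smul t) (hx.2 t) (hy.2 t)⟩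
    | smul c x _ hx => exact ⟨hx.1.smul c, fun t => by rw [smul_smul]; exact hx.2 _⟩
  have := (key w hmem).2 1
  rwa [one_smul] at this

theorem inW_perp_induction {e f u v : V} (H : HPair Q e f) (G : HPair Q u v) (hu : InW Q e f u)
    (hv : InW Q e f v) {P : V → Prop} (h0 : P 0)
    (hadd : ∀ a b, InW Q e f a → InW Q u v a → InW Q e f b → InW Q u v b → P a → P b → P (a + b))
    (hsing : ∀ a, InW Q e f a → InW Q u v a → Q a = 0 → P a) {w : V} (hw : InW Q e f w)
    (hw' : InW Q u v w) : P w := by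
  set K := wSub Q e f ⊓ wSub Q u v
  have hmemK : ∀ x, x ∈ K ↔ InW Q e f x ∧ InW Q u v x := fun x =>
    and_congr mem_wSub mem_wSub
  have hK : 3 ≤ Module.finrank F K := by
    have h1 := Submodule.finrank_sup_add_finrank_inf_eq (wSub Q e f) (wSub Q u v)
    have h2 := Submodule.finrank_le (wSub Q e f ⊔ wSub Q u v)
    have h3 := finrank_wSub hQ e f
    have h4 := finrank_wSub hQ u v
    have h5 := hQ.dim
    change 3 ≤ Module.finrank F ↥(wSub Q e f ⊓ wSub Q u v)
    omega
  obtain ⟨z, hz, hz0, hQz⟩ := exists_singular_of_three (Q := Q) K hK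
  obtain ⟨hzW, hzU⟩ := (hmemK z).mp hz
  obtain ⟨g, G'⟩ := exists_pair_of_singular hQ hz0 hQz
  set y := projW Q u v (projW Q e f g) with hy
  have hyK : y ∈ K := (hmemK y).mpr ⟨hu.pair_perp hv (inW_projW H g), inW_projW G _⟩
  have hzy : polar Q z y ≠ 0 := by
    rw [hy, polar_projW hzU, polar_projW hzW, G'.ef]
    exact one_ne_zero
  have hmem : w ∈ Submodule.span F {x | x ∈ K ∧ Q x = 0} := by
    rw [span_singular_eq hQ.nd hz hyK hQz hzy]
    exact (hmemK w).mpr ⟨hw, hw'⟩
  have key : ∀ x ∈ Submodule.span F {x | x ∈ K ∧ Q x = 0},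
      x ∈ K ∧ ∀ t : F, P (t • x) := by
    intro x hx
    induction hx using Submodule.span_induction with
    | mem x hx =>
      exact ⟨hx.1, fun t => hsing _ (((hmemK x).mp hx.1).1.smul t) (((hmemK x).mp hx.1).2.smul t)
        (by rw [quad_smul, hx.2, mul_zero])⟩
    | zero => exact ⟨K.zero_mem, fun t => by rw [smul_zero]; exact h0⟩
    | add x y _ _ hx hy =>
      exact ⟨K.add_mem hx.1 hy.1, fun t => by
        rw [smul_add]
        exact hadd _ _ (((hmemK x).mp hx.1).1.smul t) (((hmemK x).mp hx.1).2.smul t)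
          (((hmemK y).mp hy.1).1.smul t) (((hmemK y).mp hy.1).2.smul t) (hx.2 t) (hy.2 t)⟩
    | smul c x _ hx => exact ⟨K.smul_mem c hx.1, fun t => by rw [smul_smul]; exact hx.2 _⟩
  have := (key w hmem).2 1
  rwa [one_smul] at this

variable (p : ℕ) [Fact p.Prime] [CharP F p]

include p in
theorem omS_img_inj {e f a b : V} (H : HPair Q e f) (ha : InW Q e f a) (hb : InW Q e f b)
    (h : toPG Q (omS Q e a) = toPG Q (omS Q e b)) : a = b := by
  have hp1 : ∀ x, InW Q e f x → omS Q e x ^ p ^ 1 = 1 := fun x hx => Subtype.ext (by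
    rw [SubgroupClass.coe_pow, omS_coe hQ H.ee hx.1, pow_one, siegel_pow_char H.ee hx.1 p]
    rfl)
  have h1 := congrArg Subtype.val (lift_unique hQ p (hp1 a ha) (hp1 b hb) h)
  rw [omS_coe hQ H.ee ha.1, omS_coe hQ H.ee hb.1] at h1
  exact siegel_param_W H ha hb h1

variable (γ : PG Q ≃* PG Q) {e f : V} (H : HPair Q e f)
  (he : ∀ N : Ln Q, e ∈ N.1 ↔ e ∈ (lineMap hQ p γ N).1)
include H he

/-- Singular vectors go to singular vectors, scalar multiples to scalar multiples. -/
theorem psi_singular {a : V} (ha : InW Q e f a) (hQa : Q a = 0) :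
    ∃ v, InW Q e f v ∧ Q v = 0 ∧
      ∀ t : F, ∃ s : F, γ (toPG Q (omS Q e (t • a))) = toPG Q (omS Q e (s • v)) := by
  rcases eq_or_ne a 0 with rfl | ha0
  · refine ⟨0, inW_zero e f, QuadraticMap.map_zero _, fun t => ⟨0, ?_⟩⟩
    have h1 : omS Q e (0 : V) = 1 := Subtype.ext (by
      rw [omS_coe hQ H.ee (polar_zero_right Q e), siegel_zero H.ee]; rfl)
    rw [smul_zero, smul_zero, h1, map_one, map_one]
  let N : Ln Q :=
    ⟨_, isLine_span (linearIndependent_pair_of H.ne_zero (ha.not_mem H ha0)) H.ee hQa ha.1⟩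
  have heN : e ∈ (lineMap hQ p γ N).1 := (he N).mp (left_mem_pair e a)
  obtain ⟨v, hev, hve, hQv, hpev⟩ := exists_second heN H.ne_zero
  refine ⟨projW Q e f v, inW_projW H v, by rw [quad_projW H hpev, hQv], fun t => ?_⟩
  have hN : toPG Q (omS Q e (t • a)) ∈ rootImg Q N.1 := ⟨_, Subgroup.mem_subgroupOf.mpr (by
    rw [omS_coe hQ H.ee (by rw [polar_smul_right, ha.1, smul_zero])]
    exact siegel_mem_rootGrp (left_mem_pair e a)
      (Submodule.smul_mem _ t (right_mem_pair e a))), rfl⟩
  obtain ⟨g, hg, hge⟩ := lineMap_mem hQ p γ N hN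
  obtain ⟨s, hs⟩ := (mem_rootGrp_pair H.ee hQv hpev).mp (hev ▸ Subgroup.mem_subgroupOf.mp hg)
  refine ⟨s, hge.symm.trans (congrArg (toPG Q) (Subtype.ext ?_))⟩
  rw [hs, omS_coe hQ H.ee (by rw [polar_smul_right, (inW_projW H v).1, smul_zero]),
    ← projW_smul, ← siegel_proj H (by rw [polar_smul_right, hpev, smul_zero])]

theorem exists_psi_val {w : V} (hw : InW Q e f w) :
    ∃ w', InW Q e f w' ∧ γ (toPG Q (omS Q e w)) = toPG Q (omS Q e w') := by
  refine inW_induction hQ H (P := fun w => ∃ w', InW Q e f w' ∧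
    γ (toPG Q (omS Q e w)) = toPG Q (omS Q e w')) ?_ ?_ ?_ hw
  · have h1 : omS Q e (0 : V) = 1 := Subtype.ext (by
      rw [omS_coe hQ H.ee (polar_zero_right Q e), siegel_zero H.ee]; rfl)
    exact ⟨0, inW_zero e f, by rw [h1, map_one, map_one]⟩
  · rintro a b ha hb ⟨a', ha', hae⟩ ⟨b', hb', hbe⟩
    refine ⟨a' + b', ha'.add hb', ?_⟩
    rw [← omS_mul hQ H.ee ha.1 hb.1, map_mul, map_mul, hae, hbe, ← map_mul,
      omS_mul hQ H.ee ha'.1 hb'.1]
  · intro a ha hQa
    obtain ⟨v, hv, -, hs⟩ := psi_singular hQ p γ H he ha hQa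
    obtain ⟨s, hs⟩ := hs 1
    rw [one_smul] at hs
    exact ⟨s • v, hv.smul s, hs⟩

/-- The map on the orthogonal of the pair. -/
noncomputable def psi (w : V) : V :=
  haveI := Classical.propDecidable (InW Q e f w)
  if h : InW Q e f w then Classical.choose (exists_psi_val hQ p γ H he h) else 0

theorem psi_inW {w : V} (hw : InW Q e f w) : InW Q e f (psi hQ p γ H he w) := by
  rw [psi, dif_pos hw]
  exact (Classical.choose_spec (exists_psi_val hQ p γ H he hw)).1

theorem psi_spec {w : V} (hw : InW Q e f w) :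
    γ (toPG Q (omS Q e w)) = toPG Q (omS Q e (psi hQ p γ H he w)) := by
  rw [psi, dif_pos hw]
  exact (Classical.choose_spec (exists_psi_val hQ p γ H he hw)).2

theorem psi_eq {w w' : V} (hw : InW Q e f w) (hw' : InW Q e f w')
    (h : γ (toPG Q (omS Q e w)) = toPG Q (omS Q e w')) : psi hQ p γ H he w = w' :=
  omS_img_inj hQ p H (psi_inW hQ p γ H he hw) hw' ((psi_spec hQ p γ H he hw).symm.trans h)

theorem psi_add {a b : V} (ha : InW Q e f a) (hb : InW Q e f b) :
    psi hQ p γ H he (a + b) = psi hQ p γ H he a + psi hQ p γ H he b := by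
  refine psi_eq hQ p γ H he (ha.add hb)
    ((psi_inW hQ p γ H he ha).add (psi_inW hQ p γ H he hb)) ?_
  rw [← omS_mul hQ H.ee ha.1 hb.1, map_mul, map_mul, psi_spec hQ p γ H he ha,
    psi_spec hQ p γ H he hb, ← map_mul,
    omS_mul hQ H.ee (psi_inW hQ p γ H he ha).1 (psi_inW hQ p γ H he hb).1]

theorem psi_zero : psi hQ p γ H he 0 = 0 := by
  have h := psi_add hQ p γ H he (inW_zero e f) (inW_zero e f)
  rw [add_zero] at h
  exact left_eq_add.mp h

theorem psi_injOn {a b : V} (ha : InW Q e f a) (hb : InW Q e f b)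
    (h : psi hQ p γ H he a = psi hQ p γ H he b) : a = b := by
  refine omS_img_inj hQ p H ha hb (γ.injective ?_)
  rw [psi_spec hQ p γ H he ha, psi_spec hQ p γ H he hb, h]

theorem he_symm : ∀ N : Ln Q, e ∈ N.1 ↔ e ∈ (lineMap hQ p γ.symm N).1 := fun N => by
  conv_lhs => rw [← lineMap_symm hQ p γ.symm N]
  exact (he (lineMap hQ p γ.symm N)).symm

theorem psi_symm {a : V} (ha : InW Q e f a) :
    psi hQ p γ.symm H (he_symm hQ p γ H he) (psi hQ p γ H he a) = a := by
  refine psi_eq hQ p γ.symm H _ (psi_inW hQ p γ H he ha) ha ?_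
  rw [← psi_spec hQ p γ H he ha, MulEquiv.symm_apply_apply]

theorem psi_surjOn {b : V} (hb : InW Q e f b) : ∃ a, InW Q e f a ∧ psi hQ p γ H he a = b := by
  obtain ⟨a, ha, h⟩ := exists_psi_val hQ p γ.symm H (he_symm hQ p γ H he) hb
  refine ⟨a, ha, psi_eq hQ p γ H he ha hb ?_⟩
  rw [← h, MulEquiv.apply_symm_apply]

theorem psi_quad_zero {a : V} (ha : InW Q e f a) (hQa : Q a = 0) :
    Q (psi hQ p γ H he a) = 0 := by
  obtain ⟨v, hv, hQv, hs⟩ := psi_singular hQ p γ H he ha hQa
  obtain ⟨s, hs⟩ := hs 1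
  rw [one_smul] at hs
  rw [psi_eq hQ p γ H he ha (hv.smul s) hs, quad_smul, hQv, mul_zero]

theorem psi_multiple {a : V} (ha : InW Q e f a) (hQa : Q a = 0) (t : F) :
    ∃ s : F, psi hQ p γ H he (t • a) = s • psi hQ p γ H he a := by
  rcases eq_or_ne a 0 with rfl | ha0
  · exact ⟨0, by rw [smul_zero, psi_zero, smul_zero]⟩
  obtain ⟨v, hv, hQv, hs⟩ := psi_singular hQ p γ H he ha hQa
  obtain ⟨s₁, hs₁⟩ := hs 1
  obtain ⟨s, hst⟩ := hs t
  rw [one_smul] at hs₁
  have h1 := psi_eq hQ p γ H he ha (hv.smul s₁) hs₁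
  have h2 := psi_eq hQ p γ H he (ha.smul t) (hv.smul s) hst
  have hs₁0 : s₁ ≠ 0 := by
    rintro rfl
    rw [zero_smul] at h1
    exact ha0 (psi_injOn hQ p γ H he ha (inW_zero e f) (h1.trans (psi_zero hQ p γ H he).symm))
  exact ⟨s * s₁⁻¹, by rw [h1, h2, smul_smul, mul_assoc, inv_mul_cancel₀ hs₁0, mul_one]⟩

theorem psi_li {a b : V} (ha : InW Q e f a) (hQa : Q a = 0) (hb : InW Q e f b)
    (hli : LinearIndependent F ![a, b]) :
    LinearIndependent F ![psi hQ p γ H he a, psi hQ p γ H he b] := by
  have ha0 : a ≠ 0 := hli.ne_zero 0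
  refine linearIndependent_pair_of (fun h => ha0 (psi_injOn hQ p γ H he ha (inW_zero e f)
    (h.trans (psi_zero hQ p γ H he).symm))) fun h => (notMem_span_of_pair hli).2 ?_
  obtain ⟨k, hk⟩ := Submodule.mem_span_singleton.mp h
  obtain ⟨t, ht⟩ := psi_multiple hQ p γ.symm H (he_symm hQ p γ H he)
    (psi_inW hQ p γ H he ha) (psi_quad_zero hQ p γ H he ha hQa) k
  rw [psi_symm hQ p γ H he ha, hk, psi_symm hQ p γ H he hb] at ht
  exact Submodule.mem_span_singleton.mpr ⟨t, ht.symm⟩

theorem psi_scalar_eq {a b : V} (ha : InW Q e f a) (hQa : Q a = 0) (hb : InW Q e f b)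
    (hQb : Q b = 0) (hab : polar Q a b = 0) (hli : LinearIndependent F ![a, b]) {t s r : F}
    (hs : psi hQ p γ H he (t • a) = s • psi hQ p γ H he a)
    (hr : psi hQ p γ H he (t • b) = r • psi hQ p γ H he b) : s = r := by
  obtain ⟨u, hu⟩ := psi_multiple hQ p γ H he (ha.add hb)
    (by rw [quad_add, hQa, hQb, hab, add_zero, add_zero]) t
  rw [smul_add, psi_add hQ p γ H he (ha.smul t) (hb.smul t), psi_add hQ p γ H he ha hb, hs, hr,
    smul_add] at hu
  have := LinearIndependent.pair_iff.mp (psi_li hQ p γ H he ha hQa hb hli) (s - u) (r - u)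
    (by rw [sub_smul, sub_smul, sub_add_sub_comm, hu, sub_self])
  exact (sub_eq_zero.mp this.1).trans (sub_eq_zero.mp this.2).symm

/-- The map is semilinear. -/
theorem psi_semilinear : ∃ σ : F ≃+* F, ∀ w, InW Q e f w → ∀ t : F,
    psi hQ p γ H he (t • w) = σ t • psi hQ p γ H he w := by
  obtain ⟨a₀, ha₀, ha₀0, hQa₀⟩ := exists_singular_of_three (Q := Q) (wSub Q e f) (by
    have := finrank_wSub hQ e f
    have := hQ.dim
    omega)
  have hW₀ := mem_wSub.mp ha₀
  choose σ hσ using psi_multiple hQ p γ H he hW₀ hQa₀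
  have hne : ∀ a, InW Q e f a → a ≠ 0 → psi hQ p γ H he a ≠ 0 := fun a ha ha0 h =>
    ha0 (psi_injOn hQ p γ H he ha (inW_zero e f) (h.trans (psi_zero hQ p γ H he).symm))
  have hsing : ∀ a, InW Q e f a → Q a = 0 → ∀ t : F,
      psi hQ p γ H he (t • a) = σ t • psi hQ p γ H he a := by
    intro a ha hQa t
    rcases eq_or_ne a 0 with rfl | ha0
    · rw [smul_zero, psi_zero, smul_zero]
    set S := Submodule.span F {e, f} ⊔ Submodule.span F {a₀, a} with hS
    have hdim : 3 ≤ Module.finrank F (perpS Q S) := by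
      have hpair : ∀ x y : V, Module.finrank F (Submodule.span F {x, y}) ≤ 2 := fun x y => by
        have h := finrank_range_le_card (R := F) ![x, y]
        rwa [Set.finrank, Matrix.range_cons, Matrix.range_cons, Matrix.range_empty, Set.union_empty,
          Set.singleton_union, Fintype.card_fin] at h
      have h1 := hpair e f
      have h2 := hpair a₀ a
      have h3 : Module.finrank F S ≤ Module.finrank F (Submodule.span F {e, f}) +
          Module.finrank F (Submodule.span F {a₀, a}) :=
        Submodule.finrank_add_le_finrank_add_finrank _ _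
      have h4 : Module.finrank F V ≤ Module.finrank F (perpS Q S) + 4 :=
        finrank_perp_le hQ (show Module.finrank F S ≤ 4 by omega)
      have := hQ.dim
      omega
    obtain ⟨b, hb, hb0, hQb⟩ := exists_singular_of_three (Q := Q) (perpS Q S) hdim
    have hbW : InW Q e f b := ⟨hb e (Submodule.mem_sup_left (left_mem_pair e f)),
      hb f (Submodule.mem_sup_left (right_mem_pair e f))⟩
    have hb₀ : polar Q a₀ b = 0 := hb a₀ (Submodule.mem_sup_right (left_mem_pair a₀ a))
    have hba : polar Q a b = 0 := hb a (Submodule.mem_sup_right (right_mem_pair a₀ a))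
    obtain ⟨r, hr⟩ := psi_multiple hQ p γ H he ha hQa t
    -- transfer through a common orthogonal singular vector
    have step : ∀ x y : V, InW Q e f x → InW Q e f y → Q x = 0 → Q y = 0 → polar Q x y = 0 → x ≠ 0 →
        y ≠ 0 → ∀ s : F, psi hQ p γ H he (t • x) = s • psi hQ p γ H he x →
          psi hQ p γ H he (t • y) = s • psi hQ p γ H he y := by
      intro x y hx hy hQx hQy hxy hx0 hy0 s hs
      by_cases hli : y ∈ Submodule.span F {x}
      · obtain ⟨k, rfl⟩ := Submodule.mem_span_singleton.mp hli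
        -- a third vector independent of `x`
        obtain ⟨g, G⟩ := exists_pair_of_singular hQ hx0 hQx
        obtain ⟨z, hz, hz0, hQz⟩ := exists_singular_of_three (Q := Q)
          (perpS Q (Submodule.span F {e, f} ⊔ Submodule.span F {x, projW Q e f g})) (by
            have hpair : ∀ u v : V, Module.finrank F (Submodule.span F {u, v}) ≤ 2 := fun u v => by
              have h := finrank_range_le_card (R := F) ![u, v]
              rwa [Set.finrank, Matrix.range_cons, Matrix.range_cons, Matrix.range_empty,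
                Set.union_empty, Set.singleton_union, Fintype.card_fin] at h
            have h1 := hpair e f
            have h2 := hpair x (projW Q e f g)
            have h3 := Submodule.finrank_add_le_finrank_add_finrank (Submodule.span F {e, f})
              (Submodule.span F {x, projW Q e f g})
            have h4 := finrank_perp_le hQ (S := Submodule.span F {e, f} ⊔
              Submodule.span F {x, projW Q e f g}) (k := 4) (by omega)
            have := hQ.dim
            omega)
        have hzW : InW Q e f z := ⟨hz e (Submodule.mem_sup_left (left_mem_pair e f)),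
          hz f (Submodule.mem_sup_left (right_mem_pair e f))⟩
        have hxz : polar Q x z = 0 := hz x (Submodule.mem_sup_right (left_mem_pair _ _))
        have hzx : z ∉ Submodule.span F {x} := by
          intro h
          obtain ⟨m, rfl⟩ := Submodule.mem_span_singleton.mp h
          have h1 := hz _ (Submodule.mem_sup_right (right_mem_pair x (projW Q e f g)))
          rw [polar_smul_right, polar_comm, polar_projW hx, G.ef, smul_eq_mul, mul_one] at h1
          exact hz0 (by rw [h1, zero_smul])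
        obtain ⟨r', hr'⟩ := psi_multiple hQ p γ H he hzW hQz t
        obtain ⟨r'', hr''⟩ := psi_multiple hQ p γ H he hy hQy t
        have hk : k ≠ 0 := fun h => hy0 (by rw [h, zero_smul])
        have e1 := psi_scalar_eq hQ p γ H he hx hQx hzW hQz hxz
          (linearIndependent_pair_of hx0 hzx) hs hr'
        have e2 := psi_scalar_eq hQ p γ H he hy hQy hzW hQz
          (by rw [polar_smul_left, hxz, smul_zero])
          (linearIndependent_pair_of hy0 fun h => hzx
            ((Submodule.span_singleton_le_iff_mem _ _).mpr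
              (Submodule.smul_mem _ k (Submodule.mem_span_singleton_self x)) h)) hr'' hr'
        rw [hr'', e2, ← e1]
      · obtain ⟨r', hr'⟩ := psi_multiple hQ p γ H he hy hQy t
        rw [hr', psi_scalar_eq hQ p γ H he hx hQx hy hQy hxy
          (linearIndependent_pair_of hx0 hli) hs hr']
    exact step b a hbW ha hQb hQa (by rw [polar_comm, hba]) hb0 ha0 _
      (step a₀ b hW₀ hbW hQa₀ hQb hb₀ ha₀0 hb0 _ (hσ t))
  have hmul : ∀ s t, σ (s * t) = σ s * σ t := fun s t => by
    have h1 := hσ (s * t)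
    rw [← smul_smul, hsing _ (hW₀.smul t) (by rw [quad_smul, hQa₀, mul_zero]) s, hσ t,
      smul_smul] at h1
    exact (smul_left_injective F (hne a₀ hW₀ ha₀0) h1).symm
  have hadd : ∀ s t, σ (s + t) = σ s + σ t := fun s t => by
    have h1 := hσ (s + t)
    rw [add_smul, psi_add hQ p γ H he (hW₀.smul s) (hW₀.smul t), hσ s, hσ t, ← add_smul] at h1
    exact (smul_left_injective F (hne a₀ hW₀ ha₀0) h1).symm
  have h1 : σ 1 = 1 := by
    have h := hσ 1
    rw [one_smul] at h
    exact smul_left_injective F (hne a₀ hW₀ ha₀0) (h.symm.trans (one_smul F _).symm)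
  let σ' : F →+* F := RingHom.mk' ⟨⟨σ, h1⟩, hmul⟩ hadd
  refine ⟨RingEquiv.ofBijective σ' (Finite.injective_iff_bijective.mp σ'.injective),
    fun w hw t => ?_⟩
  change _ = σ t • _
  refine inW_induction hQ H
    (P := fun w => psi hQ p γ H he (t • w) = σ t • psi hQ p γ H he w) ?_ ?_ ?_ hw
  · rw [smul_zero, psi_zero, smul_zero]
  · intro a b ha hb h h'
    rw [smul_add, psi_add hQ p γ H he (ha.smul t) (hb.smul t), h, h',
      psi_add hQ p γ H he ha hb, smul_add]
  · exact fun a ha hQa => hsing a ha hQa t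

/-- The map is a semisimilarity. -/
theorem psi_similitude : ∃ (σ : F ≃+* F) (c : Fˣ), (∀ w, InW Q e f w → ∀ t : F,
    psi hQ p γ H he (t • w) = σ t • psi hQ p γ H he w) ∧
    ∀ w, InW Q e f w → Q (psi hQ p γ H he w) = (c : F) * σ (Q w) := by
  obtain ⟨σ, hσ⟩ := psi_semilinear hQ p γ H he
  set ψ := psi hQ p γ H he with hψdef
  have hψadd : ∀ {a b}, InW Q e f a → InW Q e f b → ψ (a + b) = ψ a + ψ b :=
    fun ha hb => psi_add hQ p γ H he ha hb
  have hψzero : ∀ {a}, InW Q e f a → Q a = 0 → Q (ψ a) = 0 :=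
    fun ha hQa => psi_quad_zero hQ p γ H he ha hQa
  let R : V → F := fun x => σ.symm (Q (ψ x))
  let RB : V → V → F := fun x y => σ.symm (polar Q (ψ x) (ψ y))
  have hR : ∀ {x y}, InW Q e f x → InW Q e f y → R (x + y) = R x + R y + RB x y := fun hx hy => by
    simp only [R, RB, hψadd hx hy, quad_add, map_add]
  have hRs : ∀ {x} (t : F), InW Q e f x → R (t • x) = t * t * R x := fun t hx => by
    simp only [R, hσ _ hx, quad_smul, map_mul, RingEquiv.symm_apply_apply]
  have hBa : ∀ {x y z}, InW Q e f y → InW Q e f z → RB x (y + z) = RB x y + RB x z :=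
    fun hy hz => by simp only [RB, hψadd hy hz, polar_add_right, map_add]
  have hBs : ∀ {x y} (t : F), InW Q e f x → RB (t • x) y = t * RB x y := fun t hx => by
    simp only [RB, hσ _ hx, polar_smul_left, smul_eq_mul, map_mul, RingEquiv.symm_apply_apply]
  have hBs' : ∀ {x y} (t : F), InW Q e f y → RB x (t • y) = t * RB x y := fun t hy => by
    simp only [RB, hσ _ hy, polar_smul_right, smul_eq_mul, map_mul, RingEquiv.symm_apply_apply]
  have hBl : ∀ {x y z}, InW Q e f x → InW Q e f y → RB (x + y) z = RB x z + RB y z :=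
    fun hx hy => by simp only [RB, hψadd hx hy, polar_add_left, map_add]
  have hR0 : ∀ {x}, InW Q e f x → Q x = 0 → R x = 0 := fun hx hQx => by
    simp only [R, hψzero hx hQx, map_zero]
  obtain ⟨u, v, G, hu, hv⟩ := exists_pair_inW hQ H
  have hzero : ∀ w, InW Q e f w → InW Q u v w → RB u w = 0 ∧ RB v w = 0 := by
    intro w hw hw'
    refine inW_perp_induction hQ H G hu hv (P := fun w => RB u w = 0 ∧ RB v w = 0) ?_ ?_ ?_ hw hw'
    · simp only [RB, hψdef, psi_zero, polar_zero_right, map_zero, and_self]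
    · intro a b ha _ hb _ h h'
      exact ⟨by rw [hBa ha hb, h.1, h'.1, add_zero], by rw [hBa ha hb, h.2, h'.2, add_zero]⟩
    · intro a ha ha' hQa
      constructor
      · have h := hR hu ha
        rw [hR0 hu G.ee, hR0 ha hQa, hR0 (hu.add ha)
          (by rw [quad_add, G.ee, hQa, ha'.1, add_zero, add_zero]), zero_add, zero_add] at h
        exact h.symm
      · have h := hR hv ha
        rw [hR0 hv G.ff, hR0 ha hQa, hR0 (hv.add ha)
          (by rw [quad_add, G.ff, hQa, ha'.2, add_zero, add_zero]), zero_add, zero_add] at h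
        exact h.symm
  set s := RB u v
  have hlin : ∀ a b : F, InW Q e f (a • u + b • v) ∧ R (a • u + b • v) = a * b * s := fun a b =>
    ⟨(hu.smul a).add (hv.smul b), by
      rw [hR (hu.smul a) (hv.smul b), hRs a hu, hRs b hv, hR0 hu G.ee, hR0 hv G.ff, hBs a hu,
        hBs' b hv]
      ring⟩
  have hcross : ∀ (a b : F) w, InW Q e f w → InW Q u v w → RB (a • u + b • v) w = 0 :=
    fun a b w hw hw' => by
      rw [hBl (hu.smul a) (hv.smul b), hBs a hu, hBs b hv, (hzero w hw hw').1, (hzero w hw hw').2,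
        mul_zero, mul_zero, add_zero]
  have hU : ∀ w, InW Q e f w → InW Q u v w → R w = s * Q w := by
    intro w hw hw'
    have h := hR (hlin 1 (-Q w)).1 hw
    rw [(hlin 1 (-Q w)).2, hcross _ _ w hw hw', hR0 ((hlin 1 (-Q w)).1.add hw) ?_] at h
    · linear_combination -h
    · simp only [quad_add, quad_smul, G.ee, G.ff, polar_add_left, polar_smul_left, polar_smul_right,
        hw'.1, hw'.2, G.ef, smul_eq_mul]
      ring
  have hall : ∀ w, InW Q e f w → R w = s * Q w := by
    intro w hw
    have hu' := inW_projW G w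
    have hpW : InW Q e f (projW Q u v w) := hu.pair_perp hv hw
    have hd := decomp (Q := Q) (e := u) (f := v) w
    have hlin' := hlin (polar Q w v) (polar Q w u)
    rw [hd]
    rw [hR hlin'.1 hpW, hlin'.2, hcross _ _ _ hpW hu', hU _ hpW hu']
    simp only [quad_add, quad_smul, G.ee, G.ff, polar_add_left, polar_smul_left, polar_smul_right,
      hu'.1, hu'.2, G.ef, smul_eq_mul]
    ring
  have hs : s ≠ 0 := by
    intro h0
    obtain ⟨b, hb, hQb⟩ := exists_aniso_of_finrank hQ.nd (K := wSub Q e f) (by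
      have := finrank_wSub hQ e f
      have := hQ.dim
      omega)
    obtain ⟨a, ha, rfl⟩ := psi_surjOn hQ p γ H he (mem_wSub.mp hb)
    have h := hall a ha
    rw [h0, zero_mul] at h
    exact hQb (σ.symm.injective (h.trans (map_zero σ.symm).symm))
  refine ⟨σ, Units.mk0 (σ s) (fun h => hs ((map_eq_zero_iff σ σ.injective).mp h)), hσ,
    fun w hw => ?_⟩
  rw [Units.val_mk0, ← map_mul, ← hall w hw]
  exact (σ.apply_symm_apply _).symm

end CfsgLib.AutPOm
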