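import Cfsg.Agent.AutPOm.LineMap

/-!
Semisimilarities of a quadratic form and the automorphisms they induce on `POmega`.
-/

set_option autoImplicit false
set_option linter.style.haveILetI false

namespace CfsgLib.AutPOm

open QuadraticMap CfsgLib.Forms CfsgLib.Quad

variable {F V : Type*} [Field F] [AddCommGroup V] [Module F V]

/-- A semisimilarity. -/
structure Semi (Q : QuadraticForm F V) where
  σ : F ≃+* F
  T : V ≃+ V
  c : Fˣ
  smul : ∀ (a : F) (v : V), T (a • v) = σ a • T v
  quad : ∀ v, Q (T v) = (c : F) * σ (Q v)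

variable {Q : QuadraticForm F V}

theorem Semi.polar_map (S : Semi Q) (u v : V) :
    polar Q (S.T u) (S.T v) = (S.c : F) * S.σ (polar Q u v) := by
  simp only [polar, ← map_add, S.quad, map_sub, mul_sub]

theorem Semi.symm_smul (S : Semi Q) (a : F) (v : V) :
    S.T.symm (a • v) = S.σ.symm a • S.T.symm v := by
  apply S.T.injective
  rw [AddEquiv.apply_symm_apply, S.smul, RingEquiv.apply_symm_apply, AddEquiv.apply_symm_apply]

/-- The inverse semisimilarity. -/
def Semi.symm (S : Semi Q) : Semi Q where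
  σ := S.σ.symm
  T := S.T.symm
  c := Units.map S.σ.symm.toMonoidHom S.c⁻¹
  smul := S.symm_smul
  quad v := by
    apply S.σ.injective
    have h := S.quad (S.T.symm v)
    rw [AddEquiv.apply_symm_apply] at h
    rw [map_mul]
    change _ = S.σ (S.σ.symm ((S.c⁻¹ : Fˣ) : F)) * _
    rw [RingEquiv.apply_symm_apply, RingEquiv.apply_symm_apply, h, ← mul_assoc, Units.inv_mul,
      one_mul]

/-- The composite semisimilarity. -/
def Semi.trans (S S' : Semi Q) : Semi Q where
  σ := S.σ.trans S'.σ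
  T := S.T.trans S'.T
  c := S'.c * Units.map S'.σ.toMonoidHom S.c
  smul a v := by
    change S'.T (S.T (a • v)) = S'.σ (S.σ a) • S'.T (S.T v)
    rw [S.smul, S'.smul]
  quad v := by
    change Q (S'.T (S.T v)) = _ * S'.σ (S.σ (Q v))
    rw [S'.quad, S.quad, map_mul, Units.val_mul, ← mul_assoc]
    rfl

/-- An isometry as a semisimilarity. -/
def Semi.ofIso (g : oGroup Q) : Semi Q where
  σ := RingEquiv.refl F
  T := g.1.toAddEquiv
  c := 1
  smul a v := g.1.map_smul a v
  quad v := by rw [Units.val_one, one_mul]; exact g.2 v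

/-- Conjugation by a semisimilarity on a linear map. -/
def Semi.conjLin (S : Semi Q) (g : V ≃ₗ[F] V) : V ≃ₗ[F] V where
  toFun x := S.T (g (S.T.symm x))
  map_add' x y := by rw [map_add, map_add, map_add]
  map_smul' a x := by
    rw [RingHom.id_apply, S.symm_smul, map_smul, S.smul, RingEquiv.apply_symm_apply]
  invFun x := S.T (g.symm (S.T.symm x))
  left_inv x := by simp
  right_inv x := by simp

/-- Conjugation by a semisimilarity on the orthogonal group. -/
def Semi.oEquiv (S : Semi Q) : oGroup Q ≃* oGroup Q where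
  toFun g := ⟨S.conjLin g.1, fun v => by
    change Q (S.T (g.1 (S.T.symm v))) = Q v
    rw [S.quad, g.2, ← S.quad, AddEquiv.apply_symm_apply]⟩
  invFun g := ⟨S.symm.conjLin g.1, fun v => by
    change Q (S.symm.T (g.1 (S.symm.T.symm v))) = Q v
    rw [S.symm.quad, g.2, ← S.symm.quad, AddEquiv.apply_symm_apply]⟩
  left_inv g := Subtype.ext (LinearEquiv.ext fun x => by
    change S.T.symm (S.T (g.1 (S.T.symm (S.T x)))) = g.1 x
    simp)
  right_inv g := Subtype.ext (LinearEquiv.ext fun x => by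
    change S.T (S.T.symm (g.1 (S.T (S.T.symm x)))) = g.1 x
    simp)
  map_mul' g h := Subtype.ext (LinearEquiv.ext fun x => by
    change S.T (g.1 (h.1 (S.T.symm x))) = S.T (g.1 (S.T.symm (S.T (h.1 (S.T.symm x)))))
    simp)

theorem Semi.oEquiv_apply (S : Semi Q) (g : oGroup Q) (x : V) :
    (S.oEquiv g).1 x = S.T (g.1 (S.T.symm x)) := rfl

theorem Semi.oEquiv_siegel (S : Semi Q) {u a : V} (hu : Q u = 0) (hua : polar Q u a = 0) :
    S.oEquiv (siegel Q u a) = siegel Q (S.T u) (((S.c⁻¹ : Fˣ) : F) • S.T a) := by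
  refine Subtype.ext (LinearEquiv.ext fun x => ?_)
  obtain ⟨y, rfl⟩ := S.T.surjective x
  rw [S.oEquiv_apply, AddEquiv.symm_apply_apply, siegel_apply hu hua,
    siegel_apply (by rw [S.quad, hu, map_zero, mul_zero])
      (by rw [polar_smul_right, S.polar_map, hua, map_zero, mul_zero, smul_zero]),
    map_sub, map_add, S.smul, S.smul, S.polar_map, polar_smul_right, S.polar_map, quad_smul,
    S.quad, map_add, map_mul, smul_smul, smul_eq_mul]
  have hc : (S.c : F) ≠ 0 := S.c.ne_zero
  rw [Units.val_inv_eq_inv_val]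
  congr 2
  · field_simp
  · field_simp

/-- The induced automorphism of `Omega`. -/
noncomputable def Semi.omEquiv (S : Semi Q) : ↥(Om Q) ≃* ↥(Om Q) :=
  (S.oEquiv.subgroupMap (Om Q)).trans (MulEquiv.subgroupCongr (commutator_map_equiv S.oEquiv))

theorem Semi.omEquiv_coe (S : Semi Q) (g : ↥(Om Q)) : (S.omEquiv g).1 = S.oEquiv g.1 := rfl

/-- The induced automorphism of `POmega`. -/
noncomputable def Semi.pgAut (S : Semi Q) : PG Q ≃* PG Q :=
  QuotientGroup.congr _ _ S.omEquiv (map_center_equiv S.omEquiv)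

theorem Semi.pgAut_mk (S : Semi Q) (g : ↥(Om Q)) : S.pgAut (toPG Q g) = toPG Q (S.omEquiv g) := rfl

theorem Semi.pgAut_trans (S S' : Semi Q) (x : PG Q) :
    (S.trans S').pgAut x = S'.pgAut (S.pgAut x) := by
  obtain ⟨g, rfl⟩ := QuotientGroup.mk'_surjective _ x
  rfl

theorem Semi.pgAut_symm (S : Semi Q) (x : PG Q) : S.symm.pgAut (S.pgAut x) = x := by
  obtain ⟨g, rfl⟩ := QuotientGroup.mk'_surjective _ x
  rw [S.pgAut_mk, S.symm.pgAut_mk]
  congr 1
  exact Subtype.ext (Subtype.ext (LinearEquiv.ext fun v => by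
    change S.T.symm (S.T (g.1.1 (S.T.symm (S.T v)))) = g.1.1 v
    simp))

end CfsgLib.AutPOm
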