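import Cfsg.Agent.AutPOm.MinusGraph

/-!
Similarities with a class character modulo the inner automorphisms.
-/

set_option autoImplicit false
set_option linter.style.haveILetI false
set_option linter.unusedSectionVars false
set_option synthInstance.maxHeartbeats 400000

namespace CfsgLib.AutPOm

open QuadraticMap CfsgLib.Forms CfsgLib.Quad Matrix

variable {F : Type*} [Field F] [Finite F] {ι : Type} [Fintype ι] [DecidableEq ι]

/-- A class character of the similarities in dimension `2 * n`. -/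
structure SignChar (Q : QuadraticForm F (ι → F)) (n : ℕ) where
  /-- The character. -/
  sgn : ↥(simGroup Q) →* ℤˣ
  card : Fintype.card ι = 2 * n
  sgn_scalar : ∀ u, sgn ⟨scalarHom Q u, mem_simGroup.mpr rfl⟩ = 1
  sgn_refl : ∀ v, Q v ≠ 0 → sgn ⟨isoHom Q (refl Q v), mem_simGroup.mpr rfl⟩ = -1
  det_eq : ∀ L : ↥(simGroup Q),
    (L.1.mat : Matrix ι ι F).det = ((sgn L : ℤ) : F) * (L.1.c : F) ^ n
  mult : ∀ c : Fˣ, ∃ S : Semi Q, S.σ = RingEquiv.refl F ∧ S.c = c

variable {Q : QuadraticForm F (ι → F)} {n : ℕ} (X : SignChar Q n)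

/-- The similarities of positive class. -/
def SignChar.dir : Subgroup (Semi Q) := X.sgn.ker.map (simGroup Q).subtype

theorem SignChar.mem_dir {S : Semi Q} :
    S ∈ X.dir ↔ ∃ h : S ∈ simGroup Q, X.sgn ⟨S, h⟩ = 1 := by
  constructor
  · rintro ⟨⟨S, h⟩, h1, rfl⟩
    exact ⟨h, h1⟩
  · rintro ⟨h, h1⟩
    exact ⟨⟨S, h⟩, h1, rfl⟩

theorem SignChar.dir_le : X.dir ≤ simGroup Q := Subgroup.map_subtype_le _

theorem SignChar.scalar_mem (u : Fˣ) : scalarHom Q u ∈ X.dir :=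
  X.mem_dir.mpr ⟨mem_simGroup.mpr rfl, X.sgn_scalar u⟩

theorem SignChar.iso_mem (g : ↥(Om Q)) : isoHom Q g.1 ∈ X.dir :=
  X.mem_dir.mpr ⟨mem_simGroup.mpr rfl, MonoidHom.mem_ker.mp
    (Abelianization.commutator_subset_ker
      (X.sgn.comp ((isoHom Q).codRestrict _ fun _ => mem_simGroup.mpr rfl)) g.2)⟩

theorem SignChar.classAut_eq_map {P : Matrix ι ι F → Prop}
    (hP : ∀ L : ↥(simGroup Q), P (L.1.mat : Matrix ι ι F) ↔ X.sgn L = 1) :
    classAut F ⇑Q P = X.dir.map (pomHom Q) := by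
  rw [classAut_eq (K := X.dir) fun S hS => by
    rw [hP ⟨S, hS⟩, X.mem_dir]
    exact ⟨fun h => ⟨hS, h⟩, fun ⟨_, h⟩ => h⟩]
  rw [inf_eq_right.mpr X.dir_le]

include X in
theorem SignChar.even_finrank : Even (Module.finrank F (ι → F)) :=
  ⟨n, by rw [Module.finrank_fintype_fun_eq_card, X.card]; ring⟩

theorem SignChar.sgn_isoHom_eq_one (h2 : (2 : F) ≠ 0) {g : oGroup Q} :
    X.sgn ⟨isoHom Q g, mem_simGroup.mpr rfl⟩ = 1 ↔ detO Q g = 1 := by
  have h := X.det_eq ⟨isoHom Q g, mem_simGroup.mpr rfl⟩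
  rw [det_mat_isoHom] at h
  change _ = _ * (1 : F) ^ n at h
  rw [one_pow, mul_one] at h
  constructor
  · intro e
    rw [e] at h
    exact Units.ext (by rw [h]; simp)
  · intro e
    refine (Int.units_eq_one_or _).resolve_right fun e' => ?_
    rw [e, e'] at h
    simp at h
    exact h2 (by linear_combination h)

variable (hQ : Big Q) (h2 : (2 : F) ≠ 0)
include X hQ h2

theorem SignChar.mem_map_dir_iff {S : Semi Q} (hS : S ∈ simGroup Q) :
    outHom Q S ∈ X.dir.map (outHom Q) ↔ X.sgn ⟨S, hS⟩ = 1 := by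
  refine ⟨?_, fun h => ⟨S, X.mem_dir.mpr ⟨hS, h⟩, rfl⟩⟩
  rintro ⟨T, hT, he⟩
  obtain ⟨u, g, hg⟩ := (outHom_eq_one_iff hQ).mp
    (show outHom Q (T⁻¹ * S) = 1 by rw [map_mul, map_inv, he, inv_mul_cancel])
  have hmem : S ∈ X.dir := by
    rw [show S = T * (scalarHom Q u * isoHom Q g.1) by rw [← hg, mul_inv_cancel_left]]
    exact mul_mem hT (mul_mem (X.scalar_mem u) (X.iso_mem g))
  obtain ⟨_, h⟩ := X.mem_dir.mp hmem
  exact h

/-- The conformal group modulo the special orthogonal group. -/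
theorem SignChar.exists_pgo_mod_pso :
    ∃ φ : ↥(Cfsg.pgoAut F ⇑Q) →* Multiplicative (ZMod 2 × ZMod 2),
      Function.Surjective φ ∧
        φ.ker = (Cfsg.psoAut F ⇑Q).subgroupOf (Cfsg.pgoAut F ⇑Q) := by
  obtain ⟨e⟩ := nonempty_units_int_equiv
  rw [pgoAut_eq, psoAut_eq]
  set π := (pomHom Q).subgroupMap (simGroup Q)
  let cHom : ↥(simGroup Q) →* Fˣ :=
    { toFun := fun S => S.1.c
      map_one' := rfl
      map_mul' := fun S T => Units.ext (by
        change ((S.1 * T.1).c : F) = _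
        rw [Semi.mul_c, mem_simGroup.mp S.2]
        rfl) }
  set ψ : ↥(simGroup Q) →* ℤˣ × ℤˣ := X.sgn.prod ((sqClass h2).comp cHom) with hψ
  have hψ1 : ∀ S, ψ S = 1 ↔ X.sgn S = 1 ∧ IsSquare (S.1.c : F) := fun S => by
    rw [hψ, MonoidHom.prod_apply, Prod.mk_eq_one, MonoidHom.comp_apply, sqClass_eq_one]
    rfl
  have hπs : Function.Surjective π := MonoidHom.subgroupMap_surjective _ _
  have hker : π.ker ≤ ψ.ker := by
    intro S hS
    have h1 : pomHom Q S.1 = 1 := congrArg Subtype.val (MonoidHom.mem_ker.mp hS)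
    obtain ⟨u, hu⟩ := (mem_ker_pgHom hQ).mp (pomHom_eq_one_iff.mp h1)
    rw [MonoidHom.mem_ker, hψ1]
    refine ⟨?_, ?_⟩
    · rw [show S = ⟨scalarHom _ u, mem_simGroup.mpr rfl⟩ from Subtype.ext hu]
      exact X.sgn_scalar u
    · rw [hu]; exact ⟨(u : F), rfl⟩
  set φ := π.liftOfSurjective hπs ⟨ψ, hker⟩
  have hφ : ∀ S, φ (π S) = ψ S := fun S => MonoidHom.liftOfRightInverse_comp_apply _ _ _ _ S
  refine ⟨e.toMonoidHom.comp φ, e.surjective.comp fun z => ?_, ?_⟩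
  · obtain ⟨v, hv⟩ := CfsgLib.Quad.exists_aniso hQ.nd (by have := hQ.dim; omega)
    obtain ⟨ν, hν⟩ := exists_nonsquare_unit h2
    obtain ⟨S, hSσ, hSc⟩ := X.mult ν
    set R : ↥(simGroup Q) := ⟨isoHom _ (refl _ v), mem_simGroup.mpr rfl⟩
    set D : ↥(simGroup Q) := ⟨S, mem_simGroup.mpr hSσ⟩
    have hR : ψ R = (-1, 1) := by
      rw [hψ, MonoidHom.prod_apply]
      refine Prod.ext (X.sgn_refl v hv) ((sqClass_eq_one (h2 := h2) (u := cHom R)).mpr ?_)
      exact IsSquare.one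
    have hD : (ψ D).2 = -1 := by
      refine (Int.units_eq_one_or _).resolve_left fun h => hν ?_
      rw [← hSc]
      exact (sqClass_eq_one (h2 := h2) (u := cHom D)).mp h
    rcases Int.units_eq_one_or z.1 with h1 | h1 <;> rcases Int.units_eq_one_or z.2 with h3 | h3
    · exact ⟨π 1, by rw [hφ, map_one]; exact Prod.ext h1.symm h3.symm⟩
    · rcases Int.units_eq_one_or (ψ D).1 with h4 | h4
      · exact ⟨π D, by rw [hφ]; exact Prod.ext (h4.trans h1.symm) (hD.trans h3.symm)⟩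
      · exact ⟨π (R * D), by
          rw [hφ, map_mul, hR]
          exact Prod.ext (by rw [Prod.fst_mul, h4, h1]; decide) (by rw [Prod.snd_mul, hD, h3]; decide)⟩
    · exact ⟨π R, by rw [hφ, hR]; exact Prod.ext h1.symm h3.symm⟩
    · rcases Int.units_eq_one_or (ψ D).1 with h4 | h4
      · exact ⟨π (R * D), by
          rw [hφ, map_mul, hR]
          exact Prod.ext (by rw [Prod.fst_mul, h4, h1]; decide) (by rw [Prod.snd_mul, hD, h3]; decide)⟩
      · exact ⟨π D, by rw [hφ]; exact Prod.ext (h4.trans h1.symm) (hD.trans h3.symm)⟩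
  · ext x
    obtain ⟨S, rfl⟩ := hπs x
    rw [MonoidHom.mem_ker, MonoidHom.comp_apply, MulEquiv.coe_toMonoidHom, MulEquiv.map_eq_one_iff,
      hφ, hψ1, Subgroup.mem_subgroupOf]
    change _ ↔ pomHom _ S.1 ∈ _
    constructor
    · rintro ⟨hχ, s, hs⟩
      obtain ⟨u, g, hg⟩ := exists_scalar_iso (mem_simGroup.mp S.2) hs
      refine ⟨isoHom _ g, ⟨g, MonoidHom.mem_ker.mpr ?_, rfl⟩, ?_⟩
      · refine (X.sgn_isoHom_eq_one h2).mp ?_
        rw [show S = ⟨scalarHom _ u, mem_simGroup.mpr rfl⟩ * ⟨isoHom _ g, mem_simGroup.mpr rfl⟩ from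
          Subtype.ext hg, map_mul, X.sgn_scalar, one_mul] at hχ
        exact hχ
      · rw [hg, map_mul, pomHom_eq_one_iff.mpr ((mem_ker_pgHom hQ).mpr ⟨u, rfl⟩), one_mul]
    · rintro ⟨_, ⟨g, hg, rfl⟩, he⟩
      obtain ⟨u, hu⟩ := (pomHom_eq_iff hQ).mp he.symm
      refine ⟨?_, ?_⟩
      · rw [show S = ⟨scalarHom _ u, mem_simGroup.mpr rfl⟩ * ⟨isoHom _ g, mem_simGroup.mpr rfl⟩ from
          Subtype.ext hu, map_mul, X.sgn_scalar, one_mul]
        exact (X.sgn_isoHom_eq_one h2).mpr (MonoidHom.mem_ker.mp hg)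
      · rw [hu, Semi.mul_c]
        exact ⟨(u : F), by change (u : F) * u * 1 = _; rw [mul_one]⟩

/-- When `-1` is outside `Omega`, the special orthogonal group gives inner automorphisms only. -/
theorem SignChar.psoAut_eq_inn (hz : negIso Q ∉ Om Q) :
    Cfsg.psoAut F ⇑Q = Cfsg.Inn (Cfsg.POmega F ⇑Q) := by
  refine le_antisymm ?_ inn_le_psoAut
  rw [psoAut_eq]
  rintro _ ⟨_, ⟨g, hg, rfl⟩, rfl⟩
  exact (QuotientGroup.eq_one_iff _).mp
    (outHom_eq_one_of_det hQ h2 X.even_finrank hz (MonoidHom.mem_ker.mp hg))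

omit X in
/-- When `-1` is in `Omega`, an isometry of determinant one is inner or a mixed pair. -/
theorem outHom_det_one_cases (hz : negIso Q ∈ Om Q) {θ : oGroup Q →* ℤˣ}
    (hθ : ∀ v, Q v ≠ 0 → (θ (refl Q v) = 1 ↔ IsSquare (Q v))) {g : oGroup Q} (hg : detO Q g = 1) :
    outHom Q (isoHom Q g) = 1 ↔ θ g = 1 := by
  have hn : 2 ≤ Module.finrank F (ι → F) := by have := hQ.dim; omega
  rw [outHom_iso_eq_one_iff hQ, Subgroup.mul_mem_cancel_left _ hz, or_self,
    mem_commutator_iff hQ.nd h2 hn hθ]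
  exact and_iff_right hg

omit X in
/-- When `-1` is in `Omega`, the special orthogonal group exceeds the inner group by two. -/
theorem relIndex_inn_psoAut_two (hz : negIso Q ∈ Om Q) :
    (Cfsg.Inn (Cfsg.POmega F ⇑Q)).relIndex (Cfsg.psoAut F ⇑Q) = 2 := by
  have hn : 2 ≤ Module.finrank F (ι → F) := by have := hQ.dim; omega
  obtain ⟨θ, hθ⟩ := exists_spinor hQ.nd h2 hn
  obtain ⟨ν, hν⟩ := exists_nonsquare_unit h2
  obtain ⟨x, hx⟩ := exists_value hQ.nd h2 hn (1 : F)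
  obtain ⟨y, hy⟩ := exists_value hQ.nd h2 hn (ν : F)
  have hx0 : Q x ≠ 0 := hx ▸ one_ne_zero
  have hy0 : Q y ≠ 0 := hy ▸ ν.ne_zero
  have hxy : ¬ IsSquare (Q x * Q y) := by rwa [hx, hy, one_mul]
  set P := refl Q x * refl Q y with hP
  have hPdet : detO Q P = 1 := Units.ext (by
    rw [hP, map_mul, Units.val_mul, detO_refl hx0, detO_refl hy0]; norm_num)
  have hθP : θ P = -1 := by
    refine (Int.units_eq_one_or _).resolve_left fun e => hxy ?_
    rw [isSquare_mul_iff h2 hx0 hy0, ← hθ x hx0, ← hθ y hy0]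
    rw [hP, map_mul, mul_eq_one_iff_eq_inv, Int.units_inv_eq_self] at e
    rw [e]
  rw [Subgroup.relIndex, Subgroup.index_eq_two_iff]
  refine ⟨⟨pomHom _ (isoHom _ P), psoAut_eq (Q := Q) ▸ ⟨_, ⟨P, MonoidHom.mem_ker.mpr hPdet, rfl⟩, rfl⟩⟩,
    fun z => ?_⟩
  obtain ⟨z, hz'⟩ := z
  have hz'' := hz'
  rw [psoAut_eq] at hz''
  obtain ⟨_, ⟨g, hg, rfl⟩, rfl⟩ := hz''
  simp only [Subgroup.mem_subgroupOf, Subgroup.coe_mul]
  have hgd := MonoidHom.mem_ker.mp hg
  have hin : ∀ g : oGroup Q, detO Q g = 1 →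
      (pomHom _ (isoHom _ g) ∈ Cfsg.Inn (Cfsg.POmega F ⇑Q) ↔ θ g = 1) := fun g hg' =>
    (QuotientGroup.eq_one_iff _).symm.trans (outHom_det_one_cases hQ h2 hz hθ hg')
  rw [← map_mul, ← map_mul, hin _ (by rw [map_mul, hgd, hPdet, one_mul]), hin _ hgd, map_mul, hθP]
  rcases Int.units_eq_one_or (θ g) with e | e <;> rw [e] <;> decide

/-- The similarities of positive class form half of all similarities modulo the inner group. -/
theorem SignChar.card_map_dir :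
    2 * Nat.card ↥(X.dir.map (outHom Q)) = Nat.card ↥((simGroup Q).map (outHom Q)) := by
  set D := X.dir.map (outHom Q)
  set K := (simGroup Q).map (outHom Q)
  have hle : D ≤ K := Subgroup.map_mono X.dir_le
  obtain ⟨v, hv⟩ := CfsgLib.Quad.exists_aniso hQ.nd (by have := hQ.dim; omega)
  have hidx : (D.subgroupOf K).index = 2 := by
    rw [Subgroup.index_eq_two_iff]
    refine ⟨⟨outHom _ (isoHom _ (refl _ v)), _, mem_simGroup.mpr rfl, rfl⟩, fun z => ?_⟩
    obtain ⟨_, S, hS, rfl⟩ := z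
    simp only [Subgroup.mem_subgroupOf, Subgroup.coe_mul]
    rw [← map_mul, X.mem_map_dir_iff hQ h2 (mul_mem hS (mem_simGroup.mpr rfl)),
      X.mem_map_dir_iff hQ h2 hS,
      show (⟨S * isoHom _ (refl Q v), _⟩ : ↥(simGroup Q)) =
        ⟨S, hS⟩ * ⟨isoHom _ (refl _ v), mem_simGroup.mpr rfl⟩ from rfl, map_mul, X.sgn_refl v hv]
    rcases Int.units_eq_one_or (X.sgn ⟨S, hS⟩) with e | e <;> rw [e] <;> decide
  rw [← Subgroup.card_mul_index (D.subgroupOf K), hidx,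
    Nat.card_congr (Subgroup.subgroupOfEquivOfLe hle).toEquiv, mul_comm]

end CfsgLib.AutPOm
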