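import Cfsg.Agent.Quad.Parity
import Cfsg.Agent.Forms.OfBilin

/-!
The parity relation between totally singular subspaces of half dimension.
-/

set_option autoImplicit false
set_option linter.style.haveILetI false

namespace CfsgLib.AutPOm

open QuadraticMap CfsgLib.Forms CfsgLib.Quad

variable {F V : Type*} [Field F] [AddCommGroup V] [Module F V] [FiniteDimensional F V]
  {Q : QuadraticForm F V}

/-- A hyperbolic space: a totally singular subspace of half dimension `n`. -/
structure IsHalf (Q : QuadraticForm F V) (n : ℕ) (U : Submodule F V) : Prop where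
  zero : ∀ x ∈ U, Q x = 0
  rank : Module.finrank F U = n

omit [FiniteDimensional F V] in
theorem IsHalf.polar {n : ℕ} {U : Submodule F V} (h : IsHalf Q n U) {x y : V} (hx : x ∈ U)
    (hy : y ∈ U) : QuadraticMap.polar Q x y = 0 := by
  simp only [QuadraticMap.polar, h.zero x hx, h.zero y hy, h.zero _ (U.add_mem hx hy), sub_zero]

/-- The defect of a pair of subspaces. -/
noncomputable def defect (U W : Submodule F V) : ℕ :=
  Module.finrank F U - Module.finrank F ↥(U ⊓ W)

theorem defect_add {U W : Submodule F V} :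
    defect U W + Module.finrank F ↥(U ⊓ W) = Module.finrank F U :=
  Nat.sub_add_cancel (Submodule.finrank_mono inf_le_left)

theorem even_add_finrank_ker_of_isAlt {W : Type*} [AddCommGroup W] [Module F W]
    [FiniteDimensional F W] (B : LinearMap.BilinForm F W) (hB : B.IsAlt) :
    Even (Module.finrank F W + Module.finrank F (LinearMap.ker B)) := by
  obtain ⟨m, k, b, h1, h2, h3, h4⟩ := CfsgLib.Forms.exists_symplectic_basis _ _ B hB rfl
  have hker : LinearMap.ker B = Submodule.span F (Set.range fun j : Fin k => b (Sum.inr j)) := by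
    refine le_antisymm (fun x hx => ?_) (Submodule.span_le.mpr ?_)
    · have hx' : ∀ y, B x y = 0 := fun y => by rw [LinearMap.mem_ker.mp hx]; rfl
      have hfl : ∀ i j : Fin m, B (b (Sum.inl (Sum.inr i))) (b (Sum.inl (Sum.inl j))) =
          if i = j then -1 else 0 := fun i j => by
        have e := LinearMap.IsAlt.neg (B := B) hB (b (Sum.inl (Sum.inl j))) (b (Sum.inl (Sum.inr i)))
        rw [h1] at e
        rw [← e]
        simp only [eq_comm (a := j)]
        split_ifs <;> simp
      have hrec : x = ∑ i, b.repr x i • b i := (b.sum_repr x).symm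
      have hc : ∀ j : Fin m ⊕ Fin m, b.repr x (Sum.inl j) = 0 := by
        intro j
        rcases j with j | j
        · have := hx' (b (Sum.inl (Sum.inr j)))
          rw [hrec, map_sum, LinearMap.sum_apply] at this
          simpa [Fintype.sum_sum_type, h1, h3, h4, Finset.sum_ite_eq'] using this
        · have := hx' (b (Sum.inl (Sum.inl j)))
          rw [hrec, map_sum, LinearMap.sum_apply] at this
          simpa [Fintype.sum_sum_type, hfl, h2, h4, Finset.sum_ite_eq'] using this
      rw [hrec, Fintype.sum_sum_type]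
      simp only [hc, zero_smul, Finset.sum_const_zero, zero_add]
      exact Submodule.sum_mem _ fun i _ => Submodule.smul_mem _ _ (Submodule.subset_span ⟨i, rfl⟩)
    · rintro _ ⟨j, rfl⟩
      exact LinearMap.ext fun y => h4 j y
  have hli : LinearIndependent F fun j : Fin k => b (Sum.inr j) :=
    b.linearIndependent.comp _ Sum.inr_injective
  rw [hker, finrank_span_eq_card hli, Module.finrank_eq_card_basis b]
  simp only [Fintype.card_sum, Fintype.card_fin]
  exact ⟨m + k, by ring⟩

omit [FiniteDimensional F V] in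
theorem exists_linearMap_injective_of_finrank_le {A B : Type*} [AddCommGroup A] [Module F A]
    [AddCommGroup B] [Module F B] [FiniteDimensional F A] [FiniteDimensional F B]
    (h : Module.finrank F A ≤ Module.finrank F B) : ∃ φ : A →ₗ[F] B, Function.Injective φ := by
  let a := Module.finBasis F A
  let b := Module.finBasis F B
  refine ⟨a.constr F (b ∘ Fin.castLE h), ?_⟩
  refine LinearMap.ker_eq_bot.mp ((Submodule.eq_bot_iff _).mpr fun x hx => ?_)
  have hx' : ∑ i, a.repr x i • b (Fin.castLE h i) = 0 := by
    have := LinearMap.mem_ker.mp hx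
    rwa [Module.Basis.constr_apply_fintype] at this
  have hc := Fintype.linearIndependent_iff.mp
    (b.linearIndependent.comp _ (Fin.castLE_injective h)) _ hx'
  rw [← a.sum_repr x]
  exact Finset.sum_eq_zero fun i _ => by rw [hc i, zero_smul]

variable (hQ : (polarBilin Q).Nondegenerate) {n : ℕ} (hn : Module.finrank F V = 2 * n)
include hQ hn

theorem IsHalf.perp_eq {U : Submodule F V} (h : IsHalf Q n U) : perpS Q U = U := by
  refine (Submodule.eq_of_le_of_finrank_eq (fun x hx => mem_perpS.mpr fun y hy => h.polar hy hx) ?_).symm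
  have := finrank_perpS hQ U
  rw [h.rank] at this ⊢
  omega

theorem IsHalf.mem_of_orth {U : Submodule F V} (h : IsHalf Q n U) {x : V}
    (hx : ∀ u ∈ U, QuadraticMap.polar Q u x = 0) : x ∈ U :=
  h.perp_eq hQ hn ▸ mem_perpS.mpr hx

theorem IsHalf.notMem {U : Submodule F V} (h : IsHalf Q n U) {v : V} (hv : Q v ≠ 0) : v ∉ U :=
  fun hm => hv (h.zero v hm)

omit hQ hn in
theorem isHalf_map {U : Submodule F V} (h : IsHalf Q n U) (g : oGroup Q) :
    IsHalf Q n (U.map g.1.toLinearMap) := by
  refine ⟨?_, (LinearEquiv.finrank_map_eq g.1 U).trans h.rank⟩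
  rintro _ ⟨x, hx, rfl⟩
  exact (g.2 x).trans (h.zero x hx)

/-- A subspace moves to another by as many reflections as their defect. -/
theorem exists_refl_move : ∀ (k : ℕ) {U W : Submodule F V}, IsHalf Q n U → IsHalf Q n W →
    defect U W = k → ∃ l : List V, l.length = k ∧ (∀ v ∈ l, Q v ≠ 0) ∧
      W.map (l.map (refl Q)).prod.1.toLinearMap = U := by
  intro k
  induction k with
  | zero =>
    intro U W hU hW hk
    refine ⟨[], rfl, by simp, ?_⟩
    have h1 := defect_add (U := U) (W := W)
    rw [hk, zero_add] at h1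
    have h2 : U ⊓ W = U := Submodule.eq_of_le_of_finrank_eq inf_le_left h1
    have h3 : U = W := Submodule.eq_of_le_of_finrank_eq (inf_eq_left.mp h2) (by rw [hU.rank, hW.rank])
    subst h3
    simp
  | succ k ih =>
    intro U W hU hW hk
    obtain ⟨w, hwW, hwU⟩ : ∃ w ∈ W, w ∉ U := by
      by_contra hc
      push Not at hc
      have h3 : W = U := Submodule.eq_of_le_of_finrank_eq hc (by rw [hU.rank, hW.rank])
      rw [h3, defect, inf_idem, Nat.sub_self] at hk
      omega
    obtain ⟨u, huU, huw⟩ : ∃ u ∈ U, QuadraticMap.polar Q u w ≠ 0 := by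
      by_contra hc
      push Not at hc
      exact hwU (hU.mem_of_orth hQ hn hc)
    have hQv : Q (u + w) = QuadraticMap.polar Q u w := by
      rw [quad_add, hU.zero u huU, hW.zero w hwW]; ring
    have hv : Q (u + w) ≠ 0 := hQv ▸ huw
    set W' := W.map (refl Q (u + w)).1.toLinearMap with hW'
    have hW'h : IsHalf Q n W' := isHalf_map hW _
    have huW' : u ∈ W' := by
      refine ⟨-w, W.neg_mem hwW, ?_⟩
      change (refl Q (u + w)).1 (-w) = u
      rw [map_neg, refl_apply, hQv, polar_add_right, QuadraticMap.polar_comm (⇑Q) w u,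
        polar_self, hW.zero w hwW, smul_zero, add_zero, neg_mul, inv_mul_cancel₀ huw]
      module
    have huW : u ∉ W := fun h => huw (hW.polar h hwW)
    have hfixmem : ∀ x, QuadraticMap.polar Q x (u + w) = 0 → (x ∈ W' ↔ x ∈ W) := by
      intro x hx
      have hinv : ∀ y, (refl Q (u + w)).1 ((refl Q (u + w)).1 y) = y := reflMap_involutive _
      constructor
      · rintro ⟨y, hy, rfl⟩
        have h1 := hinv y
        rw [show (refl Q (u + w)).1 ((refl Q (u + w)).1 y) = (refl Q (u + w)).1.toLinearMap y from
          refl_fix hx] at h1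
        rwa [h1]
      · exact fun h => ⟨x, h, refl_fix hx⟩
    have hd : defect U W' = k := by
      have h1 := defect_add (U := U) (W := W)
      have h2 := defect_add (U := U) (W := W')
      have hle : U ⊓ W ≤ U ⊓ W' := fun x hx => ⟨hx.1, (hfixmem x (by
        rw [polar_add_right, hU.polar hx.1 huU, hW.polar hx.2 hwW, add_zero])).mpr hx.2⟩
      have hlt : U ⊓ W < U ⊓ W' := lt_of_le_of_ne hle fun e => huW (e ▸
        (show u ∈ U ⊓ W' from ⟨huU, huW'⟩)).2
      have h3 := Submodule.finrank_lt_finrank_of_lt hlt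
      have h4 : (U ⊓ W') ⊓ LinearMap.ker (polarFun Q (u + w)) ≤ U ⊓ W := fun x hx =>
        ⟨hx.1.1, (hfixmem x hx.2).mp hx.1.2⟩
      have h5 := Submodule.finrank_mono h4
      have h6 := Submodule.finrank_sup_add_finrank_inf_eq (U ⊓ W') (LinearMap.ker (polarFun Q (u + w)))
      have h7 := (polarFun Q (u + w)).finrank_range_add_finrank_ker
      have h8 := Submodule.finrank_le (LinearMap.range (polarFun Q (u + w)))
      rw [Module.finrank_self] at h8
      have h9 := Submodule.finrank_le (U ⊓ W' ⊔ LinearMap.ker (polarFun Q (u + w)))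
      omega
    obtain ⟨l, hl, hlv, hmap⟩ := ih hU hW'h hd
    refine ⟨l ++ [u + w], by simp [hl], ?_, ?_⟩
    · intro v hv'
      rcases List.mem_append.mp hv' with h | h
      · exact hlv v h
      · rw [List.mem_singleton.mp h]; exact hv
    · rw [List.map_append, List.prod_append, List.map_singleton, List.prod_singleton, ← hmap, hW',
        ← Submodule.map_comp]
      rfl

/-- The fixed space of an isometry stabilising a half-dimensional subspace has even dimension. -/
theorem even_finrank_fixSp {U : Submodule F V} (hU : IsHalf Q n U) (g : oGroup Q)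
    (hg : U.map g.1.toLinearMap = U) : Even (Module.finrank F (fixSp g)) := by
  set N : V →ₗ[F] V := g.1.toLinearMap - LinearMap.id
  have hgU : ∀ u ∈ U, g.1 u ∈ U := fun u hu => hg.le ⟨u, hu, rfl⟩
  have hNU : ∀ u ∈ U, N u ∈ U := fun u hu => U.sub_mem (hgU u hu) hu
  set X : Submodule F V := U.comap N
  have hUX : U ≤ X := hNU
  have hfX : fixSp g ≤ X := fun x hx => by
    change N x ∈ U
    rw [LinearMap.mem_ker.mp hx]
    exact U.zero_mem
  have horth : ∀ x ∈ fixSp g, ∀ z, QuadraticMap.polar Q x (N z) = 0 := fun x hx z => by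
    change QuadraticMap.polar Q x (g.1 z - z) = 0
    rw [polar_sub_right, sub_eq_zero]
    conv_lhs => rw [← mem_fixSp.mp hx, polar_oGroup]
  have hNperp : ∀ u ∈ U, ∀ y ∈ X, QuadraticMap.polar Q (N u) y = 0 := by
    intro u hu y hy
    have hgy : g.1 y = y + N y := by change _ = y + (g.1 y - y); abel
    have h1 : QuadraticMap.polar Q (g.1 u) y = QuadraticMap.polar Q u y := by
      have h2 := polar_oGroup g u y
      rw [hgy, polar_add_right, hU.polar (hgU u hu) hy, add_zero] at h2
      exact h2
    change QuadraticMap.polar Q (g.1 u - u) y = 0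
    rw [polar_sub_left, h1, sub_self]
  -- dimensions
  have hrangeN : LinearMap.range N = perpS Q (fixSp g) := by
    refine Submodule.eq_of_le_of_finrank_eq ?_ ?_
    · rintro _ ⟨z, rfl⟩
      exact fun x hx => horth x hx z
    · have h1 := N.finrank_range_add_finrank_ker
      have h2 := finrank_perpS hQ (fixSp g)
      change _ + Module.finrank F (fixSp g) = _ at h1
      omega
  have hXdim : Module.finrank F X = n + Module.finrank F ↥(U ⊓ fixSp g) := by
    have h1 := (N.domRestrict X).finrank_range_add_finrank_ker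
    rw [LinearMap.range_domRestrict, Submodule.map_comap_eq, LinearMap.ker_domRestrict] at h1
    have h2 : Module.finrank F (Submodule.comap X.subtype (LinearMap.ker N)) =
        Module.finrank F (fixSp g) := by
      rw [← Submodule.finrank_map_subtype_eq X, Submodule.map_comap_subtype, show LinearMap.ker N = fixSp g from rfl, inf_eq_right.mpr hfX]
    have h3 : LinearMap.range N ⊓ U = perpS Q (U ⊔ fixSp g) := by
      rw [hrangeN]
      conv_lhs => rw [← hU.perp_eq hQ hn]
      ext x
      simp only [Submodule.mem_inf, mem_perpS]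
      constructor
      · rintro ⟨hf, hu⟩ h hh
        obtain ⟨a, ha, b, hb, rfl⟩ := Submodule.mem_sup.mp hh
        rw [polar_add_left, hu a ha, hf b hb, add_zero]
      · exact fun h => ⟨fun b hb => h b (Submodule.mem_sup_right hb),
          fun a ha => h a (Submodule.mem_sup_left ha)⟩
    rw [h3, h2] at h1
    have h4 := finrank_perpS hQ (U ⊔ fixSp g)
    have h5 := Submodule.finrank_sup_add_finrank_inf_eq U (fixSp g)
    rw [hU.rank] at h5
    omega
  have hperpX : perpS Q X = U.map N := by
    refine (Submodule.eq_of_le_of_finrank_eq ?_ ?_).symm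
    · rintro _ ⟨u, hu, rfl⟩ y hy
      rw [QuadraticMap.polar_comm]
      exact hNperp u hu y hy
    · have h1 := (N.domRestrict U).finrank_range_add_finrank_ker
      rw [LinearMap.range_domRestrict, LinearMap.ker_domRestrict] at h1
      have h2 : Module.finrank F (Submodule.comap U.subtype (LinearMap.ker N)) =
          Module.finrank F ↥(U ⊓ fixSp g) := by
        rw [← Submodule.finrank_map_subtype_eq U, Submodule.map_comap_subtype]
        rfl
      have h3 := finrank_perpS hQ X
      rw [h2, hU.rank] at h1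
      omega
  -- the alternating form
  let B : LinearMap.BilinForm F X :=
    (polarBilin Q).compl₁₂ (N.comp X.subtype) X.subtype
  have hBalt : B.IsAlt := fun x => by
    change QuadraticMap.polar Q (N x.1) x.1 = 0
    have h1 := quad_add Q (x.1 : V) (N x.1)
    rw [show x.1 + N x.1 = g.1 x.1 by change x.1 + (g.1 x.1 - x.1) = _; abel, g.2,
      hU.zero _ x.2] at h1
    rw [QuadraticMap.polar_comm]
    linear_combination -h1
  have hker : LinearMap.ker B = Submodule.comap X.subtype (U ⊔ fixSp g) := by
    ext x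
    rw [LinearMap.mem_ker, Submodule.mem_comap]
    constructor
    · intro hx
      have h1 : N x.1 ∈ perpS Q X := fun y hy => by
        rw [QuadraticMap.polar_comm]
        exact LinearMap.congr_fun hx ⟨y, hy⟩
      rw [hperpX] at h1
      obtain ⟨u, hu, he⟩ := h1
      refine Submodule.mem_sup.mpr ⟨u, hu, x.1 - u, LinearMap.mem_ker.mpr ?_, by simp⟩
      change N (x.1 - u) = 0
      rw [map_sub, he, sub_self]
    · intro hx
      obtain ⟨a, ha, b, hb, hab⟩ := Submodule.mem_sup.mp hx
      refine LinearMap.ext fun y => ?_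
      change QuadraticMap.polar Q (N x.1) y.1 = 0
      rw [← show a + b = x.1 from hab, map_add, show N b = 0 from LinearMap.mem_ker.mp hb, add_zero]
      exact hNperp a ha y.1 y.2
  have hkerdim : Module.finrank F (LinearMap.ker B) = Module.finrank F ↥(U ⊔ fixSp g) := by
    rw [hker, ← Submodule.finrank_map_subtype_eq X, Submodule.map_comap_subtype,
      inf_eq_right.mpr (sup_le hUX hfX)]
  obtain ⟨j, hj⟩ := even_add_finrank_ker_of_isAlt B hBalt
  have h5 := Submodule.finrank_sup_add_finrank_inf_eq U (fixSp g)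
  rw [hU.rank] at h5
  rw [hXdim, hkerdim] at hj
  exact Nat.even_iff.mpr (by omega)

omit hn in
theorem parity_eq (hgen : (∃ t : F, t ≠ 0 ∧ t ≠ 1) ∨ Module.finrank F V ≠ 4)
    {ε : oGroup Q →* ℤˣ} (hε : ∀ v, Q v ≠ 0 → ε (refl Q v) = -1) (g : oGroup Q) :
    ε g = (-1) ^ (Module.finrank F V + Module.finrank F (fixSp g)) := by
  have hg : g ∈ reflGroup Q := by rw [reflGroup_eq_top hQ hgen]; trivial
  have key : ∀ d (y : oGroup Q), ε y = (-1) ^ (Module.finrank F V + Module.finrank F (fixSp y)) →
      ε (refl Q d * y) = (-1) ^ (Module.finrank F V + Module.finrank F (fixSp (refl Q d * y))) := by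
    intro d y hy
    by_cases hd : Q d = 0
    · rwa [refl_eq_one hd, one_mul]
    · rw [map_mul, hε d hd, hy]
      rcases finrank_fixSp_refl_mul hQ y hd with h | h
      · rw [h, ← Nat.add_assoc, pow_succ, mul_comm]
      · rw [← h, ← Nat.add_assoc, pow_succ, mul_neg_one, neg_one_mul, neg_neg]
  induction hg using Subgroup.closure_induction_left with
  | one =>
    have htop : fixSp (1 : oGroup Q) = ⊤ := Submodule.eq_top_iff'.mpr fun x => mem_fixSp.mpr rfl
    rw [map_one, htop, finrank_top, Even.neg_one_pow ⟨_, rfl⟩]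
  | mul_left x hx y _ hy => obtain ⟨d, rfl⟩ := hx; exact key d y hy
  | inv_mul_cancel x hx y _ hy => obtain ⟨d, rfl⟩ := hx; rw [refl_inv]; exact key d y hy

/-- The parity of an isometry is the parity of the defect it induces. -/
theorem parity_eq_defect (hn2 : n ≠ 2) {ε : oGroup Q →* ℤˣ}
    (hε : ∀ v, Q v ≠ 0 → ε (refl Q v) = -1) {U : Submodule F V} (hU : IsHalf Q n U) (g : oGroup Q) :
    ε g = (-1) ^ defect U (U.map g.1.toLinearMap) := by
  obtain ⟨l, hl, hlv, hmap⟩ := exists_refl_move hQ hn _ hU (isHalf_map hU g) rfl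
  have hprod : ε (l.map (refl Q)).prod = (-1) ^ l.length := by
    clear hl hmap
    induction l with
    | nil => simp
    | cons v t ih =>
      rw [List.map_cons, List.prod_cons, map_mul, hε v (hlv v List.mem_cons_self),
        ih fun x hx => hlv x (List.mem_cons_of_mem v hx), List.length_cons, pow_succ']
  have hstab : U.map ((l.map (refl Q)).prod * g).1.toLinearMap = U := by
    conv_rhs => rw [← hmap, ← Submodule.map_comp]
    rfl
  have h1 := parity_eq hQ (Or.inr (by rw [hn]; omega)) hε ((l.map (refl Q)).prod * g)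
  obtain ⟨j, hj⟩ := even_finrank_fixSp hQ hn hU _ hstab
  rw [map_mul, hprod, hl, hj, hn, (show Even (2 * n + (j + j)) from ⟨n + j, by ring⟩).neg_one_pow,
    mul_eq_one_iff_eq_inv, Int.units_inv_eq_self] at h1
  exact h1.symm

/-- Defects of three subspaces sum to an even number. -/
theorem even_defect_triangle (hn2 : n ≠ 2) {U W X : Submodule F V} (hU : IsHalf Q n U)
    (hW : IsHalf Q n W) (hX : IsHalf Q n X) : Even (defect U W + defect W X + defect U X) := by
  obtain ⟨ε, hε⟩ := exists_parity hQ (Or.inr (by rw [hn]; omega))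
  have hmove : ∀ {U W : Submodule F V}, IsHalf Q n U → IsHalf Q n W →
      ∃ g : oGroup Q, ε g = (-1) ^ defect U W ∧ W.map g.1.toLinearMap = U := by
    intro U W hU hW
    obtain ⟨l, hl, hlv, hmap⟩ := exists_refl_move hQ hn _ hU hW rfl
    refine ⟨_, ?_, hmap⟩
    rw [← hl]
    clear hl hmap
    induction l with
    | nil => simp
    | cons v t ih =>
      rw [List.map_cons, List.prod_cons, map_mul, hε v (hlv v List.mem_cons_self),
        ih fun x hx => hlv x (List.mem_cons_of_mem v hx), List.length_cons, pow_succ']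
  obtain ⟨g₁, e₁, m₁⟩ := hmove hU hW
  obtain ⟨g₂, e₂, m₂⟩ := hmove hW hX
  obtain ⟨g₃, e₃, m₃⟩ := hmove hU hX
  have hsymm : U.map g₃⁻¹.1.toLinearMap = X := by
    conv_lhs => rw [← m₃, ← Submodule.map_comp]
    exact (congrArg (fun f => Submodule.map f X) (LinearMap.ext fun x => g₃.1.symm_apply_apply x)).trans
      (Submodule.map_id X)
  have hfix : U.map (g₁ * g₂ * g₃⁻¹).1.toLinearMap = U := by
    conv_rhs => rw [← m₁, ← m₂, ← hsymm, ← Submodule.map_comp, ← Submodule.map_comp]
    rfl
  have h1 := parity_eq_defect hQ hn hn2 hε hU (g₁ * g₂ * g₃⁻¹)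
  have h0 : defect U U = 0 := by rw [defect, inf_idem, Nat.sub_self]
  rw [hfix, map_mul, map_mul, map_inv, e₁, e₂, e₃, Int.units_inv_eq_self, ← pow_add, ← pow_add,
    h0, pow_zero] at h1
  exact neg_one_pow_eq_one_iff_even (R := ℤ) (by decide) |>.mp (congrArg Units.val h1)

/-- Maximal totally singular subspaces have half dimension. -/
theorem isHalf_of_maximal {U₀ : Submodule F V} (hU₀ : IsHalf Q n U₀) {U : Submodule F V}
    (hU : ∀ x ∈ U, Q x = 0)
    (hmax : ∀ W : Submodule F V, (∀ x ∈ W, Q x = 0) → U ≤ W → W = U) : IsHalf Q n U := by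
  refine ⟨hU, ?_⟩
  have hUp : U ≤ perpS Q U := fun x hx y hy => by
    simp only [QuadraticMap.polar, hU x hx, hU y hy, hU _ (U.add_mem hy hx), sub_zero]
  have h1 := finrank_perpS hQ U
  have h2 := Submodule.finrank_mono hUp
  have hle : Module.finrank F U ≤ Module.finrank F U₀ := by rw [hU₀.rank]; omega
  obtain ⟨φ, hφ⟩ := exists_linearMap_injective_of_finrank_le (F := F) hle
  obtain ⟨g, hg, hgφ⟩ := quad_witt hQ U (U₀.subtype.comp φ)
    (U₀.injective_subtype.comp hφ) (fun a => by
      rw [hU _ a.2]; exact hU₀.zero _ (φ a).2)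
  have hW := hmax (U₀.map g.symm.toLinearMap) ?_ ?_
  · rw [← hW, LinearEquiv.finrank_map_eq, hU₀.rank]
  · rintro _ ⟨x, hx, rfl⟩
    rw [← hg]
    change Q (g (g.symm x)) = 0
    rw [g.apply_symm_apply]
    exact hU₀.zero x hx
  · intro x hx
    refine ⟨g x, ?_, g.symm_apply_apply x⟩
    rw [show g x = _ from hgφ ⟨x, hx⟩]
    exact (φ ⟨x, hx⟩).2

end CfsgLib.AutPOm
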