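import Cfsg.Agent.AutPOm.Types
import Cfsg.Agent.AutPSL.ClassBasics

/-!
Normal forms, centraliser groups and the number of inner classes in a class of a field automorphism.
-/

set_option autoImplicit false
set_option linter.style.haveILetI false

namespace CfsgLib.AutPOm

open QuadraticMap CfsgLib.Forms CfsgLib.Quad Matrix

variable {F : Type*} [Field F] [Finite F] {ι : Type} [Fintype ι] [DecidableEq ι]
  {Q : QuadraticForm F (ι → F)}

omit [Finite F] in
/-- The standard field automorphism is induced by the coordinatewise semisimilarity. -/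
theorem isFieldAut_iff {σ : F ≃+* F} (h : ∀ v, Q (fun i => σ (v i)) = σ (Q v))
    {φ : MulAut (Cfsg.POmega F ⇑Q)} (hφ : Cfsg.IsFieldAutPOmegaOf ⇑Q σ φ) :
    φ = pomHom Q (coordSemi σ h) := by
  refine (induced_iff _).mp fun s s' hs => hφ s s' ?_
  rw [hs, show (coordSemi σ h).mat = 1 from Semi.mat_eq fun v => by
    rw [Units.val_one, Matrix.one_mulVec]; rfl]
  simp [coordSemi]

/-- A conjugate of a standard field automorphism is induced by a semisimilarity of the same order. -/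
theorem fieldClass_lift (hQ : Big Q) (hs : Shape Q)
    (hc : ∀ (σ : F ≃+* F) (v : ι → F), Q (fun i => σ (v i)) = σ (Q v))
    {x : MulAut (Cfsg.POmega F ⇑Q)} (hx : Cfsg.IsFieldAutClassPOmega ⇑Q x) :
    ∃ (σ : RingAut F) (Y T₀ : Semi Q), orderOf σ = orderOf x ∧ Y.σ = σ ∧ Y ^ orderOf x = 1 ∧
      x = pomHom Q Y ∧ T₀ = coordHom hc σ ∧ ∃ S : Semi Q, Y = S⁻¹ * T₀ * S := by
  obtain ⟨α, φ, σ, -, hφ, hconj⟩ := hx
  obtain ⟨S, rfl⟩ := pomHom_surjective hQ hs α
  set T₀ := coordHom hc σ with hT₀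
  have hT₀pow : T₀ ^ orderOf (σ : RingAut F) = 1 := by
    rw [hT₀, ← map_pow, pow_orderOf_eq_one, map_one]
  set Y := S⁻¹ * T₀ * S with hY
  have hYσ : Y.σ = σ := by
    change (sigmaHom Q) Y = σ
    rw [hY, map_mul, map_mul, map_inv, mul_assoc, CfsgLib.AutPSL.ringAut_comm ((sigmaHom Q) T₀),
      inv_mul_cancel_left]
    rfl
  have hxY : x = pomHom Q Y := by
    rw [hY, map_mul, map_mul, map_inv, show pomHom Q T₀ = φ from (isFieldAut_iff (hc σ) hφ).symm,
      ← hconj]
    group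
  have hYr : Y ^ orderOf (σ : RingAut F) = 1 := by
    rw [hY]
    have := conj_pow (a := S⁻¹) (b := T₀) (i := orderOf (σ : RingAut F))
    rw [inv_inv] at this
    rw [this, hT₀pow, mul_one, inv_mul_cancel]
  have hord : orderOf (σ : RingAut F) = orderOf x := by
    rw [hxY, orderOf_pomHom hQ rfl hYσ hYr]
  exact ⟨σ, Y, T₀, hord, hYσ, hord ▸ hYr, hxY, rfl, S, rfl⟩

section base

variable {K : Type*} [Field K] {f : K →+* F} {κ : Type} [Fintype κ] [DecidableEq κ]
  {Q0 : QuadraticForm K (κ → K)} {Qs : QuadraticForm F (κ → F)} (hs : IsBase f Q0 Qs)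
  (J : (κ → F) ≃ₗ[F] (ι → F)) (w : Fˣ) (hJ : ∀ u, Q (J u) = (w : F) * Qs u)

omit [Finite F] [Fintype ι] [DecidableEq ι] in
theorem scalarHom_transport (u : Fˣ) :
    transport J w hJ (scalarHom Qs u) = scalarHom Q u :=
  Semi.ext' rfl (fun v => by
    change J ((u : F) • J.symm v) = (u : F) • v
    rw [map_smul, J.apply_symm_apply]) (by
    rw [transport_c]
    change u * u * w * (Units.map (RingEquiv.refl F).toMonoidHom w)⁻¹ = u * u
    rw [show Units.map (RingEquiv.refl F).toMonoidHom w = w from Units.ext rfl, mul_inv_cancel_right])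

omit [Finite F] in
theorem IsBase.extHom_scalar (u : Kˣ) :
    hs.extHom ⟨scalarHom Q0 u, mem_simGroup.mpr rfl⟩ = scalarHom Qs (Units.map f.toMonoidHom u) := by
  obtain ⟨h1, h2, h3⟩ := hs.extHom_spec ⟨scalarHom Q0 u, mem_simGroup.mpr rfl⟩
  refine Semi.ext' ((mem_simGroup.mp h1).trans rfl) (fun v => ?_) (Units.ext ?_)
  · rw [Semi.T_eq_mulVec_of_refl (mem_simGroup.mp h1), h2,
      show ((scalarHom Q0 u).mat : Matrix κ κ K) = (u : K) • 1 from
        Matrix.toLin'.injective (LinearMap.ext fun z => by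
          rw [Matrix.toLin'_apply, Semi.mat_mulVec, Matrix.toLin'_apply, Matrix.smul_mulVec,
            Matrix.one_mulVec]
          rfl)]
    funext i
    simp [Matrix.mulVec, dotProduct, Matrix.one_apply, scalarHom_apply, Semi.scalar_T,
      apply_ite f]
  · rw [h3]
    exact map_mul f _ _

omit [Finite F] in
/-- Reflections extend to reflections. -/
theorem transport_extHom_refl {z : κ → K} (hz : Q0 z ≠ 0) :
    transport J w hJ (hs.extHom ⟨isoHom Q0 (refl Q0 z), mem_simGroup.mpr rfl⟩) =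
      isoHom Q (refl Q (J (extVec f z))) := by
  obtain ⟨h1, h2, h3⟩ := hs.extHom_spec ⟨isoHom Q0 (refl Q0 z), mem_simGroup.mpr rfl⟩
  have hσ := mem_simGroup.mp h1
  have hc : (hs.extHom ⟨isoHom Q0 (refl Q0 z), mem_simGroup.mpr rfl⟩).c = 1 := Units.ext (by
    rw [h3]; exact map_one f)
  have hfz : f (Q0 z) ≠ 0 := fun e => hz (f.injective (e.trans (map_zero f).symm))
  have hrefl : hs.extHom ⟨isoHom Q0 (refl Q0 z), mem_simGroup.mpr rfl⟩ =
      isoHom Qs (refl Qs (extVec f z)) := by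
    refine Semi.ext_mat (hσ.trans rfl) (Units.ext (Matrix.toLin'.injective
      ((Pi.basisFun F κ).ext fun i => ?_))) hc
    rw [Matrix.toLin'_apply, Matrix.toLin'_apply, h2, Pi.basisFun_apply, ← extVec_single f,
      map_mulVec_ext, ← Semi.T_eq_mulVec_of_refl (S := isoHom Q0 (refl Q0 z)) rfl,
      ← Semi.T_eq_mulVec_of_refl (S := isoHom Qs (refl Qs (extVec f z))) rfl]
    change extVec f ((refl Q0 z).1 _) = (refl Qs (extVec f z)).1 _
    rw [refl_apply, refl_apply, extVec_add, extVec_smul, hs, hs.polar]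
    simp only [map_mul, map_neg, map_inv₀]
  rw [hrefl]
  refine Semi.ext' rfl (fun v => ?_) ?_
  · rw [transport_T]
    change J ((refl Qs (extVec f z)).1 (J.symm v)) = (refl Q (J (extVec f z))).1 v
    obtain ⟨u, rfl⟩ := J.surjective v
    rw [J.symm_apply_apply, refl_apply, refl_apply, map_add, map_smul, hJ,
      show QuadraticMap.polar Q (J u) (J (extVec f z)) = (w : F) * QuadraticMap.polar Qs u (extVec f z) by
        simp only [QuadraticMap.polar, ← map_add, hJ]; ring]
    congr 2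
    have := w.ne_zero
    rw [mul_inv]
    field_simp
  · rw [transport_c]
    change (1 : Fˣ) * w * (Units.map (RingEquiv.refl F).toMonoidHom w)⁻¹ = 1
    rw [show Units.map (RingEquiv.refl F).toMonoidHom w = w from Units.ext rfl, one_mul, mul_inv_cancel]

variable (hQ : Big Q) {A : Subgroup (Semi Q)}
include hQ

/-- The kernel of the map of the small group consists of the scalars. -/
theorem baseMap_eq_one_iff [Finite K] (hQ0 : Big Q0) (L : ↥(baseGroup (A := A) hs J w hJ)) :
    baseMap (A := A) hs J w hJ L = 1 ↔ pomHom Q0 L.1.1 = 1 := by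
  rw [pomHom_eq_one_iff, mem_ker_pgHom hQ0]
  change pomHom Q (transport J w hJ (hs.extHom L.1)) = 1 ↔ _
  rw [pomHom_eq_one_iff, mem_ker_pgHom hQ]
  constructor
  · rintro ⟨u, hu⟩
    rw [← scalarHom_transport J w hJ] at hu
    have h1 := (transport J w hJ).injective hu
    obtain ⟨z, hz⟩ := exists_aniso hQ0.nd (by have := hQ0.dim; omega)
    have hz0 : z ≠ 0 := fun e => hz (by rw [e, QuadraticMap.map_zero])
    obtain ⟨i, hi⟩ := Function.ne_iff.mp hz0
    have h2 : extVec f (L.1.1.T z) = (u : F) • extVec f z := by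
      rw [← hs.extHom_T, h1]
      rfl
    have h3 : f (L.1.1.T z i) = (u : F) * f (z i) := congrFun h2 i
    have hfi : f (z i) ≠ 0 := fun e => hi (f.injective (e.trans (map_zero f).symm))
    have hk : (u : F) = f (L.1.1.T z i / z i) := by
      rw [map_div₀, h3, mul_div_cancel_right₀ _ hfi]
    have hk0 : L.1.1.T z i / z i ≠ 0 := fun e => u.ne_zero (by rw [hk, e, map_zero])
    refine ⟨Units.mk0 _ hk0, congrArg Subtype.val (hs.extHom_injective (a₁ := L.1)
      (a₂ := ⟨scalarHom Q0 (Units.mk0 _ hk0), mem_simGroup.mpr rfl⟩) ?_)⟩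
    rw [hs.extHom_scalar, h1]
    exact congrArg _ (Units.ext hk)
  · rintro ⟨k, hk⟩
    refine ⟨Units.map f.toMonoidHom k, ?_⟩
    rw [show L.1 = ⟨scalarHom Q0 k, mem_simGroup.mpr rfl⟩ from Subtype.ext hk, hs.extHom_scalar,
      scalarHom_transport]

/-- The centraliser is the small group. -/
theorem nonempty_range_baseMap_equiv [Finite K] (hQ0 : Big Q0) {B : Subgroup (Semi Q0)}
    (hB : B ≤ simGroup Q0)
    (hBA : ∀ L : ↥(simGroup Q0), L.1 ∈ B ↔ transport J w hJ (hs.extHom L) ∈ A) :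
    Nonempty (↥(baseMap (A := A) hs J w hJ).range ≃* ↥(B.map (pomHom Q0))) := by
  let φ : ↥(baseGroup (A := A) hs J w hJ) →* MulAut (Cfsg.POmega K ⇑Q0) :=
    (pomHom Q0).comp ((simGroup Q0).subtype.comp (baseGroup (A := A) hs J w hJ).subtype)
  have hker : (baseMap (A := A) hs J w hJ).ker = φ.ker := by
    ext L
    rw [MonoidHom.mem_ker, MonoidHom.mem_ker]
    exact baseMap_eq_one_iff hs J w hJ hQ hQ0 L
  have hrange : φ.range = B.map (pomHom Q0) := by
    ext x
    constructor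
    · rintro ⟨L, rfl⟩
      exact ⟨L.1.1, (hBA L.1).mpr L.2, rfl⟩
    · rintro ⟨L, hL, rfl⟩
      exact ⟨⟨⟨L, hB hL⟩, (hBA ⟨L, hB hL⟩).mp hL⟩, rfl⟩
  exact ⟨(QuotientGroup.quotientKerEquivRange _).symm.trans
    ((QuotientGroup.quotientMulEquivOfEq hker).trans
      ((QuotientGroup.quotientKerEquivRange φ).trans (MulEquiv.subgroupCongr hrange)))⟩

omit hQ in
/-- The part of the small group outside the inner automorphisms. -/
noncomputable def baseOut : ↥(baseGroup (A := A) hs J w hJ) →* Cfsg.Out (Cfsg.POmega F ⇑Q) :=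
  ((outHom Q).comp ((transport J w hJ).toMonoidHom.comp hs.extHom)).comp
    (baseGroup (A := A) hs J w hJ).subtype

omit hQ in
theorem baseOut_apply (L : ↥(baseGroup (A := A) hs J w hJ)) :
    baseOut (A := A) hs J w hJ L = outHom Q (transport J w hJ (hs.extHom L.1)) := rfl

omit hQ in
theorem splitClassCount_baseMap {x : MulAut (Cfsg.POmega F ⇑Q)}
    (hC : A.map (pomHom Q) ⊓ Subgroup.centralizer {x} = (baseMap (A := A) hs J w hJ).range)
    (hΩ : ∀ g : ↥(Om Q), isoHom Q g.1 ∈ A) :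
    Cfsg.splitClassCount (A.map (pomHom Q)) (Cfsg.Inn (Cfsg.POmega F ⇑Q)) x =
      (baseOut (A := A) hs J w hJ).range.relIndex (A.map (outHom Q)) := by
  have hInn : Cfsg.Inn (Cfsg.POmega F ⇑Q) ≤ A.map (pomHom Q) := by
    rintro _ ⟨y, rfl⟩
    obtain ⟨g, hg⟩ := QuotientGroup.mk'_surjective _ (pOmegaEquiv Q y)
    refine ⟨isoHom Q g.1, hΩ g, ?_⟩
    rw [pomHom_iso_conj, hg, MulEquiv.symm_apply_apply]
  rw [CfsgLib.AutPSL.splitClassCount_eq _ _ hInn, hC, sup_comm]
  have h1 : ((baseMap (A := A) hs J w hJ).range.map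
      (QuotientGroup.mk' (Cfsg.Inn (Cfsg.POmega F ⇑Q)))).comap
      (QuotientGroup.mk' (Cfsg.Inn (Cfsg.POmega F ⇑Q))) =
      (baseMap (A := A) hs J w hJ).range ⊔ Cfsg.Inn (Cfsg.POmega F ⇑Q) := by
    rw [Subgroup.comap_map_eq, QuotientGroup.ker_mk']
  rw [← h1, Subgroup.relIndex_comap, Subgroup.map_map]
  congr 1
  rw [MonoidHom.range_eq_map, Subgroup.map_map, ← MonoidHom.range_eq_map]
  rfl

end base

end CfsgLib.AutPOm
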