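import Cfsg.Agent.AutPOm.Card
import Mathlib.FieldTheory.Perfect
import Mathlib.LinearAlgebra.Matrix.SesquilinearForm

/-!
Semisimilarities of the three standard forms.
-/

set_option autoImplicit false
set_option linter.style.haveILetI false

namespace CfsgLib.AutPOm

open QuadraticMap CfsgLib.Forms CfsgLib.Quad Matrix

variable {F : Type*} [Field F]

section coord

variable {ι : Type} [Fintype ι] [DecidableEq ι] {Q : QuadraticForm F (ι → F)}

/-- A field automorphism applied to every coordinate. -/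
def coordSemi (σ : F ≃+* F) (h : ∀ v : ι → F, Q (fun i => σ (v i)) = σ (Q v)) : Semi Q where
  σ := σ
  T :=
    { toFun := fun v i => σ (v i)
      invFun := fun v i => σ.symm (v i)
      left_inv := fun v => by funext i; simp
      right_inv := fun v => by funext i; simp
      map_add' := fun u v => by funext i; simp }
  c := 1
  smul a v := by funext i; simp
  quad v := by rw [Units.val_one, one_mul]; exact h v

/-- The coordinatewise action of the field automorphisms. -/
def coordHom (h : ∀ (σ : F ≃+* F) (v : ι → F), Q (fun i => σ (v i)) = σ (Q v)) :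
    RingAut F →* Semi Q where
  toFun σ := coordSemi σ (h σ)
  map_one' := Semi.ext' rfl (fun _ => rfl) rfl
  map_mul' σ τ := Semi.ext' rfl (fun _ => rfl) (Units.ext (by
    rw [Semi.mul_c]
    change (1 : F) = 1 * σ 1
    rw [map_one, one_mul]))

theorem coordHom_apply_T (h : ∀ (σ : F ≃+* F) (v : ι → F), Q (fun i => σ (v i)) = σ (Q v))
    (σ : RingAut F) (v : ι → F) : (coordHom h σ).T v = fun i => σ (v i) := rfl

theorem coordHom_σ (h : ∀ (σ : F ≃+* F) (v : ι → F), Q (fun i => σ (v i)) = σ (Q v))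
    (σ : RingAut F) : (coordHom h σ).σ = σ := rfl

/-- In odd dimension the multiplier of a similarity is a square. -/
theorem isSquare_mult_of_odd (hQ : (polarBilin Q).Nondegenerate) (hodd : Odd (Fintype.card ι))
    (S : Semi Q) (hσ : S.σ = RingEquiv.refl F) : IsSquare (S.c : F) := by
  let L : (ι → F) →ₗ[F] (ι → F) :=
    { toFun := fun v => S.T v
      map_add' := fun u v => map_add _ u v
      map_smul' := fun a v => by rw [S.smul, hσ]; rfl }
  set A := LinearMap.toMatrix' L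
  set G := LinearMap.toMatrix₂' F (polarBilin Q)
  have hcomp : (polarBilin Q).compl₁₂ L L = (S.c : F) • polarBilin Q := by
    refine LinearMap.ext fun u => LinearMap.ext fun v => ?_
    change polar Q (S.T u) (S.T v) = (S.c : F) * polar Q u v
    rw [S.polar_map, hσ]
    rfl
  have hG : A.transpose * G * A = (S.c : F) • G := by
    rw [← LinearMap.toMatrix₂'_compl₁₂, hcomp, map_smul]
  have hdet : G.det ≠ 0 := by
    rw [← Matrix.nondegenerate_iff_det_ne_zero]
    exact LinearMap.nondegenerate_toMatrix₂'_iff.mpr hQ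
  have h := congrArg Matrix.det hG
  rw [Matrix.det_mul, Matrix.det_mul, Matrix.det_transpose, Matrix.det_smul,
    mul_right_comm] at h
  have h1 : (S.c : F) ^ Fintype.card ι = A.det * A.det := (mul_right_cancel₀ hdet h).symm
  obtain ⟨k, hk⟩ := hodd
  refine ⟨A.det / (S.c : F) ^ k, ?_⟩
  rw [div_mul_div_comm, ← h1, hk, eq_div_iff (mul_ne_zero (pow_ne_zero _ S.c.ne_zero)
    (pow_ne_zero _ S.c.ne_zero))]
  ring

end coord

theorem oddQ_coord (m : ℕ) (σ : F ≃+* F) (v : Unit ⊕ (Fin m ⊕ Fin m) → F) :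
    oddQ m (fun i => σ (v i)) = σ (oddQ m v) := by
  simp [oddQ_coe, Cfsg.quadFormOdd, map_sum, map_mul, map_pow]

theorem plusQ_coord (m : ℕ) (σ : F ≃+* F) (v : Fin m ⊕ Fin m → F) :
    plusQ m (fun i => σ (v i)) = σ (plusQ m v) := by
  simp [plusQ_coe, Cfsg.quadFormPlus, map_sum, map_mul]

/-- The similarity scaling half of the hyperbolic coordinates. -/
def plusScale (m : ℕ) (c : Fˣ) : Semi (plusQ (F := F) m) where
  σ := RingEquiv.refl F
  T :=
    { toFun := fun v => Sum.elim (fun i => (c : F) * v (.inl i)) (fun i => v (.inr i))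
      invFun := fun v => Sum.elim (fun i => ((c⁻¹ : Fˣ) : F) * v (.inl i)) (fun i => v (.inr i))
      left_inv := fun v => by funext i; rcases i with i | i <;> simp
      right_inv := fun v => by funext i; rcases i with i | i <;> simp
      map_add' := fun u v => by funext i; rcases i with i | i <;> simp [mul_add] }
  c := c
  smul a v := by
    funext i
    rcases i with i | i
    · exact mul_left_comm _ _ _
    · rfl
  quad v := by
    simp [plusQ_coe, Cfsg.quadFormPlus, Finset.mul_sum, mul_assoc]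

section binary

variable {a b : F}

theorem bin_norm_mul (a b w₁ w₂ z₁ z₂ : F) :
    (w₁ * z₁ - b * w₂ * z₂) ^ 2 + a * (w₁ * z₁ - b * w₂ * z₂) * (w₁ * z₂ + w₂ * z₁ + a * w₂ * z₂) +
      b * (w₁ * z₂ + w₂ * z₁ + a * w₂ * z₂) ^ 2 =
      (w₁ ^ 2 + a * w₁ * w₂ + b * w₂ ^ 2) * (z₁ ^ 2 + a * z₁ * z₂ + b * z₂ ^ 2) := by
  ring

theorem disc_nonsquare (h2 : (2 : F) ≠ 0)
    (hab : ∀ z₁ z₂ : F, z₁ ^ 2 + a * z₁ * z₂ + b * z₂ ^ 2 = 0 → z₁ = 0 ∧ z₂ = 0) :
    ¬ IsSquare (a ^ 2 - 4 * b) := by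
  rintro ⟨r, hr⟩
  have := (hab ((-a + r) / 2) 1 (by field_simp; linear_combination -hr)).2
  exact one_ne_zero this

theorem a_ne_zero [Finite F] (h2 : (2 : F) = 0)
    (hab : ∀ z₁ z₂ : F, z₁ ^ 2 + a * z₁ * z₂ + b * z₂ ^ 2 = 0 → z₁ = 0 ∧ z₂ = 0) : a ≠ 0 := by
  intro ha
  have := disc_ne_zero hab
  rw [ha] at this
  exact this (by linear_combination 2 * b * h2)

variable [Finite F]

/-- The binary form takes every non-zero value. -/
theorem exists_bin_norm (hab : ∀ z₁ z₂ : F, z₁ ^ 2 + a * z₁ * z₂ + b * z₂ ^ 2 = 0 → z₁ = 0 ∧ z₂ = 0)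
    (c : F) : ∃ w₁ w₂ : F, w₁ ^ 2 + a * w₁ * w₂ + b * w₂ ^ 2 = c := by
  by_cases h2 : (2 : F) = 0
  · haveI : CharP F 2 := CharTwo.of_one_ne_zero_of_two_eq_zero one_ne_zero h2
    obtain ⟨r, hr⟩ := isSquare_char_two c
    exact ⟨r, 0, by rw [hr]; ring⟩
  · have h4 : (4 : F) ≠ 0 := by
      rw [show (4 : F) = 2 * 2 by norm_num]
      exact mul_ne_zero h2 h2
    have hd : b - a ^ 2 / 4 ≠ 0 := by
      intro h
      have := disc_ne_zero hab
      field_simp at h
      exact this (by linear_combination h)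
    obtain ⟨x, y, hxy⟩ := exists_binary h2 one_ne_zero hd c
    refine ⟨x - a / 2 * y, y, ?_⟩
    rw [← hxy]
    field_simp
    ring

/-- Any two anisotropic binary forms are related by a substitution `(s, t)`. -/
theorem exists_st {a' b' : F}
    (hab : ∀ z₁ z₂ : F, z₁ ^ 2 + a * z₁ * z₂ + b * z₂ ^ 2 = 0 → z₁ = 0 ∧ z₂ = 0)
    (hab' : ∀ z₁ z₂ : F, z₁ ^ 2 + a' * z₁ * z₂ + b' * z₂ ^ 2 = 0 → z₁ = 0 ∧ z₂ = 0) :
    ∃ s t : F, t ≠ 0 ∧ 2 * s + a * t = a' ∧ s ^ 2 + a * s * t + b * t ^ 2 = b' := by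
  by_cases h2 : (2 : F) = 0
  · haveI : CharP F 2 := CharTwo.of_one_ne_zero_of_two_eq_zero one_ne_zero h2
    have ha := a_ne_zero h2 hab
    have ha' := a_ne_zero h2 hab'
    let Φ : F →+ F := AddMonoidHom.mk' (fun y => y * y + y)
      fun x y => by linear_combination (x * y) * h2
    have hout : ∀ (a b : F), a ≠ 0 →
        (∀ z₁ z₂ : F, z₁ ^ 2 + a * z₁ * z₂ + b * z₂ ^ 2 = 0 → z₁ = 0 ∧ z₂ = 0) →
        b / a ^ 2 ∉ Φ.range := by
      rintro a b ha hab ⟨y, hy⟩
      change y * y + y = b / a ^ 2 at hy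
      refine one_ne_zero (hab (a * y) 1 ?_).2
      field_simp at hy
      linear_combination hy + b * h2
    have hindex : Φ.range.index = 2 := by
      have hk : Nat.card Φ.ker = 2 := by
        refine Nat.card_eq_two_iff.mpr ⟨0, ⟨1, ?_⟩, fun e => one_ne_zero (congrArg Subtype.val e).symm, ?_⟩
        · change (1 : F) * 1 + 1 = 0
          linear_combination h2
        · refine Set.eq_univ_iff_forall.mpr fun x => ?_
          have hx : (x : F) * x + x = 0 := x.2
          rcases mul_eq_zero.mp (show (x : F) * (x + 1) = 0 by linear_combination hx) with h | h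
          · exact Or.inl (Subtype.ext h)
          · exact Or.inr (Subtype.ext (by
              change (x : F) = 1
              linear_combination h - h2))
      have h1 := Φ.range.card_mul_index
      rw [AddSubgroup.card_eq_card_quotient_mul_card_addSubgroup Φ.ker,
        Nat.card_congr (QuotientAddGroup.quotientKerEquivRange Φ).toEquiv, hk] at h1
      exact Nat.eq_of_mul_eq_mul_left Nat.card_pos h1
    obtain ⟨y, hy⟩ : b' / a' ^ 2 + b / a ^ 2 ∈ Φ.range :=
      (AddSubgroup.add_mem_iff_of_index_two hindex).mpr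
        (iff_of_false (hout a' b' ha' hab') (hout a b ha hab))
    change y * y + y = _ at hy
    refine ⟨a' * y, a' / a, div_ne_zero ha' ha, ?_, ?_⟩
    · rw [mul_div_cancel₀ _ ha]
      linear_combination (a' * y) * h2
    · field_simp at hy ⊢
      linear_combination hy + b * a' ^ 2 * h2
  · obtain ⟨r, hr⟩ := isSquare_div_of_nonsquare h2 (disc_nonsquare h2 hab') (disc_nonsquare h2 hab)
    have hd : a ^ 2 - 4 * b ≠ 0 := fun h => disc_nonsquare h2 hab (h ▸ ⟨0, by ring⟩)
    have hr' : a' ^ 2 - 4 * b' = r * r * (a ^ 2 - 4 * b) := by rw [← hr, div_mul_cancel₀ _ hd]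
    refine ⟨(a' - a * r) / 2, r, fun h => ?_, by field_simp; ring, ?_⟩
    · rw [h] at hr'
      exact disc_nonsquare h2 hab' ⟨0, by rw [hr']; ring⟩
    · field_simp
      linear_combination hr'

/-- The coordinate map behind `minusSemi`. -/
def minusFun (m : ℕ) (a b : F) (σ : F ≃+* F) (c w₁ w₂ s t : F)
    (v : (Fin m ⊕ Fin m) ⊕ Fin 2 → F) : (Fin m ⊕ Fin m) ⊕ Fin 2 → F :=
  Sum.elim (Sum.elim (fun i => c * σ (v (.inl (.inl i)))) (fun i => σ (v (.inl (.inr i)))))
    ![w₁ * (σ (v (.inr 0)) + s * σ (v (.inr 1))) - b * w₂ * (t * σ (v (.inr 1))),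
      w₁ * (t * σ (v (.inr 1))) + w₂ * (σ (v (.inr 0)) + s * σ (v (.inr 1))) +
        a * w₂ * (t * σ (v (.inr 1)))]

omit [Finite F] in
theorem minusFun_quad (m : ℕ) (σ : F ≃+* F) {c w₁ w₂ s t : F}
    (hw : w₁ ^ 2 + a * w₁ * w₂ + b * w₂ ^ 2 = c) (h1 : 2 * s + a * t = σ a)
    (h2 : s ^ 2 + a * s * t + b * t ^ 2 = σ b) (v : (Fin m ⊕ Fin m) ⊕ Fin 2 → F) :
    minusQ m a b (minusFun m a b σ c w₁ w₂ s t v) = c * σ (minusQ m a b v) := by
  simp only [minusQ_coe, Cfsg.quadFormMinus, minusFun, Sum.elim_inl, Sum.elim_inr,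
    Matrix.cons_val_zero, Matrix.cons_val_one, map_add, map_mul, map_pow, map_sum, mul_add,
    Finset.mul_sum, mul_assoc]
  have h := bin_norm_mul a b w₁ w₂ (σ (v (.inr 0)) + s * σ (v (.inr 1))) (t * σ (v (.inr 1)))
  linear_combination h + ((σ (v (.inr 0)) + s * σ (v (.inr 1))) ^ 2 +
      a * (σ (v (.inr 0)) + s * σ (v (.inr 1))) * (t * σ (v (.inr 1))) +
      b * (t * σ (v (.inr 1))) ^ 2) * hw +
    c * (σ (v (.inr 0)) * σ (v (.inr 1))) * h1 + c * σ (v (.inr 1)) ^ 2 * h2

variable (hab : ∀ z₁ z₂ : F, z₁ ^ 2 + a * z₁ * z₂ + b * z₂ ^ 2 = 0 → z₁ = 0 ∧ z₂ = 0)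
include hab

/-- A semisimilarity of the minus form. -/
noncomputable def minusSemi (m : ℕ) (σ : F ≃+* F) (c : Fˣ) (w₁ w₂ s t : F)
    (hw : w₁ ^ 2 + a * w₁ * w₂ + b * w₂ ^ 2 = (c : F)) (h1 : 2 * s + a * t = σ a)
    (h2 : s ^ 2 + a * s * t + b * t ^ 2 = σ b) : Semi (minusQ m a b) where
  σ := σ
  T := AddEquiv.ofBijective
    (AddMonoidHom.mk' (minusFun m a b σ (c : F) w₁ w₂ s t) fun u v => by
      funext i
      rcases i with (i | i) | i
      · simp [minusFun, mul_add]
      · simp [minusFun]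
      · fin_cases i <;> simp [minusFun] <;> ring)
    (Finite.injective_iff_bijective.mp ((injective_iff_map_eq_zero _).mpr fun v hv => by
      change minusFun m a b σ (c : F) w₁ w₂ s t v = 0 at hv
      have hl : ∀ i, v (.inl (.inl i)) = 0 := fun i => by
        simpa [minusFun] using congrFun hv (.inl (.inl i))
      have hr : ∀ i, v (.inl (.inr i)) = 0 := fun i => by
        simpa [minusFun] using congrFun hv (.inl (.inr i))
      have hq := minusFun_quad m σ hw h1 h2 v
      rw [hv, QuadraticMap.map_zero, eq_comm, mul_eq_zero, map_eq_zero_iff σ σ.injective,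
        minusQ_coe] at hq
      have hq' := hq.resolve_left c.ne_zero
      simp only [Cfsg.quadFormMinus, hl, hr, mul_zero, Finset.sum_const_zero, zero_add] at hq'
      obtain ⟨e0, e1⟩ := hab _ _ hq'
      funext i
      rcases i with (i | i) | i
      · exact hl i
      · exact hr i
      · fin_cases i <;> assumption))
  c := c
  smul x v := by
    change minusFun m a b σ (c : F) w₁ w₂ s t (x • v) = σ x • minusFun m a b σ (c : F) w₁ w₂ s t v
    funext i
    rcases i with (i | i) | i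
    · simp [minusFun]; ring
    · simp [minusFun]
    · fin_cases i <;> simp [minusFun] <;> ring
  quad := minusFun_quad m σ hw h1 h2

theorem minusSemi_T (m : ℕ) (σ : F ≃+* F) (c : Fˣ) (w₁ w₂ s t : F)
    (hw : w₁ ^ 2 + a * w₁ * w₂ + b * w₂ ^ 2 = (c : F)) (h1 : 2 * s + a * t = σ a)
    (h2 : s ^ 2 + a * s * t + b * t ^ 2 = σ b) (v : (Fin m ⊕ Fin m) ⊕ Fin 2 → F) :
    (minusSemi hab m σ c w₁ w₂ s t hw h1 h2).T v = minusFun m a b σ (c : F) w₁ w₂ s t v := rfl

theorem minus_sigma_surjective (m : ℕ) : Function.Surjective (sigmaHom (minusQ m a b)) := fun σ => by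
  obtain ⟨s, t, -, h1, h2⟩ := exists_st hab (a' := σ a) (b' := σ b) fun z₁ z₂ hz => by
    obtain ⟨e1, e2⟩ := hab (σ.symm z₁) (σ.symm z₂) (σ.injective (by
      simp only [map_add, map_mul, map_pow, map_zero, RingEquiv.apply_symm_apply]
      exact hz))
    exact ⟨by simpa using congrArg σ e1, by simpa using congrArg σ e2⟩
  exact ⟨minusSemi hab m σ 1 1 0 s t (by simp) h1 h2, rfl⟩

theorem minus_exists_mult (m : ℕ) (c : Fˣ) :
    ∃ S : Semi (minusQ m a b), S.σ = RingEquiv.refl F ∧ S.c = c := by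
  obtain ⟨w₁, w₂, hw⟩ := exists_bin_norm hab (c : F)
  exact ⟨minusSemi hab m (RingEquiv.refl F) c w₁ w₂ 0 1 hw (by simp) (by simp), rfl, rfl⟩

end binary

end CfsgLib.AutPOm
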